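import Mathlib

/-!
# The Newton relation between "elementary" and "power sum" sequences (helper9)
-/

set_option autoImplicit false

namespace Groth.Agent.H9.Lambda

open Finset

variable {A : Type*} [CommRing A]

/-- `l` (with `l 0 = 1`) and `s` (indices `≥ 1`) are related by Newton's identities -/
def IsNewton (l s : ℕ → A) : Prop :=
  l 0 = 1 ∧ ∀ n : ℕ, ((n + 1 : ℕ) : A) * l (n + 1) =
    ∑ i ∈ range (n + 1), (-1) ^ i * s (i + 1) * l (n - i)

theorem IsNewton.map {A' : Type*} [CommRing A'] (f : A →+* A') {l s : ℕ → A} (h : IsNewton l s) :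
    IsNewton (fun n => f (l n)) (fun n => f (s n)) := by
  refine ⟨by simp [h.1], fun n => ?_⟩
  have := congrArg f (h.2 n)
  simpa [map_sum] using this

/-- `s` is determined by `l` -/
theorem IsNewton.s_unique {l l' s s' : ℕ → A} (h : IsNewton l s) (h' : IsNewton l' s') (N : ℕ)
    (hl : ∀ m ≤ N, l m = l' m) : ∀ k, 1 ≤ k → k ≤ N → s k = s' k := by
  intro k
  induction k using Nat.strong_induction_on with
  | _ k ih =>
    intro hk1 hkN
    obtain ⟨n, rfl⟩ : ∃ n, k = n + 1 := ⟨k - 1, by omega⟩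
    have e1 := h.2 n
    have e2 := h'.2 n
    rw [Finset.sum_range_succ, Nat.sub_self, h.1, mul_one] at e1
    rw [Finset.sum_range_succ, Nat.sub_self, h'.1, mul_one] at e2
    have hsum : ∑ i ∈ range n, (-1) ^ i * s (i + 1) * l (n - i) =
        ∑ i ∈ range n, (-1) ^ i * s' (i + 1) * l' (n - i) := by
      refine Finset.sum_congr rfl fun i hi => ?_
      rw [Finset.mem_range] at hi
      rw [ih (i + 1) (by omega) (by omega) (by omega), hl (n - i) (by omega)]
    rw [hl (n + 1) hkN, hsum] at e1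
    have e3 : (-1 : A) ^ n * s (n + 1) = (-1) ^ n * s' (n + 1) := by
      have := e1.symm.trans e2
      exact add_left_cancel this
    have hunit : IsUnit ((-1 : A) ^ n) := (isUnit_one.neg).pow n
    exact hunit.mul_left_cancel e3

/-- `l` is determined by `s` over a `ℚ`-algebra -/
theorem IsNewton.l_unique [Algebra ℚ A] {l l' s s' : ℕ → A} (h : IsNewton l s) (h' : IsNewton l' s')
    (N : ℕ) (hs : ∀ k, 1 ≤ k → k ≤ N → s k = s' k) : ∀ m ≤ N, l m = l' m := by
  intro m
  induction m using Nat.strong_induction_on with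
  | _ m ih =>
    intro hmN
    rcases Nat.eq_zero_or_pos m with rfl | hpos
    · rw [h.1, h'.1]
    obtain ⟨n, rfl⟩ : ∃ n, m = n + 1 := ⟨m - 1, by omega⟩
    have e1 := h.2 n
    have e2 := h'.2 n
    have hsum : ∑ i ∈ range (n + 1), (-1) ^ i * s (i + 1) * l (n - i) =
        ∑ i ∈ range (n + 1), (-1) ^ i * s' (i + 1) * l' (n - i) := by
      refine Finset.sum_congr rfl fun i hi => ?_
      rw [Finset.mem_range] at hi
      rw [hs (i + 1) (by omega) (by omega), ih (n - i) (by omega) (by omega)]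
    rw [hsum, ← e2] at e1
    have hunit : IsUnit (((n + 1 : ℕ) : A)) := by
      have : ((n + 1 : ℕ) : A) = algebraMap ℚ A ((n + 1 : ℕ) : ℚ) := by simp
      rw [this]
      apply IsUnit.map
      exact isUnit_iff_ne_zero.2 (by positivity)
    exact hunit.mul_left_cancel e1

/-- the power sums determined by `l` -/
def newtonS (l : ℕ → A) : ℕ → A
  | 0 => 0
  | n + 1 => (-1) ^ n * (((n + 1 : ℕ) : A) * l (n + 1) -
      ∑ i : Fin n, (-1) ^ (i : ℕ) * newtonS l ((i : ℕ) + 1) * l (n - i))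
  decreasing_by
    have := i.2
    omega

theorem isNewton_newtonS {l : ℕ → A} (hl : l 0 = 1) : IsNewton l (newtonS l) := by
  refine ⟨hl, fun n => ?_⟩
  rw [Finset.sum_range_succ, Nat.sub_self, hl, mul_one]
  conv_rhs => rw [newtonS]
  rw [← mul_assoc, ← pow_add, ← two_mul, pow_mul]
  rw [Finset.sum_range]
  simp

/-- the elementary sequence determined by `s` over a `ℚ`-algebra -/
noncomputable def newtonE [Algebra ℚ A] (s : ℕ → A) : ℕ → A
  | 0 => 1
  | n + 1 => algebraMap ℚ A (1 / ((n + 1 : ℕ) : ℚ)) *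
      ∑ i : Fin (n + 1), (-1) ^ (i : ℕ) * s ((i : ℕ) + 1) * newtonE s (n - i)
  decreasing_by
    have := i.2
    omega

theorem isNewton_newtonE [Algebra ℚ A] (s : ℕ → A) : IsNewton (newtonE s) s := by
  refine ⟨by rw [newtonE], fun n => ?_⟩
  conv_lhs => rw [newtonE]
  rw [← mul_assoc, Finset.sum_range]
  have : ((n + 1 : ℕ) : A) * algebraMap ℚ A (1 / ((n + 1 : ℕ) : ℚ)) = 1 := by
    have h1 : ((n + 1 : ℕ) : A) = algebraMap ℚ A ((n + 1 : ℕ) : ℚ) := by simp
    rw [h1, ← map_mul]
    have : ((n + 1 : ℕ) : ℚ) * (1 / ((n + 1 : ℕ) : ℚ)) = 1 := by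
      field_simp
    rw [this, map_one]
  rw [this, one_mul]

end Groth.Agent.H9.Lambda
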