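import Mathlib
import Groth.Prelude.Def_LambdaSp
import Groth.Agent.Lib.Helper9.Lambda.Newton

/-!
# Newton's identities in a pre-λ-ring (helper9)
-/

set_option autoImplicit false

namespace Groth.Agent.H9.Lambda

open Finset LambdaRing PowerSeries

universe u

variable {K : Type u} [CommRing K] [LambdaOps K]

theorem constantCoeff_lamSeries (x : K) : constantCoeff (lamSeries x) = ((1 : Kˣ) : K) := by
  rw [← PowerSeries.coeff_zero_eq_constantCoeff_apply, lamSeries, PowerSeries.coeff_mk,
    LambdaOps.lam_zero, Units.val_one]

theorem lamSeries_mul_inv (x : K) : lamSeries x * (lamSeries x).invOfUnit 1 = 1 :=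
  PowerSeries.mul_invOfUnit _ _ (constantCoeff_lamSeries x)

theorem logDerivSeries_mul (x : K) :
    logDerivSeries x * lamSeries x = PowerSeries.derivative K (lamSeries x) := by
  unfold logDerivSeries
  rw [mul_assoc, mul_comm ((lamSeries x).invOfUnit 1), lamSeries_mul_inv, mul_one]

theorem coeff_logDerivSeries (x : K) (i : ℕ) :
    PowerSeries.coeff i (logDerivSeries x) = (-1) ^ i * adamsOp (i + 1) x := by
  rw [adamsOp, ← mul_assoc, ← pow_add, ← two_mul, pow_mul]
  simp

/-- Newton's identities in a pre-λ-ring -/
theorem isNewton_lam (x : K) :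
    IsNewton (fun n => LambdaOps.lam n x) (fun k => adamsOp k x) := by
  refine ⟨LambdaOps.lam_zero x, fun n => ?_⟩
  have h := congrArg (PowerSeries.coeff n) (logDerivSeries_mul x)
  rw [PowerSeries.coeff_derivative, PowerSeries.coeff_mul,
    Finset.Nat.sum_antidiagonal_eq_sum_range_succ
      (fun i j => PowerSeries.coeff i (logDerivSeries x) * PowerSeries.coeff j (lamSeries x))] at h
  simp only [lamSeries, PowerSeries.coeff_mk, coeff_logDerivSeries] at h
  push_cast
  rw [mul_comm, ← h]

theorem lamSeries_add (x y : K) : lamSeries (x + y) = lamSeries x * lamSeries y := by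
  ext n
  rw [PowerSeries.coeff_mul, Finset.Nat.sum_antidiagonal_eq_sum_range_succ
      (fun i j => PowerSeries.coeff i (lamSeries x) * PowerSeries.coeff j (lamSeries y))]
  simp only [lamSeries, PowerSeries.coeff_mk, LambdaOps.lam_add]

theorem logDerivSeries_add (x y : K) :
    logDerivSeries (x + y) = logDerivSeries x + logDerivSeries y := by
  have hx := lamSeries_mul_inv x
  have hy := lamSeries_mul_inv y
  have hxy := lamSeries_mul_inv (x + y)
  set f := lamSeries x
  set g := lamSeries y
  set u := f.invOfUnit 1
  set v := g.invOfUnit 1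
  have hinv : (lamSeries (x + y)).invOfUnit 1 = u * v := by
    set w := (lamSeries (x + y)).invOfUnit 1
    rw [lamSeries_add] at hxy
    calc w = w * ((f * u) * (g * v)) := by rw [hx, hy, mul_one, mul_one]
      _ = (f * g * w) * (u * v) := by ring
      _ = u * v := by rw [hxy, one_mul]
  unfold logDerivSeries
  rw [hinv, lamSeries_add]
  simp only [Derivation.leibniz, smul_eq_mul]
  calc (f * PowerSeries.derivative K g + g * PowerSeries.derivative K f) * (u * v)
      = PowerSeries.derivative K f * u * (g * v) + PowerSeries.derivative K g * v * (f * u) := by ring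
    _ = PowerSeries.derivative K f * u + PowerSeries.derivative K g * v := by
        rw [hx, hy, mul_one, mul_one]

theorem adamsOp_add (k : ℕ) (x y : K) : adamsOp k (x + y) = adamsOp k x + adamsOp k y := by
  cases k with
  | zero => simp [adamsOp]
  | succ k =>
    simp only [adamsOp, logDerivSeries_add, map_add, mul_add]

theorem adamsOp_zero' (k : ℕ) : adamsOp k (0 : K) = 0 := by
  have := adamsOp_add k (0 : K) 0
  rw [add_zero] at this
  exact left_eq_add.1 this

end Groth.Agent.H9.Lambda
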