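import Mathlib
import Groth.Agent.Lib.Helper9.Lambda.Newton

/-!
# Newton's identities for finite families, and injectivity of the elementary substitution (helper9)
-/

set_option autoImplicit false

namespace Groth.Agent.H9.Lambda

open Finset MvPolynomial

theorem neg_one_pow_eq_of_even {A : Type*} [CommRing A] {a b : ℕ} (h : Even (a + b)) :
    (-1 : A) ^ a = (-1) ^ b := by
  have h1 : (-1 : A) ^ b * (-1) ^ b = 1 := by
    rw [← pow_add, ← two_mul, pow_mul]
    simp
  calc (-1 : A) ^ a = (-1) ^ a * ((-1) ^ b * (-1) ^ b) := by rw [h1, mul_one]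
    _ = (-1) ^ (a + b) * (-1) ^ b := by rw [pow_add]; ring
    _ = (-1) ^ b := by rw [h.neg_one_pow, one_mul]

theorem isNewton_esymm_psum (σ : Type*) [Fintype σ] (R : Type*) [CommRing R] :
    IsNewton (fun n => esymm σ R n) (fun k => psum σ R k) := by
  classical
  refine ⟨esymm_zero σ R, fun n => ?_⟩
  have h := mul_esymm_eq_sum σ R (n + 1)
  rw [h, Finset.mul_sum]
  symm
  apply Finset.sum_nbij' (fun i => (n - i, i + 1)) (fun a => a.2 - 1)
  · intro i hi
    rw [Finset.mem_range] at hi
    simp only [Finset.mem_filter, Finset.HasAntidiagonal.mem_antidiagonal]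
    omega
  · intro a ha
    simp only [Finset.mem_filter, Finset.HasAntidiagonal.mem_antidiagonal] at ha
    rw [Finset.mem_range]
    omega
  · intro i hi
    simp
  · intro a ha
    simp only [Finset.mem_filter, Finset.HasAntidiagonal.mem_antidiagonal] at ha
    ext <;> simp <;> omega
  · intro i hi
    rw [Finset.mem_range] at hi
    simp only
    have hsign : (-1 : MvPolynomial σ R) ^ i = (-1) ^ (n + 1 + 1) * (-1) ^ (n - i) := by
      rw [← pow_add]
      apply neg_one_pow_eq_of_even
      have : i + (n + 1 + 1 + (n - i)) = 2 * (n + 1) := by omega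
      rw [this]
      exact even_two_mul _
    rw [hsign]
    ring

/-- Newton's identities for a finite family in a commutative ring -/
theorem isNewton_family {A : Type*} [CommRing A] {ι : Type*} [Fintype ι] (f : ι → A) :
    IsNewton (fun n => (Finset.univ.val.map f).esymm n) (fun k => ∑ i, f i ^ k) := by
  have h := (isNewton_esymm_psum ι ℤ).map (MvPolynomial.aeval f : MvPolynomial ι ℤ →ₐ[ℤ] A).toRingHom
  have h1 : ∀ n, (MvPolynomial.aeval f : MvPolynomial ι ℤ →ₐ[ℤ] A).toRingHom (esymm ι ℤ n) =
      (Finset.univ.val.map f).esymm n := fun n => aeval_esymm_eq_multiset_esymm ι ℤ n f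
  have h2 : ∀ k, (MvPolynomial.aeval f : MvPolynomial ι ℤ →ₐ[ℤ] A).toRingHom (psum ι ℤ k) =
      ∑ i, f i ^ k := fun k => by
    simp [psum]
  simp only [h1, h2] at h
  exact h

/-- Newton's identities for a family indexed by a finset -/
theorem isNewton_finset {A : Type*} [CommRing A] {ι : Type*} (S : Finset ι) (f : ι → A) :
    IsNewton (fun n => (S.val.map f).esymm n) (fun k => ∑ i ∈ S, f i ^ k) := by
  have h := isNewton_family (fun i : S => f i.1)
  have h1 : (Finset.univ : Finset S).val.map (fun i : S => f i.1) = S.val.map f := by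
    have : (Finset.univ : Finset S) = S.attach := rfl
    rw [this]
    have h2 : (fun i : S => f i.1) = f ∘ Subtype.val := rfl
    rw [h2, ← Multiset.map_map, Finset.attach_val, Multiset.attach_map_val]
  have h2 : ∀ k, ∑ i : S, f i.1 ^ k = ∑ i ∈ S, f i ^ k := fun k =>
    Finset.sum_coe_sort S (fun i => f i ^ k)
  simp only [h1, h2] at h
  exact h

end Groth.Agent.H9.Lambda
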