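import Mathlib
import Groth.Agent.Lib.Helper9.Lambda.Sym

/-!
# The elementary substitution and its injectivity (helper9)
-/

set_option autoImplicit false

namespace Groth.Agent.H9.Lambda

open Finset MvPolynomial

variable (N n : ℕ) (R : Type*) [CommRing R]

/-- `X_k ↦ e_{k+1}(T)` -/
noncomputable def sig : MvPolynomial (Fin N) R →ₐ[R] MvPolynomial (Fin N) R :=
  aeval (fun k : Fin N => esymm (Fin N) R ((k : ℕ) + 1))

theorem sig_X (k : Fin N) : sig N R (X k) = esymm (Fin N) R ((k : ℕ) + 1) := by
  simp [sig]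

theorem sig_injective : Function.Injective (sig N R) := by
  intro p q h
  apply esymmAlgHom_fin_injective R (le_refl N)
  apply Subtype.ext
  rw [esymmAlgHom_apply, esymmAlgHom_apply]
  exact h

/-- `X_k ↦ e_{k+1}(T)`, `Y_k ↦ e_{k+1}(U)` -/
noncomputable def sig2 : MvPolynomial (Fin n ⊕ Fin n) R →ₐ[R] MvPolynomial (Fin n ⊕ Fin n) R :=
  aeval (Sum.elim (fun k : Fin n => rename Sum.inl (esymm (Fin n) R ((k : ℕ) + 1)))
    (fun k : Fin n => rename Sum.inr (esymm (Fin n) R ((k : ℕ) + 1))))

theorem sig2_X_inl (k : Fin n) :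
    sig2 n R (X (Sum.inl k)) = rename Sum.inl (esymm (Fin n) R ((k : ℕ) + 1)) := by
  simp [sig2]

theorem sig2_X_inr (k : Fin n) :
    sig2 n R (X (Sum.inr k)) = rename Sum.inr (esymm (Fin n) R ((k : ℕ) + 1)) := by
  simp [sig2]

theorem sumToIter_rename_inl_esymm (m : ℕ) :
    sumRingEquiv R (Fin n) (Fin n) (rename Sum.inl (esymm (Fin n) R m)) =
      esymm (Fin n) (MvPolynomial (Fin n) R) m := by
  simp [esymm, map_sum, map_prod, sumRingEquiv_X_inl]

theorem sumToIter_rename_inr_esymm (m : ℕ) :
    sumRingEquiv R (Fin n) (Fin n) (rename Sum.inr (esymm (Fin n) R m)) =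
      C (esymm (Fin n) R m) := by
  simp [esymm, map_sum, map_prod, sumRingEquiv_X_inr]

theorem sumToIter_sig2 (p : MvPolynomial (Fin n ⊕ Fin n) R) :
    sumRingEquiv R (Fin n) (Fin n) (sig2 n R p) =
      sig n (MvPolynomial (Fin n) R)
        (MvPolynomial.map (sig n R).toRingHom (sumRingEquiv R (Fin n) (Fin n) p)) := by
  have h : (sumRingEquiv R (Fin n) (Fin n)).toRingHom.comp (sig2 n R).toRingHom =
      ((sig n (MvPolynomial (Fin n) R)).toRingHom.comp
        (MvPolynomial.map (sig n R).toRingHom)).comp (sumRingEquiv R (Fin n) (Fin n)).toRingHom := by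
    apply MvPolynomial.ringHom_ext
    · intro r
      simp [sig, sig2, sumRingEquiv_C]
    · intro i
      rcases i with k | k
      · simp only [RingHom.comp_apply, AlgHom.toRingHom_eq_coe, RingHom.coe_coe, sig2_X_inl,
          sumToIter_rename_inl_esymm, sumRingEquiv_X_inl, MvPolynomial.map_X, sig_X,
          RingEquiv.toRingHom_eq_coe]
      · simp only [RingHom.comp_apply, AlgHom.toRingHom_eq_coe, RingHom.coe_coe, sig2_X_inr,
          sumToIter_rename_inr_esymm, sumRingEquiv_X_inr, MvPolynomial.map_C, sig_X,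
          RingEquiv.toRingHom_eq_coe]
        simp [sig]
  exact congrArg (fun f => f p) h

theorem sig2_injective : Function.Injective (sig2 n R) := by
  intro p q h
  have h1 := congrArg (sumRingEquiv R (Fin n) (Fin n)) h
  rw [sumToIter_sig2, sumToIter_sig2] at h1
  have h2 := sig_injective n (MvPolynomial (Fin n) R) h1
  have h3 := MvPolynomial.map_injective _ (sig_injective n R) h2
  exact (sumRingEquiv R (Fin n) (Fin n)).injective h3

end Groth.Agent.H9.Lambda
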