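import Mathlib
import Groth.Agent.Lib.Helper9.Lambda.Sigma

/-!
# Truncated universal sequences (helper9)
-/

set_option autoImplicit false

namespace Groth.Agent.H9.Lambda

open Finset MvPolynomial

variable (N n : ℕ) (R : Type*) [CommRing R]

/-- the sequence `1, X_0, …, X_{N-1}, 0, 0, …` -/
noncomputable def lX : ℕ → MvPolynomial (Fin N) R := fun m =>
  if h0 : m = 0 then 1 else if h : m ≤ N then X ⟨m - 1, by omega⟩ else 0

theorem lX_zero : lX N R 0 = 1 := by
  simp [lX]

theorem lX_of_le {m : ℕ} (h0 : m ≠ 0) (h : m ≤ N) : lX N R m = X ⟨m - 1, by omega⟩ := by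
  simp [lX, h0, h]

theorem lX_of_gt {m : ℕ} (h : N < m) : lX N R m = 0 := by
  have h0 : m ≠ 0 := by omega
  have h1 : ¬ m ≤ N := by omega
  simp [lX, h0, h1]

theorem esymm_eq_zero_of_gt {m : ℕ} (h : N < m) : esymm (Fin N) R m = 0 := by
  unfold esymm
  rw [Finset.powersetCard_eq_empty.2 (by simpa using h), Finset.sum_empty]

theorem sig_lX (m : ℕ) : sig N R (lX N R m) = esymm (Fin N) R m := by
  by_cases h0 : m = 0
  · subst h0
    rw [lX_zero, map_one, esymm_zero]
  · by_cases h : m ≤ N
    · rw [lX_of_le N R h0 h, sig_X]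
      congr 1
      simp only
      omega
    · rw [lX_of_gt N R (by omega), map_zero, esymm_eq_zero_of_gt N R (by omega)]

theorem sig_map {S : Type*} [CommRing S] (f : R →+* S) (p : MvPolynomial (Fin N) R) :
    sig N S (MvPolynomial.map f p) = MvPolynomial.map f (sig N R p) := by
  have h : (sig N S).toRingHom.comp (MvPolynomial.map f) =
      (MvPolynomial.map f).comp (sig N R).toRingHom := by
    apply MvPolynomial.ringHom_ext
    · intro r
      simp [sig]
    · intro i
      simp [sig, map_esymm]
  exact congrArg (fun g => g p) h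

theorem sig2_map {S : Type*} [CommRing S] (f : R →+* S) (p : MvPolynomial (Fin n ⊕ Fin n) R) :
    sig2 n S (MvPolynomial.map f p) = MvPolynomial.map f (sig2 n R p) := by
  have h : (sig2 n S).toRingHom.comp (MvPolynomial.map f) =
      (MvPolynomial.map f).comp (sig2 n R).toRingHom := by
    apply MvPolynomial.ringHom_ext
    · intro r
      simp [sig2]
    · intro i
      rcases i with k | k
      · simp [sig2, map_esymm, MvPolynomial.map_rename]
      · simp [sig2, map_esymm, MvPolynomial.map_rename]
  exact congrArg (fun g => g p) h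

theorem sig2_rename_inl (p : MvPolynomial (Fin n) R) :
    sig2 n R (rename Sum.inl p) = rename Sum.inl (sig n R p) := by
  have h : (sig2 n R).toRingHom.comp (rename Sum.inl : MvPolynomial (Fin n) R →ₐ[R] _).toRingHom =
      (rename Sum.inl : MvPolynomial (Fin n) R →ₐ[R] _).toRingHom.comp (sig n R).toRingHom := by
    apply MvPolynomial.ringHom_ext
    · intro r
      simp [sig, sig2]
    · intro i
      simp [sig, sig2]
  exact congrArg (fun g => g p) h

theorem sig2_rename_inr (p : MvPolynomial (Fin n) R) :
    sig2 n R (rename Sum.inr p) = rename Sum.inr (sig n R p) := by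
  have h : (sig2 n R).toRingHom.comp (rename Sum.inr : MvPolynomial (Fin n) R →ₐ[R] _).toRingHom =
      (rename Sum.inr : MvPolynomial (Fin n) R →ₐ[R] _).toRingHom.comp (sig n R).toRingHom := by
    apply MvPolynomial.ringHom_ext
    · intro r
      simp [sig, sig2]
    · intro i
      simp [sig, sig2]
  exact congrArg (fun g => g p) h

theorem rename_esymm_eq {σ τ : Type*} [Fintype σ] (g : σ → τ) (m : ℕ) :
    rename g (esymm σ R m) = (Finset.univ.val.map (fun a : σ => (X (g a) : MvPolynomial τ R))).esymm m := by
  have : (rename g : MvPolynomial σ R →ₐ[R] MvPolynomial τ R) = aeval (fun a => X (g a)) := by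
    ext a
    simp
  rw [this, aeval_esymm_eq_multiset_esymm]

end Groth.Agent.H9.Lambda
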