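import Mathlib
import Groth.Prelude.Def_LambdaSp
import Groth.Agent.Lib.Helper9.Lambda.PreLambda
import Groth.Agent.Lib.Helper9.Lambda.Trunc

/-!
# Verification principle over `ℚ`: multiplicative Adams operations imply special (helper9)
-/

set_option autoImplicit false

namespace Groth.Agent.H9.Lambda

open Finset MvPolynomial LambdaRing

universe u

section

variable {K : Type u} [CommRing K] [LambdaOps K]

/-- the Adams operation as a ring endomorphism -/
noncomputable def adamsHom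
    (h1 : ∀ k : ℕ, 1 ≤ k → adamsOp k (1 : K) = 1)
    (hmul : ∀ k : ℕ, 1 ≤ k → ∀ x y : K, adamsOp k (x * y) = adamsOp k x * adamsOp k y)
    (k : ℕ) (hk : 1 ≤ k) : K →+* K where
  toFun := adamsOp k
  map_one' := h1 k hk
  map_mul' := hmul k hk
  map_zero' := adamsOp_zero' k
  map_add' := adamsOp_add k

variable [Algebra ℚ K]
  (h1 : ∀ k : ℕ, 1 ≤ k → adamsOp k (1 : K) = 1)
  (hmul : ∀ k : ℕ, 1 ≤ k → ∀ x y : K, adamsOp k (x * y) = adamsOp k x * adamsOp k y)
  (hcomp : ∀ k k' : ℕ, 1 ≤ k → 1 ≤ k' → ∀ x : K, adamsOp k (adamsOp k' x) = adamsOp (k * k') x)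

include h1 hmul hcomp

theorem adams_lam_comm (k : ℕ) (hk : 1 ≤ k) (m : ℕ) (x : K) :
    adamsOp k (LambdaOps.lam m x) = LambdaOps.lam m (adamsOp k x) := by
  have hA := (isNewton_lam x).map (adamsHom h1 hmul k hk)
  have hB := isNewton_lam (adamsOp k x)
  have := hA.l_unique hB m (fun k' hk'1 _ => by
    show adamsOp k (adamsOp k' x) = adamsOp k' (adamsOp k x)
    rw [hcomp k k' hk hk'1, hcomp k' k hk'1 hk, mul_comm]) m le_rfl
  exact this

theorem lam_one_of_adams (n : ℕ) (hn : 2 ≤ n) : LambdaOps.lam n (1 : K) = 0 := by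
  let l0 : ℕ → K := fun m => if m ≤ 1 then 1 else 0
  have hl0 : IsNewton l0 (fun _ => (1 : K)) := by
    refine ⟨by simp [l0], fun m => ?_⟩
    rcases m with _ | _ | m
    · simp [l0]
    · simp [l0, Finset.sum_range_succ]
    · have h2 : l0 (m + 2 + 1) = 0 := by simp [l0]
      rw [h2, mul_zero, Finset.sum_range_succ, Finset.sum_range_succ]
      have h3 : ∑ i ∈ range (m + 1), (-1 : K) ^ i * 1 * l0 (m + 2 - i) = 0 := by
        apply Finset.sum_eq_zero
        intro i hi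
        rw [Finset.mem_range] at hi
        have : l0 (m + 2 - i) = 0 := by
          simp only [l0]
          rw [if_neg (by omega)]
        rw [this, mul_zero]
      rw [h3]
      have h4 : l0 (m + 2 - (m + 1)) = 1 := by
        have : m + 2 - (m + 1) = 1 := by omega
        simp [l0, this]
      have h5 : l0 (m + 2 - (m + 2)) = 1 := by simp [l0]
      rw [h4, h5, pow_succ]
      ring
  have hA := isNewton_lam (1 : K)
  have := hA.l_unique hl0 n (fun k hk1 _ => h1 k hk1) n le_rfl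
  rw [this]
  simp only [l0]
  rw [if_neg (by omega)]

theorem lam_lam_of_adams_aux (N i j : ℕ) (hN : N = i * j) (Q : MvPolynomial (Fin N) ℤ)
    (hQ : sig N ℤ Q = compGen N i j) (x : K) :
    LambdaOps.lam j (LambdaOps.lam i x) =
      aeval (fun k : Fin N => LambdaOps.lam ((k : ℕ) + 1) x) Q := by
  classical
  -- the universal sequences
  set l0 : ℕ → MvPolynomial (Fin N) ℚ := lX N ℚ with hl0
  set s0 : ℕ → MvPolynomial (Fin N) ℚ := newtonS l0 with hs0
  have hN0 : IsNewton l0 s0 := isNewton_newtonS (lX_zero N ℚ)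
  let tk : ℕ → ℕ → MvPolynomial (Fin N) ℚ := fun k m => s0 (k * m)
  let Lk : ℕ → ℕ → MvPolynomial (Fin N) ℚ := fun k => newtonE (tk k)
  have hLk : ∀ k, IsNewton (Lk k) (tk k) := fun k => isNewton_newtonE (tk k)
  let s' : ℕ → MvPolynomial (Fin N) ℚ := fun k => Lk k i
  let l' : ℕ → MvPolynomial (Fin N) ℚ := newtonE s'
  have hl' : IsNewton l' s' := isNewton_newtonE s'
  -- the symmetric side
  have hσl0 : ∀ m, sig N ℚ (l0 m) = (Finset.univ.val.map (X : Fin N → MvPolynomial (Fin N) ℚ)).esymm m := by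
    intro m
    rw [hl0, sig_lX, esymm_eq_multiset_esymm]
  have hσs0 : ∀ k, 1 ≤ k → sig N ℚ (s0 k) = ∑ a : Fin N, (X a : MvPolynomial (Fin N) ℚ) ^ k := by
    intro k hk
    exact (hN0.map (sig N ℚ).toRingHom).s_unique (isNewton_family X) k (fun m _ => hσl0 m) k hk le_rfl
  have hσLk : ∀ k, 1 ≤ k → ∀ m, sig N ℚ (Lk k m) =
      (Finset.univ.val.map (fun a : Fin N => (X a : MvPolynomial (Fin N) ℚ) ^ k)).esymm m := by
    intro k hk m
    refine ((hLk k).map (sig N ℚ).toRingHom).l_unique (isNewton_family (fun a : Fin N => (X a : MvPolynomial (Fin N) ℚ) ^ k)) m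
      (fun m' hm' _ => ?_) m le_rfl
    show sig N ℚ (s0 (k * m')) = _
    rw [hσs0 (k * m') (Nat.mul_pos hk hm')]
    refine Finset.sum_congr rfl fun a _ => ?_
    rw [pow_mul]
  set S : Finset (Finset (Fin N)) := (Finset.univ : Finset (Fin N)).powersetCard i with hS
  let F : Finset (Fin N) → MvPolynomial (Fin N) ℚ := fun s => ∏ a ∈ s, X a
  have hσs' : ∀ k, 1 ≤ k → sig N ℚ (s' k) = ∑ s ∈ S, F s ^ k := by
    intro k hk
    show sig N ℚ (Lk k i) = _
    rw [hσLk k hk, Finset.esymm_map_val]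
    refine Finset.sum_congr rfl fun s _ => ?_
    rw [Finset.prod_pow]
  have hσl' : ∀ m, sig N ℚ (l' m) = (S.val.map F).esymm m := by
    intro m
    exact (hl'.map (sig N ℚ).toRingHom).l_unique (isNewton_finset S F) m
      (fun k hk _ => hσs' k hk) m le_rfl
  -- the universal polynomial
  have hQ1 : sig N ℚ (MvPolynomial.map (Int.castRingHom ℚ) Q) = (S.val.map F).esymm j := by
    rw [sig_map]
    rw [hQ, compGen, Finset.esymm_map_val, Finset.esymm_map_val, map_sum]
    refine Finset.sum_congr rfl fun t _ => ?_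
    rw [map_prod]
    refine Finset.prod_congr rfl fun s _ => ?_
    simp [F]
  have hQ2 : l' j = MvPolynomial.map (Int.castRingHom ℚ) Q :=
    sig_injective N ℚ ((hσl' j).trans hQ1.symm)
  -- the evaluation side
  let ev : MvPolynomial (Fin N) ℚ →ₐ[ℚ] K := aeval (fun k : Fin N => LambdaOps.lam ((k : ℕ) + 1) x)
  have hev_l0 : ∀ m ≤ N, ev (l0 m) = LambdaOps.lam m x := by
    intro m hm
    by_cases h0 : m = 0
    · subst h0
      rw [hl0, lX_zero, map_one, LambdaOps.lam_zero]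
    · rw [hl0, lX_of_le N ℚ h0 hm]
      simp only [ev, aeval_X]
      congr 1
      omega
  have hev_s0 : ∀ m, 1 ≤ m → m ≤ N → ev (s0 m) = adamsOp m x := by
    intro m hm1 hmN
    exact (hN0.map ev.toRingHom).s_unique (isNewton_lam x) N hev_l0 m hm1 hmN
  have hev_Lk : ∀ k, 1 ≤ k → k ≤ j → ev (Lk k i) = adamsOp k (LambdaOps.lam i x) := by
    intro k hk1 hkj
    rw [adams_lam_comm h1 hmul hcomp k hk1]
    refine ((hLk k).map ev.toRingHom).l_unique (isNewton_lam (adamsOp k x)) i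
      (fun m hm1 hmi => ?_) i le_rfl
    show ev (s0 (k * m)) = adamsOp m (adamsOp k x)
    have hle : k * m ≤ N := by
      rw [hN, mul_comm i j]
      exact Nat.mul_le_mul hkj hmi
    rw [hev_s0 (k * m) (Nat.mul_pos hk1 hm1) hle, hcomp m k hm1 hk1, mul_comm]
  have hev_l' : ev (l' j) = LambdaOps.lam j (LambdaOps.lam i x) := by
    exact (hl'.map ev.toRingHom).l_unique (isNewton_lam (LambdaOps.lam i x)) j
      (fun k hk1 hkj => hev_Lk k hk1 hkj) j le_rfl
  rw [← hev_l', hQ2]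
  simp only [ev]
  have hcomp' : ((aeval (fun k : Fin N => LambdaOps.lam ((k : ℕ) + 1) x) :
        MvPolynomial (Fin N) ℚ →ₐ[ℚ] K) : MvPolynomial (Fin N) ℚ →+* K).comp
        (MvPolynomial.map (Int.castRingHom ℚ)) =
      ((aeval (fun k : Fin N => LambdaOps.lam ((k : ℕ) + 1) x) :
        MvPolynomial (Fin N) ℤ →ₐ[ℤ] K) : MvPolynomial (Fin N) ℤ →+* K) := by
    apply MvPolynomial.ringHom_ext
    · intro r
      simp
    · intro a
      simp
  exact congrArg (fun f => f Q) hcomp'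

theorem lam_lam_of_adams (i j : ℕ) (Q : MvPolynomial (Fin (i * j)) ℤ) (hQ : IsCompPoly i j Q)
    (x : K) :
    LambdaOps.lam j (LambdaOps.lam i x) =
      aeval (fun k : Fin (i * j) => LambdaOps.lam ((k : ℕ) + 1) x) Q :=
  lam_lam_of_adams_aux h1 hmul hcomp (i * j) i j rfl Q hQ.1 x

omit hcomp in
theorem lam_mul_of_adams_aux (n : ℕ) (P : MvPolynomial (Fin n ⊕ Fin n) ℤ)
    (hP : sig2 n ℤ P = mulGen n n) (x y : K) :
    LambdaOps.lam n (x * y) =
      aeval (Sum.elim (fun k : Fin n => LambdaOps.lam ((k : ℕ) + 1) x)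
        (fun k : Fin n => LambdaOps.lam ((k : ℕ) + 1) y)) P := by
  classical
  let lX2 : ℕ → MvPolynomial (Fin n ⊕ Fin n) ℚ := fun m => rename Sum.inl (lX n ℚ m)
  let lY2 : ℕ → MvPolynomial (Fin n ⊕ Fin n) ℚ := fun m => rename Sum.inr (lX n ℚ m)
  have hlX2 : lX2 0 = 1 := by simp [lX2, lX_zero]
  have hlY2 : lY2 0 = 1 := by simp [lY2, lX_zero]
  let sX : ℕ → MvPolynomial (Fin n ⊕ Fin n) ℚ := newtonS lX2
  let sY : ℕ → MvPolynomial (Fin n ⊕ Fin n) ℚ := newtonS lY2
  have hNX : IsNewton lX2 sX := isNewton_newtonS hlX2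
  have hNY : IsNewton lY2 sY := isNewton_newtonS hlY2
  let sXY : ℕ → MvPolynomial (Fin n ⊕ Fin n) ℚ := fun k => sX k * sY k
  let lXY : ℕ → MvPolynomial (Fin n ⊕ Fin n) ℚ := newtonE sXY
  have hNXY : IsNewton lXY sXY := isNewton_newtonE sXY
  -- the symmetric side
  let fX : Fin n → MvPolynomial (Fin n ⊕ Fin n) ℚ := fun a => X (Sum.inl a)
  let fY : Fin n → MvPolynomial (Fin n ⊕ Fin n) ℚ := fun b => X (Sum.inr b)
  have hσlX : ∀ m, sig2 n ℚ (lX2 m) = (Finset.univ.val.map fX).esymm m := by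
    intro m
    show sig2 n ℚ (rename Sum.inl (lX n ℚ m)) = _
    rw [sig2_rename_inl, sig_lX, rename_esymm_eq]
  have hσlY : ∀ m, sig2 n ℚ (lY2 m) = (Finset.univ.val.map fY).esymm m := by
    intro m
    show sig2 n ℚ (rename Sum.inr (lX n ℚ m)) = _
    rw [sig2_rename_inr, sig_lX, rename_esymm_eq]
  have hσsX : ∀ k, 1 ≤ k → sig2 n ℚ (sX k) = ∑ a, fX a ^ k := by
    intro k hk
    exact (hNX.map (sig2 n ℚ).toRingHom).s_unique (isNewton_family fX) k
      (fun m _ => hσlX m) k hk le_rfl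
  have hσsY : ∀ k, 1 ≤ k → sig2 n ℚ (sY k) = ∑ a, fY a ^ k := by
    intro k hk
    exact (hNY.map (sig2 n ℚ).toRingHom).s_unique (isNewton_family fY) k
      (fun m _ => hσlY m) k hk le_rfl
  let fXY : Fin n × Fin n → MvPolynomial (Fin n ⊕ Fin n) ℚ :=
    fun ab => X (Sum.inl ab.1) * X (Sum.inr ab.2)
  have hσsXY : ∀ k, 1 ≤ k → sig2 n ℚ (sXY k) = ∑ ab, fXY ab ^ k := by
    intro k hk
    show sig2 n ℚ (sX k * sY k) = _
    rw [map_mul, hσsX k hk, hσsY k hk, Finset.sum_mul_sum, ← Finset.sum_product']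
    refine Finset.sum_congr rfl fun ab _ => ?_
    simp only [fXY, fX, fY, mul_pow]
  have hσlXY : ∀ m, sig2 n ℚ (lXY m) = (Finset.univ.val.map fXY).esymm m := by
    intro m
    exact (hNXY.map (sig2 n ℚ).toRingHom).l_unique (isNewton_family fXY) m
      (fun k hk _ => hσsXY k hk) m le_rfl
  have hP1 : sig2 n ℚ (MvPolynomial.map (Int.castRingHom ℚ) P) =
      (Finset.univ.val.map fXY).esymm n := by
    rw [sig2_map, hP, mulGen, Finset.esymm_map_val, Finset.esymm_map_val, map_sum]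
    refine Finset.sum_congr rfl fun t _ => ?_
    rw [map_prod]
    refine Finset.prod_congr rfl fun s _ => ?_
    simp [fXY]
  have hP2 : lXY n = MvPolynomial.map (Int.castRingHom ℚ) P :=
    sig2_injective n ℚ ((hσlXY n).trans hP1.symm)
  -- the evaluation side
  let ev : MvPolynomial (Fin n ⊕ Fin n) ℚ →ₐ[ℚ] K :=
    aeval (Sum.elim (fun k : Fin n => LambdaOps.lam ((k : ℕ) + 1) x)
      (fun k : Fin n => LambdaOps.lam ((k : ℕ) + 1) y))
  have hev_lX : ∀ m ≤ n, ev (lX2 m) = LambdaOps.lam m x := by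
    intro m hm
    by_cases h0 : m = 0
    · subst h0
      rw [hlX2, map_one, LambdaOps.lam_zero]
    · show ev (rename Sum.inl (lX n ℚ m)) = _
      rw [lX_of_le n ℚ h0 hm, rename_X]
      simp only [ev, aeval_X, Sum.elim_inl]
      congr 1
      omega
  have hev_lY : ∀ m ≤ n, ev (lY2 m) = LambdaOps.lam m y := by
    intro m hm
    by_cases h0 : m = 0
    · subst h0
      rw [hlY2, map_one, LambdaOps.lam_zero]
    · show ev (rename Sum.inr (lX n ℚ m)) = _
      rw [lX_of_le n ℚ h0 hm, rename_X]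
      simp only [ev, aeval_X, Sum.elim_inr]
      congr 1
      omega
  have hev_sX : ∀ k, 1 ≤ k → k ≤ n → ev (sX k) = adamsOp k x := fun k hk1 hkn =>
    (hNX.map ev.toRingHom).s_unique (isNewton_lam x) n hev_lX k hk1 hkn
  have hev_sY : ∀ k, 1 ≤ k → k ≤ n → ev (sY k) = adamsOp k y := fun k hk1 hkn =>
    (hNY.map ev.toRingHom).s_unique (isNewton_lam y) n hev_lY k hk1 hkn
  have hev_lXY : ev (lXY n) = LambdaOps.lam n (x * y) := by
    refine (hNXY.map ev.toRingHom).l_unique (isNewton_lam (x * y)) n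
      (fun k hk1 hkn => ?_) n le_rfl
    show ev (sX k * sY k) = adamsOp k (x * y)
    rw [map_mul, hev_sX k hk1 hkn, hev_sY k hk1 hkn, hmul k hk1]
  rw [← hev_lXY, hP2]
  simp only [ev]
  have hcomp' : ((aeval (Sum.elim (fun k : Fin n => LambdaOps.lam ((k : ℕ) + 1) x)
        (fun k : Fin n => LambdaOps.lam ((k : ℕ) + 1) y)) :
        MvPolynomial (Fin n ⊕ Fin n) ℚ →ₐ[ℚ] K) : MvPolynomial (Fin n ⊕ Fin n) ℚ →+* K).comp
        (MvPolynomial.map (Int.castRingHom ℚ)) =
      ((aeval (Sum.elim (fun k : Fin n => LambdaOps.lam ((k : ℕ) + 1) x)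
        (fun k : Fin n => LambdaOps.lam ((k : ℕ) + 1) y)) :
        MvPolynomial (Fin n ⊕ Fin n) ℤ →ₐ[ℤ] K) : MvPolynomial (Fin n ⊕ Fin n) ℤ →+* K) := by
    apply MvPolynomial.ringHom_ext
    · intro r
      simp
    · intro a
      simp
  exact congrArg (fun f => f P) hcomp'

theorem isSpecial_of_adams : IsSpecial K where
  lam_one_eq_zero := lam_one_of_adams h1 hmul hcomp
  lam_mul := fun n P hP x y => lam_mul_of_adams_aux h1 hmul n P hP.1 x y
  lam_lam := fun i j Q hQ x => lam_lam_of_adams h1 hmul hcomp i j Q hQ x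

end

end Groth.Agent.H9.Lambda
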