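import Mathlib

/-!
# Weighted homogeneity and substitution (helper9)
-/

set_option autoImplicit false

namespace Groth.Agent.H9.Lambda

open Finset MvPolynomial

variable {R : Type*} [CommRing R] {σ τ M : Type*} [AddCommMonoid M]

/-- substituting weighted homogeneous polynomials of the right weights preserves
weighted homogeneity -/
theorem IsWeightedHomogeneous.aeval' {w : σ → M} {w' : τ → M} {g : σ → MvPolynomial τ R}
    (hg : ∀ k, IsWeightedHomogeneous w' (g k) (w k)) {P : MvPolynomial σ R} {m : M}
    (hP : IsWeightedHomogeneous w P m) :
    IsWeightedHomogeneous w' (aeval g P) m := by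
  induction hP using IsWeightedHomogeneous.induction_on with
  | zero => simpa using isWeightedHomogeneous_zero R w' m
  | add p q hp hq ihp ihq => rw [map_add]; exact ihp.add ihq
  | monomial d r hr =>
    rw [aeval_monomial]
    have h1 : IsWeightedHomogeneous w' (d.prod fun i k => g i ^ k) m := by
      rw [← hr, Finsupp.weight_apply]
      exact IsWeightedHomogeneous.prod _ _ _ (fun i _ => (hg i).pow (d i))
    simpa [MvPolynomial.algebraMap_eq] using h1.C_mul r

theorem whc_aeval [DecidableEq M] {w : σ → M} {w' : τ → M} {g : σ → MvPolynomial τ R}
    (hg : ∀ k, IsWeightedHomogeneous w' (g k) (w k)) (P : MvPolynomial σ R) (m : M) :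
    weightedHomogeneousComponent w' m (aeval g P) =
      aeval g (weightedHomogeneousComponent w m P) := by
  induction P using MvPolynomial.induction_on' with
  | monomial d r =>
    have h1 : IsWeightedHomogeneous w (monomial d r) (Finsupp.weight w d) :=
      isWeightedHomogeneous_monomial w d r rfl
    have h2 := IsWeightedHomogeneous.aeval' hg h1
    rw [weightedHomogeneousComponent_of_mem
      ((mem_weightedHomogeneousSubmodule R w' _ _).mpr h2),
      weightedHomogeneousComponent_of_mem
      ((mem_weightedHomogeneousSubmodule R w _ _).mpr h1)]
    split_ifs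
    · rfl
    · simp
  | add p q hp hq => simp only [map_add, hp, hq]

end Groth.Agent.H9.Lambda
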