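import Mathlib
import Groth.Prelude.Def_LambdaSp
import Groth.Agent.Lib.Helper9.Lambda.Trunc
import Groth.Agent.Lib.Helper9.Lambda.Weight

/-!
# Existence of the universal polynomials (helper9)
-/

set_option autoImplicit false

namespace Groth.Agent.H9.Lambda

open Finset MvPolynomial LambdaRing

theorem map_finset_esymm {A B ι : Type*} [CommRing A] [CommRing B] (φ : A →+* B) (S : Finset ι)
    (f : ι → A) (n : ℕ) :
    φ ((S.val.map f).esymm n) = (S.val.map (fun i => φ (f i))).esymm n := by
  rw [Finset.esymm_map_val, Finset.esymm_map_val, map_sum]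
  exact Finset.sum_congr rfl fun t _ => map_prod φ _ _

theorem univ_map_comp_equiv {ι A : Type*} [Fintype ι] (σ : ι ≃ ι) (f : ι → A) :
    (Finset.univ : Finset ι).val.map (fun i => f (σ i)) = (Finset.univ : Finset ι).val.map f := by
  have h1 : (Finset.univ : Finset ι).val.map (fun i => f (σ i)) =
      ((Finset.univ : Finset ι).val.map σ).map f := by
    rw [Multiset.map_map]
    rfl
  have h2 : (Finset.univ : Finset ι).val.map σ = (Finset.univ : Finset ι).val := by
    have := congrArg Finset.val (Finset.map_univ_equiv σ)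
    rwa [Finset.map_val] at this
  rw [h1, h2]

theorem isWeightedHomogeneous_finset_esymm {R τ M ι : Type*} [CommRing R] [AddCommMonoid M]
    {w : τ → M} (S : Finset ι) (f : ι → MvPolynomial τ R) (m : M)
    (hf : ∀ i ∈ S, IsWeightedHomogeneous w (f i) m) (n : ℕ) :
    IsWeightedHomogeneous w ((S.val.map f).esymm n) (n • m) := by
  rw [Finset.esymm_map_val]
  apply IsWeightedHomogeneous.sum
  intro t ht
  rw [Finset.mem_powersetCard] at ht
  have := IsWeightedHomogeneous.prod t f (fun _ => m) (w := w) (fun i hi => hf i (ht.1 hi))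
  rwa [Finset.sum_const, ht.2] at this

theorem exists_sig_eq_of_isSymmetric (N : ℕ) (R : Type*) [CommRing R] (p : MvPolynomial (Fin N) R)
    (hp : p.IsSymmetric) : ∃ q, sig N R q = p := by
  obtain ⟨q, hq⟩ := (esymmAlgHom_fin_bijective R N).2 ⟨p, hp⟩
  refine ⟨q, ?_⟩
  have := congrArg Subtype.val hq
  rwa [esymmAlgHom_apply] at this

/-! ### one group of variables -/

theorem compGen_isSymmetric (N i j : ℕ) : (compGen N i j).IsSymmetric := by
  classical
  intro e
  rw [compGen]
  have h := map_finset_esymm (rename e : MvPolynomial (Fin N) ℤ →ₐ[ℤ] MvPolynomial (Fin N) ℤ).toRingHom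
    ((Finset.univ : Finset (Fin N)).powersetCard i) (fun s => ∏ a ∈ s, X a) j
  simp only [AlgHom.toRingHom_eq_coe, RingHom.coe_coe] at h
  rw [h]
  set S := (Finset.univ : Finset (Fin N)).powersetCard i with hS
  have h1 : ∀ s : Finset (Fin N), rename e (∏ a ∈ s, (X a : MvPolynomial (Fin N) ℤ)) =
      ∏ a ∈ s.map e.toEmbedding, X a := by
    intro s
    rw [map_prod, Finset.prod_map]
    simp
  simp only [h1]
  have h2 : S.val.map (fun s => ∏ a ∈ s.map e.toEmbedding, (X a : MvPolynomial (Fin N) ℤ)) =
      (S.val.map (fun s => s.map e.toEmbedding)).map (fun s => ∏ a ∈ s, X a) := by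
    rw [Multiset.map_map]
    rfl
  have h3 : S.val.map (fun s => s.map e.toEmbedding) = S.val := by
    have h4 : S.map (Finset.mapEmbedding e.toEmbedding).toEmbedding = S := by
      ext t
      simp only [Finset.mem_map, hS, Finset.mem_powersetCard, Finset.subset_univ, true_and]
      constructor
      · rintro ⟨s, hs, rfl⟩
        simpa using hs
      · intro ht
        refine ⟨t.map e.symm.toEmbedding, by simpa using ht, ?_⟩
        simp [Finset.mapEmbedding_apply, Finset.map_map]
    have := congrArg Finset.val h4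
    rw [Finset.map_val] at this
    exact this
  rw [h2, h3]

theorem compGen_isHomogeneous (N i j : ℕ) :
    IsWeightedHomogeneous (1 : Fin N → ℕ) (compGen N i j) (i * j) := by
  classical
  rw [compGen]
  have := isWeightedHomogeneous_finset_esymm (w := (1 : Fin N → ℕ))
    ((Finset.univ : Finset (Fin N)).powersetCard i)
    (fun s => (∏ a ∈ s, X a : MvPolynomial (Fin N) ℤ)) i (fun s hs => by
      rw [Finset.mem_powersetCard] at hs
      have := IsWeightedHomogeneous.prod s (fun a => (X a : MvPolynomial (Fin N) ℤ))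
        (fun _ => 1) (w := (1 : Fin N → ℕ)) (fun a _ => isWeightedHomogeneous_X ℤ _ a)
      simpa [hs.2] using this) j
  rwa [smul_eq_mul, mul_comm] at this

theorem esymm_isWeightedHomogeneous_one (N : ℕ) (R : Type*) [CommRing R] (m : ℕ) :
    IsWeightedHomogeneous (1 : Fin N → ℕ) (esymm (Fin N) R m) m := by
  rw [esymm_eq_multiset_esymm]
  have := isWeightedHomogeneous_finset_esymm (w := (1 : Fin N → ℕ))
    (Finset.univ : Finset (Fin N)) (fun a => (X a : MvPolynomial (Fin N) R)) 1
    (fun a _ => isWeightedHomogeneous_X R _ a) m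
  simpa using this

theorem exists_compPoly (N i j : ℕ) : ∃ Q : MvPolynomial (Fin N) ℤ,
    sig N ℤ Q = compGen N i j ∧
      IsWeightedHomogeneous (fun k : Fin N => (k : ℕ) + 1) Q (i * j) := by
  classical
  obtain ⟨Q0, hQ0⟩ := exists_sig_eq_of_isSymmetric N ℤ _ (compGen_isSymmetric N i j)
  refine ⟨weightedHomogeneousComponent (fun k : Fin N => (k : ℕ) + 1) (i * j) Q0, ?_,
    weightedHomogeneousComponent_isWeightedHomogeneous _ _⟩
  have h := whc_aeval (w := fun k : Fin N => (k : ℕ) + 1) (w' := (1 : Fin N → ℕ))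
    (g := fun k : Fin N => esymm (Fin N) ℤ ((k : ℕ) + 1))
    (fun k => esymm_isWeightedHomogeneous_one N ℤ _) Q0 (i * j)
  show aeval _ _ = _
  rw [← h]
  have h2 : aeval (fun k : Fin N => esymm (Fin N) ℤ ((k : ℕ) + 1)) Q0 = compGen N i j := hQ0
  rw [h2]
  exact weightedHomogeneousComponent_eq_self (compGen_isHomogeneous N i j)

end Groth.Agent.H9.Lambda
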