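import Mathlib
import Groth.Prelude.Def_LambdaSp
import Groth.Agent.Lib.Helper9.Lambda.Exist

/-!
# Existence of the universal polynomials `P_n` (two groups of variables) (helper9)
-/

set_option autoImplicit false

namespace Groth.Agent.H9.Lambda

open Finset MvPolynomial LambdaRing

variable (N : ℕ)

theorem sumRingEquiv_rename_inl (e : Equiv.Perm (Fin N)) (p : MvPolynomial (Fin N ⊕ Fin N) ℤ) :
    sumRingEquiv ℤ (Fin N) (Fin N) (rename (Sum.map e id) p) =
      rename e (sumRingEquiv ℤ (Fin N) (Fin N) p) := by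
  have h : (sumRingEquiv ℤ (Fin N) (Fin N)).toRingHom.comp
      (rename (Sum.map e id) : MvPolynomial (Fin N ⊕ Fin N) ℤ →ₐ[ℤ] _).toRingHom =
      (rename e : MvPolynomial (Fin N) (MvPolynomial (Fin N) ℤ) →ₐ[_] _).toRingHom.comp
        (sumRingEquiv ℤ (Fin N) (Fin N)).toRingHom := by
    apply MvPolynomial.ringHom_ext
    · intro r
      simp
    · intro i
      rcases i with a | b
      · simp
      · simp
  exact congrArg (fun g => g p) h

theorem sumRingEquiv_rename_inr (e : Equiv.Perm (Fin N)) (p : MvPolynomial (Fin N ⊕ Fin N) ℤ) :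
    sumRingEquiv ℤ (Fin N) (Fin N) (rename (Sum.map id e) p) =
      MvPolynomial.map (rename e : MvPolynomial (Fin N) ℤ →ₐ[ℤ] _).toRingHom
        (sumRingEquiv ℤ (Fin N) (Fin N) p) := by
  have h : (sumRingEquiv ℤ (Fin N) (Fin N)).toRingHom.comp
      (rename (Sum.map id e) : MvPolynomial (Fin N ⊕ Fin N) ℤ →ₐ[ℤ] _).toRingHom =
      (MvPolynomial.map (rename e : MvPolynomial (Fin N) ℤ →ₐ[ℤ] _).toRingHom).comp
        (sumRingEquiv ℤ (Fin N) (Fin N)).toRingHom := by
    apply MvPolynomial.ringHom_ext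
    · intro r
      simp
    · intro i
      rcases i with a | b
      · simp
      · simp
  exact congrArg (fun g => g p) h

theorem rename_mulGen (m : ℕ) (e1 e2 : Equiv.Perm (Fin N)) :
    rename (Sum.map e1 e2) (mulGen N m) = mulGen N m := by
  rw [mulGen]
  have h := map_finset_esymm
    (rename (Sum.map e1 e2) : MvPolynomial (Fin N ⊕ Fin N) ℤ →ₐ[ℤ] _).toRingHom
    (Finset.univ : Finset (Fin N × Fin N))
    (fun ab => (X (Sum.inl ab.1) * X (Sum.inr ab.2) : MvPolynomial (Fin N ⊕ Fin N) ℤ)) m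
  simp only [AlgHom.toRingHom_eq_coe, RingHom.coe_coe] at h
  rw [h]
  have h2 := univ_map_comp_equiv (Equiv.prodCongr e1 e2)
    (fun ab : Fin N × Fin N =>
      (X (Sum.inl ab.1) * X (Sum.inr ab.2) : MvPolynomial (Fin N ⊕ Fin N) ℤ))
  rw [← h2]
  congr 2
  funext ab
  simp

/-- the bidegree weights on the two groups of variables -/
def biw : Fin N ⊕ Fin N → ℕ × ℕ := Sum.elim (fun _ => ((1, 0) : ℕ × ℕ)) (fun _ => ((0, 1) : ℕ × ℕ))

/-- the isobaric weights on the two groups of variables -/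
def isow : Fin N ⊕ Fin N → ℕ × ℕ :=
  Sum.elim (fun k : Fin N => (((k : ℕ) + 1, 0) : ℕ × ℕ)) (fun k : Fin N => ((0, (k : ℕ) + 1) : ℕ × ℕ))

theorem mulGen_isHomogeneous (m : ℕ) :
    IsWeightedHomogeneous (biw N) (mulGen N m) ((m, m) : ℕ × ℕ) := by
  rw [mulGen]
  have := isWeightedHomogeneous_finset_esymm (w := biw N)
    (Finset.univ : Finset (Fin N × Fin N))
    (fun ab => (X (Sum.inl ab.1) * X (Sum.inr ab.2) : MvPolynomial (Fin N ⊕ Fin N) ℤ))
    ((1, 1) : ℕ × ℕ) (fun ab _ => by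
      have h1 := (isWeightedHomogeneous_X ℤ (biw N) (Sum.inl ab.1)).mul
        (isWeightedHomogeneous_X ℤ (biw N) (Sum.inr ab.2))
      simpa [biw] using h1) m
  simpa using this

theorem gen_isWeightedHomogeneous (i : Fin N ⊕ Fin N) :
    IsWeightedHomogeneous (biw N)
      (Sum.elim (fun k : Fin N => rename Sum.inl (esymm (Fin N) ℤ ((k : ℕ) + 1)))
        (fun k : Fin N => rename Sum.inr (esymm (Fin N) ℤ ((k : ℕ) + 1))) i) (isow N i) := by
  rcases i with k | k
  · simp only [Sum.elim_inl, isow]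
    rw [rename_esymm_eq]
    have := isWeightedHomogeneous_finset_esymm (w := biw N)
      (Finset.univ : Finset (Fin N))
      (fun a => (X (Sum.inl a) : MvPolynomial (Fin N ⊕ Fin N) ℤ)) ((1, 0) : ℕ × ℕ)
      (fun a _ => by
        have h1 := isWeightedHomogeneous_X ℤ (biw N) (Sum.inl a)
        simpa [biw] using h1) ((k : ℕ) + 1)
    simpa using this
  · simp only [Sum.elim_inr, isow]
    rw [rename_esymm_eq]
    have := isWeightedHomogeneous_finset_esymm (w := biw N)
      (Finset.univ : Finset (Fin N))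
      (fun a => (X (Sum.inr a) : MvPolynomial (Fin N ⊕ Fin N) ℤ)) ((0, 1) : ℕ × ℕ)
      (fun a _ => by
        have h1 := isWeightedHomogeneous_X ℤ (biw N) (Sum.inr a)
        simpa [biw] using h1) ((k : ℕ) + 1)
    simpa using this

theorem exists_sig2_eq_mulGen (m : ℕ) : ∃ P : MvPolynomial (Fin N ⊕ Fin N) ℤ,
    sig2 N ℤ P = mulGen N m := by
  classical
  set Φ := sumRingEquiv ℤ (Fin N) (Fin N) with hΦ
  set G := Φ (mulGen N m) with hG
  -- outer symmetry
  have hGsym : G.IsSymmetric := by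
    intro e
    rw [hG, ← sumRingEquiv_rename_inl]
    have := rename_mulGen N m e (Equiv.refl _)
    rw [Equiv.coe_refl] at this
    rw [this]
  obtain ⟨G1, hG1⟩ := exists_sig_eq_of_isSymmetric N (MvPolynomial (Fin N) ℤ) G hGsym
  -- inner symmetry
  have hinner : ∀ e : Equiv.Perm (Fin N),
      MvPolynomial.map (rename e : MvPolynomial (Fin N) ℤ →ₐ[ℤ] _).toRingHom G1 = G1 := by
    intro e
    apply sig_injective N (MvPolynomial (Fin N) ℤ)
    rw [sig_map, hG1, hG, ← sumRingEquiv_rename_inr]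
    have := rename_mulGen N m (Equiv.refl _) e
    rw [Equiv.coe_refl] at this
    rw [this]
  have hcoef : ∀ d, ∃ q, sig N ℤ q = coeff d G1 := by
    intro d
    apply exists_sig_eq_of_isSymmetric
    intro e
    have := congrArg (coeff d) (hinner e)
    rwa [coeff_map] at this
  have hrange : G1 ∈ Set.range (MvPolynomial.map (sig N ℤ).toRingHom) := by
    rw [mem_range_map_iff_coeffs_subset]
    intro c hc
    rw [Finset.mem_coe, mem_coeffs_iff] at hc
    obtain ⟨d, _, rfl⟩ := hc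
    obtain ⟨q, hq⟩ := hcoef d
    exact ⟨q, hq⟩
  obtain ⟨G2, hG2⟩ := hrange
  refine ⟨Φ.symm G2, ?_⟩
  apply Φ.injective
  rw [hΦ, sumToIter_sig2, ← hΦ, RingEquiv.apply_symm_apply, hG2, hG1]

theorem exists_mulPoly (m : ℕ) : ∃ P : MvPolynomial (Fin N ⊕ Fin N) ℤ,
    sig2 N ℤ P = mulGen N m ∧ IsWeightedHomogeneous (isow N) P ((m, m) : ℕ × ℕ) := by
  classical
  obtain ⟨P0, hP0⟩ := exists_sig2_eq_mulGen N m
  refine ⟨weightedHomogeneousComponent (isow N) ((m, m) : ℕ × ℕ) P0, ?_,
    weightedHomogeneousComponent_isWeightedHomogeneous _ _⟩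
  have h := whc_aeval (w := isow N) (w' := biw N) (gen_isWeightedHomogeneous N) P0
    ((m, m) : ℕ × ℕ)
  show aeval _ _ = _
  rw [← h]
  have h2 : aeval (Sum.elim (fun k : Fin N => rename Sum.inl (esymm (Fin N) ℤ ((k : ℕ) + 1)))
        (fun k : Fin N => rename Sum.inr (esymm (Fin N) ℤ ((k : ℕ) + 1)))) P0 = mulGen N m := hP0
  rw [h2]
  exact weightedHomogeneousComponent_eq_self (mulGen_isHomogeneous N m)

theorem exists_isMulPoly (n : ℕ) : ∃ P : MvPolynomial (Fin n ⊕ Fin n) ℤ, IsMulPoly n P :=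
  exists_mulPoly n n

end Groth.Agent.H9.Lambda
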