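import Mathlib
import Groth.Prelude.Def_LambdaSp
import Groth.Agent.Lib.Helper9.Lambda.Exist2

/-!
# Stability of the universal polynomials in the number of variables (helper9)
-/

set_option autoImplicit false

namespace Groth.Agent.H9.Lambda

open Finset MvPolynomial LambdaRing

theorem esymm_eq_of_zero_outside {A ι : Type*} [CommRing A] [DecidableEq ι] (s s' : Finset ι)
    (hss : s' ⊆ s) (f : ι → A) (h0 : ∀ a ∈ s, a ∉ s' → f a = 0) (n : ℕ) :
    (s.val.map f).esymm n = (s'.val.map f).esymm n := by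
  rw [Finset.esymm_map_val, Finset.esymm_map_val]
  symm
  apply Finset.sum_subset (Finset.powersetCard_mono hss)
  intro t ht hnt
  rw [Finset.mem_powersetCard] at ht hnt
  have : ¬ t ⊆ s' := fun h => hnt ⟨h, ht.2⟩
  obtain ⟨a, hat, has'⟩ := Finset.not_subset.mp this
  exact Finset.prod_eq_zero hat (h0 a (ht.1 hat) has')

theorem esymm_embedding {A α β : Type*} [CommRing A] (S : Finset α) (T : Finset β) (φ : α ↪ β)
    (hST : S.map φ ⊆ T) (f : β → A) (h0 : ∀ b ∈ T, b ∉ S.map φ → f b = 0) (n : ℕ) :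
    (T.val.map f).esymm n = (S.val.map (fun a => f (φ a))).esymm n := by
  classical
  rw [esymm_eq_of_zero_outside T (S.map φ) hST f h0, Finset.map_val, Multiset.map_map]
  rfl

/-! ### one group -/

section One

variable (M N : ℕ)

/-- kill the variables of index `≥ M` -/
noncomputable def trunc1 : MvPolynomial (Fin N) ℤ →ₐ[ℤ] MvPolynomial (Fin M) ℤ :=
  aeval (fun a : Fin N => if h : (a : ℕ) < M then (X ⟨a, h⟩ : MvPolynomial (Fin M) ℤ) else 0)

theorem trunc1_X_castLE (h : M ≤ N) (a : Fin M) : trunc1 M N (X (Fin.castLE h a)) = X a := by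
  simp [trunc1]

theorem trunc1_X_of_ge (a : Fin N) (ha : M ≤ (a : ℕ)) : trunc1 M N (X a) = 0 := by
  simp [trunc1, Nat.not_lt.mpr ha]

theorem exists_map_castLE (h : M ≤ N) (t : Finset (Fin N)) (ht : ∀ a ∈ t, (a : ℕ) < M) :
    ∃ s : Finset (Fin M), s.map (Fin.castLEEmb h) = t := by
  classical
  refine ⟨Finset.univ.filter (fun a : Fin M => Fin.castLE h a ∈ t), ?_⟩
  ext b
  simp only [Finset.mem_map, Finset.mem_filter, Finset.mem_univ, true_and]
  constructor
  · rintro ⟨a, ha, rfl⟩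
    exact ha
  · intro hb
    have hcast : Fin.castLE h ⟨b, ht b hb⟩ = b := Fin.ext rfl
    refine ⟨⟨b, ht b hb⟩, ?_, ?_⟩
    · rw [hcast]
      exact hb
    · exact hcast

theorem trunc1_esymm (h : M ≤ N) (n : ℕ) :
    trunc1 M N (esymm (Fin N) ℤ n) = esymm (Fin M) ℤ n := by
  rw [esymm_eq_multiset_esymm, esymm_eq_multiset_esymm]
  have h1 := map_finset_esymm (trunc1 M N).toRingHom (Finset.univ : Finset (Fin N))
    (fun a => (X a : MvPolynomial (Fin N) ℤ)) n
  simp only [AlgHom.toRingHom_eq_coe, RingHom.coe_coe] at h1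
  rw [h1]
  rw [esymm_embedding (Finset.univ : Finset (Fin M)) (Finset.univ : Finset (Fin N))
    (Fin.castLEEmb h) (Finset.subset_univ _) _ ?_ n]
  · congr 2
    funext a
    exact trunc1_X_castLE M N h a
  · intro b _ hb
    apply trunc1_X_of_ge
    by_contra hlt
    rw [not_le] at hlt
    apply hb
    rw [Finset.mem_map]
    exact ⟨⟨b, hlt⟩, Finset.mem_univ _, by ext; simp⟩

theorem trunc1_sig_rename (h : M ≤ N) (q : MvPolynomial (Fin M) ℤ) :
    trunc1 M N (sig N ℤ (rename (Fin.castLE h) q)) = sig M ℤ q := by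
  have hh : ((trunc1 M N).toRingHom.comp (sig N ℤ).toRingHom).comp
      (rename (Fin.castLE h) : MvPolynomial (Fin M) ℤ →ₐ[ℤ] _).toRingHom =
      (sig M ℤ).toRingHom := by
    apply MvPolynomial.ringHom_ext
    · intro r
      simp
    · intro a
      simp only [AlgHom.toRingHom_eq_coe, RingHom.coe_comp, RingHom.coe_coe,
        Function.comp_apply, rename_X, sig_X]
      rw [trunc1_esymm M N h]
      simp
  exact congrArg (fun g => g q) hh

theorem trunc1_compGen (h : M ≤ N) (i j : ℕ) :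
    trunc1 M N (compGen N i j) = compGen M i j := by
  classical
  rw [compGen, compGen]
  have h1 := map_finset_esymm (trunc1 M N).toRingHom
    ((Finset.univ : Finset (Fin N)).powersetCard i)
    (fun s => (∏ a ∈ s, X a : MvPolynomial (Fin N) ℤ)) j
  simp only [AlgHom.toRingHom_eq_coe, RingHom.coe_coe] at h1
  rw [h1]
  rw [esymm_embedding ((Finset.univ : Finset (Fin M)).powersetCard i)
    ((Finset.univ : Finset (Fin N)).powersetCard i)
    (Finset.mapEmbedding (Fin.castLEEmb h)).toEmbedding ?_ _ ?_ j]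
  · congr 2
    funext s
    rw [map_prod]
    simp only [RelEmbedding.coe_toEmbedding, Finset.mapEmbedding_apply]
    rw [Finset.prod_map]
    refine Finset.prod_congr rfl fun a _ => ?_
    exact trunc1_X_castLE M N h a
  · intro t ht
    rw [Finset.mem_map] at ht
    obtain ⟨s, hs, rfl⟩ := ht
    rw [Finset.mem_powersetCard] at hs ⊢
    refine ⟨Finset.subset_univ _, ?_⟩
    simpa [Finset.mapEmbedding_apply] using hs.2
  · intro t ht hnt
    rw [map_prod]
    by_contra hne
    apply hnt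
    have hall : ∀ a ∈ t, (a : ℕ) < M := by
      intro a hat
      by_contra hge
      rw [not_lt] at hge
      exact hne (Finset.prod_eq_zero hat (trunc1_X_of_ge M N a hge))
    obtain ⟨s, hs⟩ := exists_map_castLE M N h t hall
    rw [Finset.mem_map]
    refine ⟨s, ?_, ?_⟩
    · rw [Finset.mem_powersetCard] at ht ⊢
      refine ⟨Finset.subset_univ _, ?_⟩
      rw [← ht.2, ← hs, Finset.card_map]
    · simpa [Finset.mapEmbedding_apply] using hs

theorem vars_subset_of_isobaric (h : M ≤ N) (Q : MvPolynomial (Fin N) ℤ) (m : ℕ) (hm : m ≤ M)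
    (hQ : IsWeightedHomogeneous (fun k : Fin N => (k : ℕ) + 1) Q m) :
    (Q.vars : Set (Fin N)) ⊆ Set.range (Fin.castLE h) := by
  intro a ha
  rw [Finset.mem_coe, mem_vars_iff_mem_support] at ha
  obtain ⟨d, hd, had⟩ := ha
  have hw := hQ (mem_support_iff.mp hd)
  have hle := Finsupp.le_weight_of_ne_zero' (fun k : Fin N => (k : ℕ) + 1)
    (Finsupp.mem_support_iff.mp had)
  rw [hw] at hle
  exact ⟨⟨a, by omega⟩, by ext; simp⟩

/-- stability of `Q_{i,j}` -/
theorem sig_rename_compPoly (h : M ≤ N) (i j : ℕ) (hij : i * j ≤ M) (Q : MvPolynomial (Fin M) ℤ)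
    (hQ : sig M ℤ Q = compGen M i j) :
    sig N ℤ (rename (Fin.castLE h) Q) = compGen N i j := by
  obtain ⟨Q', hQ'1, hQ'2⟩ := exists_compPoly N i j
  obtain ⟨Q'', hQ''⟩ := exists_rename_eq_of_vars_subset_range Q' (Fin.castLE h)
    (Fin.castLE_injective h) (vars_subset_of_isobaric M N h Q' (i * j) hij hQ'2)
  have h1 : sig M ℤ Q'' = sig M ℤ Q := by
    rw [← trunc1_sig_rename M N h Q'', hQ'', hQ'1, trunc1_compGen M N h, hQ]
  have h2 : Q'' = Q := sig_injective M ℤ h1
  rw [← h2, hQ'', hQ'1]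

end One

/-! ### two groups -/

section Two

variable (m k : ℕ)

/-- kill the variables of index `≥ m` in both groups -/
noncomputable def trunc2 : MvPolynomial (Fin k ⊕ Fin k) ℤ →ₐ[ℤ] MvPolynomial (Fin m ⊕ Fin m) ℤ :=
  aeval (Sum.elim
    (fun a : Fin k => if h : (a : ℕ) < m then (X (Sum.inl ⟨a, h⟩) : MvPolynomial (Fin m ⊕ Fin m) ℤ)
      else 0)
    (fun a : Fin k => if h : (a : ℕ) < m then (X (Sum.inr ⟨a, h⟩) : MvPolynomial (Fin m ⊕ Fin m) ℤ)
      else 0))

theorem trunc2_X_inl_castLE (h : m ≤ k) (a : Fin m) :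
    trunc2 m k (X (Sum.inl (Fin.castLE h a))) = X (Sum.inl a) := by
  simp [trunc2]

theorem trunc2_X_inr_castLE (h : m ≤ k) (a : Fin m) :
    trunc2 m k (X (Sum.inr (Fin.castLE h a))) = X (Sum.inr a) := by
  simp [trunc2]

theorem trunc2_X_inl_of_ge (a : Fin k) (ha : m ≤ (a : ℕ)) : trunc2 m k (X (Sum.inl a)) = 0 := by
  simp [trunc2, Nat.not_lt.mpr ha]

theorem trunc2_X_inr_of_ge (a : Fin k) (ha : m ≤ (a : ℕ)) : trunc2 m k (X (Sum.inr a)) = 0 := by
  simp [trunc2, Nat.not_lt.mpr ha]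

theorem trunc2_rename_inl (p : MvPolynomial (Fin k) ℤ) :
    trunc2 m k (rename Sum.inl p) = rename Sum.inl (trunc1 m k p) := by
  have hh : (trunc2 m k).toRingHom.comp
      (rename Sum.inl : MvPolynomial (Fin k) ℤ →ₐ[ℤ] _).toRingHom =
      (rename Sum.inl : MvPolynomial (Fin m) ℤ →ₐ[ℤ] _).toRingHom.comp (trunc1 m k).toRingHom := by
    apply MvPolynomial.ringHom_ext
    · intro r
      simp
    · intro a
      simp only [AlgHom.toRingHom_eq_coe, RingHom.coe_comp, RingHom.coe_coe,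
        Function.comp_apply, rename_X, trunc1, trunc2, aeval_X, Sum.elim_inl]
      split_ifs <;> simp
  exact congrArg (fun g => g p) hh

theorem trunc2_rename_inr (p : MvPolynomial (Fin k) ℤ) :
    trunc2 m k (rename Sum.inr p) = rename Sum.inr (trunc1 m k p) := by
  have hh : (trunc2 m k).toRingHom.comp
      (rename Sum.inr : MvPolynomial (Fin k) ℤ →ₐ[ℤ] _).toRingHom =
      (rename Sum.inr : MvPolynomial (Fin m) ℤ →ₐ[ℤ] _).toRingHom.comp (trunc1 m k).toRingHom := by
    apply MvPolynomial.ringHom_ext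
    · intro r
      simp
    · intro a
      simp only [AlgHom.toRingHom_eq_coe, RingHom.coe_comp, RingHom.coe_coe,
        Function.comp_apply, rename_X, trunc1, trunc2, aeval_X, Sum.elim_inr]
      split_ifs <;> simp
  exact congrArg (fun g => g p) hh

theorem trunc2_sig2_rename (h : m ≤ k) (q : MvPolynomial (Fin m ⊕ Fin m) ℤ) :
    trunc2 m k (sig2 k ℤ (rename (Sum.map (Fin.castLE h) (Fin.castLE h)) q)) = sig2 m ℤ q := by
  have hh : ((trunc2 m k).toRingHom.comp (sig2 k ℤ).toRingHom).comp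
      (rename (Sum.map (Fin.castLE h) (Fin.castLE h)) :
        MvPolynomial (Fin m ⊕ Fin m) ℤ →ₐ[ℤ] _).toRingHom =
      (sig2 m ℤ).toRingHom := by
    apply MvPolynomial.ringHom_ext
    · intro r
      simp
    · intro a
      rcases a with a | a
      · simp only [AlgHom.toRingHom_eq_coe, RingHom.coe_comp, RingHom.coe_coe,
          Function.comp_apply, rename_X, Sum.map_inl, sig2_X_inl]
        rw [trunc2_rename_inl, trunc1_esymm m k h]
        simp
      · simp only [AlgHom.toRingHom_eq_coe, RingHom.coe_comp, RingHom.coe_coe,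
          Function.comp_apply, rename_X, Sum.map_inr, sig2_X_inr]
        rw [trunc2_rename_inr, trunc1_esymm m k h]
        simp
  exact congrArg (fun g => g q) hh

theorem trunc2_mulGen (h : m ≤ k) (n : ℕ) : trunc2 m k (mulGen k n) = mulGen m n := by
  classical
  rw [mulGen, mulGen]
  have h1 := map_finset_esymm (trunc2 m k).toRingHom (Finset.univ : Finset (Fin k × Fin k))
    (fun ab => (X (Sum.inl ab.1) * X (Sum.inr ab.2) : MvPolynomial (Fin k ⊕ Fin k) ℤ)) n
  simp only [AlgHom.toRingHom_eq_coe, RingHom.coe_coe] at h1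
  rw [h1]
  rw [esymm_embedding (Finset.univ : Finset (Fin m × Fin m)) (Finset.univ : Finset (Fin k × Fin k))
    ((Fin.castLEEmb h).prodMap (Fin.castLEEmb h)) (Finset.subset_univ _) _ ?_ n]
  · congr 2
    funext ab
    simp only [Function.Embedding.coe_prodMap, Prod.map_fst, Prod.map_snd, map_mul]
    rw [Fin.castLEEmb_apply, Fin.castLEEmb_apply, trunc2_X_inl_castLE m k h,
      trunc2_X_inr_castLE m k h]
  · intro ab _ hab
    rw [map_mul]
    by_cases h1 : (ab.1 : ℕ) < m
    · by_cases h2 : (ab.2 : ℕ) < m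
      · exfalso
        apply hab
        rw [Finset.mem_map]
        exact ⟨(⟨ab.1, h1⟩, ⟨ab.2, h2⟩), Finset.mem_univ _, by ext <;> simp⟩
      · rw [trunc2_X_inr_of_ge m k _ (not_lt.mp h2), mul_zero]
    · rw [trunc2_X_inl_of_ge m k _ (not_lt.mp h1), zero_mul]

theorem vars_subset_of_biisobaric (h : m ≤ k) (P : MvPolynomial (Fin k ⊕ Fin k) ℤ)
    (hP : IsWeightedHomogeneous (isow k) P ((m, m) : ℕ × ℕ)) :
    (P.vars : Set (Fin k ⊕ Fin k)) ⊆ Set.range (Sum.map (Fin.castLE h) (Fin.castLE h)) := by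
  intro a ha
  rw [Finset.mem_coe, mem_vars_iff_mem_support] at ha
  obtain ⟨d, hd, had⟩ := ha
  have hw := hP (mem_support_iff.mp hd)
  have hle := Finsupp.le_weight_of_ne_zero' (isow k) (Finsupp.mem_support_iff.mp had)
  rw [hw] at hle
  rcases a with a | a
  · have : (a : ℕ) + 1 ≤ m := by
      have := hle.1
      simpa [isow] using this
    exact ⟨Sum.inl ⟨a, by omega⟩, by simp⟩
  · have : (a : ℕ) + 1 ≤ m := by
      have := hle.2
      simpa [isow] using this
    exact ⟨Sum.inr ⟨a, by omega⟩, by simp⟩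

/-- stability of `P_m` -/
theorem sig2_rename_mulPoly (h : m ≤ k) (P : MvPolynomial (Fin m ⊕ Fin m) ℤ)
    (hP : sig2 m ℤ P = mulGen m m) :
    sig2 k ℤ (rename (Sum.map (Fin.castLE h) (Fin.castLE h)) P) = mulGen k m := by
  obtain ⟨P', hP'1, hP'2⟩ := exists_mulPoly k m
  have hinj : Function.Injective (Sum.map (Fin.castLE h) (Fin.castLE h)) :=
    Sum.map_injective.mpr ⟨Fin.castLE_injective h, Fin.castLE_injective h⟩
  obtain ⟨P'', hP''⟩ := exists_rename_eq_of_vars_subset_range P'
    (Sum.map (Fin.castLE h) (Fin.castLE h)) hinj (vars_subset_of_biisobaric m k h P' hP'2)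
  have h1 : sig2 m ℤ P'' = sig2 m ℤ P := by
    rw [← trunc2_sig2_rename m k h P'', hP'', hP'1, trunc2_mulGen m k h, hP]
  have h2 : P'' = P := sig2_injective m ℤ h1
  rw [← h2, hP'', hP'1]

end Two

end Groth.Agent.H9.Lambda
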