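import Mathlib
import Groth.Prelude.Def_LambdaSp
import Groth.Agent.Lib.Helper9.Lambda.PreLambda
import Groth.Agent.Lib.Helper9.Lambda.Stable
import Groth.Agent.Lib.Helper9.Lambda.Special

/-!
# Adams operations of a special λ-ring are ring homomorphisms and compose (helper9)
-/

set_option autoImplicit false

namespace Groth.Agent.H9.Lambda

open Finset MvPolynomial LambdaRing

universe u

section

variable {K : Type u} [CommRing K] [LambdaOps K]

theorem adams_mul_of_isSpecial (hK : IsSpecial K) (k : ℕ) (hk : 1 ≤ k) (x y : K) :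
    adamsOp k (x * y) = adamsOp k x * adamsOp k y := by
  classical
  choose P hPm using exists_isMulPoly
  let l : ℕ → MvPolynomial (Fin k ⊕ Fin k) ℤ := fun m =>
    if m = 0 then 1 else
      if h : m ≤ k then rename (Sum.map (Fin.castLE h) (Fin.castLE h)) (P m) else 0
  have hl0 : l 0 = 1 := by simp [l]
  have hl_pos : ∀ m, m ≠ 0 → ∀ h : m ≤ k,
      l m = rename (Sum.map (Fin.castLE h) (Fin.castLE h)) (P m) := by
    intro m hm h
    simp only [l]
    rw [if_neg hm, dif_pos h]
  let lX2 : ℕ → MvPolynomial (Fin k ⊕ Fin k) ℤ := fun m => rename Sum.inl (lX k ℤ m)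
  let lY2 : ℕ → MvPolynomial (Fin k ⊕ Fin k) ℤ := fun m => rename Sum.inr (lX k ℤ m)
  have hlX2 : lX2 0 = 1 := by simp [lX2, lX_zero]
  have hlY2 : lY2 0 = 1 := by simp [lY2, lX_zero]
  let sX : ℕ → MvPolynomial (Fin k ⊕ Fin k) ℤ := newtonS lX2
  let sY : ℕ → MvPolynomial (Fin k ⊕ Fin k) ℤ := newtonS lY2
  let sXY : ℕ → MvPolynomial (Fin k ⊕ Fin k) ℤ := newtonS l
  have hNX : IsNewton lX2 sX := isNewton_newtonS hlX2
  have hNY : IsNewton lY2 sY := isNewton_newtonS hlY2
  have hNXY : IsNewton l sXY := isNewton_newtonS hl0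
  -- the symmetric side
  let fX : Fin k → MvPolynomial (Fin k ⊕ Fin k) ℤ := fun a => X (Sum.inl a)
  let fY : Fin k → MvPolynomial (Fin k ⊕ Fin k) ℤ := fun b => X (Sum.inr b)
  let fXY : Fin k × Fin k → MvPolynomial (Fin k ⊕ Fin k) ℤ :=
    fun ab => X (Sum.inl ab.1) * X (Sum.inr ab.2)
  have hσlX : ∀ m, sig2 k ℤ (lX2 m) = (Finset.univ.val.map fX).esymm m := by
    intro m
    show sig2 k ℤ (rename Sum.inl (lX k ℤ m)) = _
    rw [sig2_rename_inl, sig_lX, rename_esymm_eq]
  have hσlY : ∀ m, sig2 k ℤ (lY2 m) = (Finset.univ.val.map fY).esymm m := by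
    intro m
    show sig2 k ℤ (rename Sum.inr (lX k ℤ m)) = _
    rw [sig2_rename_inr, sig_lX, rename_esymm_eq]
  have hσl : ∀ m ≤ k, sig2 k ℤ (l m) = (Finset.univ.val.map fXY).esymm m := by
    intro m hm
    by_cases h0 : m = 0
    · subst h0
      rw [hl0, map_one]
      exact (isNewton_family fXY).1.symm
    · rw [hl_pos m h0 hm, sig2_rename_mulPoly m k hm (P m) (hPm m).1]
      rfl
  have hσsX : ∀ k', 1 ≤ k' → sig2 k ℤ (sX k') = ∑ a, fX a ^ k' := by
    intro k' hk'
    exact (hNX.map (sig2 k ℤ).toRingHom).s_unique (isNewton_family fX) k'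
      (fun m _ => hσlX m) k' hk' le_rfl
  have hσsY : ∀ k', 1 ≤ k' → sig2 k ℤ (sY k') = ∑ a, fY a ^ k' := by
    intro k' hk'
    exact (hNY.map (sig2 k ℤ).toRingHom).s_unique (isNewton_family fY) k'
      (fun m _ => hσlY m) k' hk' le_rfl
  have hσsXY : sig2 k ℤ (sXY k) = ∑ ab, fXY ab ^ k :=
    (hNXY.map (sig2 k ℤ).toRingHom).s_unique (isNewton_family fXY) k hσl k hk le_rfl
  have hkey : sXY k = sX k * sY k := by
    apply sig2_injective k ℤ
    rw [hσsXY, map_mul, hσsX k hk, hσsY k hk, Finset.sum_mul_sum, ← Finset.sum_product']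
    refine Finset.sum_congr rfl fun ab _ => ?_
    simp only [fXY, fX, fY, mul_pow]
  -- the evaluation side
  let ev : MvPolynomial (Fin k ⊕ Fin k) ℤ →ₐ[ℤ] K :=
    aeval (Sum.elim (fun j : Fin k => LambdaOps.lam ((j : ℕ) + 1) x)
      (fun j : Fin k => LambdaOps.lam ((j : ℕ) + 1) y))
  have hev_lX : ∀ m ≤ k, ev (lX2 m) = LambdaOps.lam m x := by
    intro m hm
    by_cases h0 : m = 0
    · subst h0
      rw [hlX2, map_one, LambdaOps.lam_zero]
    · show ev (rename Sum.inl (lX k ℤ m)) = _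
      rw [lX_of_le k ℤ h0 hm, rename_X]
      simp only [ev, aeval_X, Sum.elim_inl]
      congr 1
      omega
  have hev_lY : ∀ m ≤ k, ev (lY2 m) = LambdaOps.lam m y := by
    intro m hm
    by_cases h0 : m = 0
    · subst h0
      rw [hlY2, map_one, LambdaOps.lam_zero]
    · show ev (rename Sum.inr (lX k ℤ m)) = _
      rw [lX_of_le k ℤ h0 hm, rename_X]
      simp only [ev, aeval_X, Sum.elim_inr]
      congr 1
      omega
  have hev_l : ∀ m ≤ k, ev (l m) = LambdaOps.lam m (x * y) := by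
    intro m hm
    by_cases h0 : m = 0
    · subst h0
      rw [hl0, map_one, LambdaOps.lam_zero]
    · rw [hl_pos m h0 hm, hK.lam_mul m (P m) (hPm m) x y]
      simp only [ev]
      rw [aeval_rename]
      have hfun : ((Sum.elim (fun j : Fin k => LambdaOps.lam ((j : ℕ) + 1) x)
          fun j : Fin k => LambdaOps.lam ((j : ℕ) + 1) y) ∘
          Sum.map (Fin.castLE hm) (Fin.castLE hm)) =
          Sum.elim (fun j : Fin m => LambdaOps.lam ((j : ℕ) + 1) x)
            fun j : Fin m => LambdaOps.lam ((j : ℕ) + 1) y := by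
        funext j
        rcases j with j | j <;> simp
      rw [hfun]
  have h1 : ev (sXY k) = adamsOp k (x * y) :=
    (hNXY.map ev.toRingHom).s_unique (isNewton_lam (x * y)) k hev_l k hk le_rfl
  have h2 : ev (sX k) = adamsOp k x :=
    (hNX.map ev.toRingHom).s_unique (isNewton_lam x) k hev_lX k hk le_rfl
  have h3 : ev (sY k) = adamsOp k y :=
    (hNY.map ev.toRingHom).s_unique (isNewton_lam y) k hev_lY k hk le_rfl
  rw [← h1, hkey, map_mul, h2, h3]

theorem isNewton_one_const (A : Type*) [CommRing A] :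
    IsNewton (fun m : ℕ => if m ≤ 1 then (1 : A) else 0) (fun _ => (1 : A)) := by
  let l0 : ℕ → A := fun m => if m ≤ 1 then 1 else 0
  show IsNewton l0 (fun _ => (1 : A))
  refine ⟨by simp [l0], fun m => ?_⟩
  rcases m with _ | _ | m
  · simp [l0]
  · simp [l0, Finset.sum_range_succ]
  · have h2 : l0 (m + 2 + 1) = 0 := by simp [l0]
    rw [h2, mul_zero, Finset.sum_range_succ, Finset.sum_range_succ]
    have h3 : ∑ i ∈ range (m + 1), (-1 : A) ^ i * 1 * l0 (m + 2 - i) = 0 := by
      apply Finset.sum_eq_zero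
      intro i hi
      rw [Finset.mem_range] at hi
      have : l0 (m + 2 - i) = 0 := by
        simp only [l0]
        rw [if_neg (by omega)]
      rw [this, mul_zero]
    rw [h3]
    have h4 : l0 (m + 2 - (m + 1)) = 1 := by
      have : m + 2 - (m + 1) = 1 := by omega
      simp [l0, this]
    have h5 : l0 (m + 2 - (m + 2)) = 1 := by simp [l0]
    rw [h4, h5, pow_succ]
    ring

theorem adams_one_of_isSpecial (hK : IsSpecial K) (k : ℕ) (hk : 1 ≤ k) :
    adamsOp k (1 : K) = 1 := by
  refine (isNewton_lam (1 : K)).s_unique (isNewton_one_const K) k (fun m _ => ?_) k hk le_rfl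
  rcases m with _ | _ | m
  · simp [LambdaOps.lam_zero]
  · simp [LambdaOps.lam_one]
  · show LambdaOps.lam (m + 2) (1 : K) = _
    rw [hK.lam_one_eq_zero (m + 2) (by omega), if_neg (by omega)]

theorem adams_comp_of_isSpecial (hK : IsSpecial K) (k k' : ℕ) (hk : 1 ≤ k) (hk' : 1 ≤ k')
    (x : K) : adamsOp k (adamsOp k' x) = adamsOp (k * k') x := by
  classical
  have hQex : ∀ i j : ℕ, ∃ Q : MvPolynomial (Fin (i * j)) ℤ, IsCompPoly i j Q :=
    fun i j => exists_compPoly (i * j) i j
  choose Q hQ using hQex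
  let ψ : K →+* K := adamsHom (adams_one_of_isSpecial hK) (adams_mul_of_isSpecial hK) k hk
  have hψ : ∀ z, ψ z = adamsOp k z := fun z => rfl
  set N := k * k' with hN
  -- the universal elements
  let li : ℕ → ℕ → MvPolynomial (Fin N) ℤ := fun i j =>
    if j = 0 then 1 else if h : i * j ≤ N then rename (Fin.castLE h) (Q i j) else 0
  have hli0 : ∀ i, li i 0 = 1 := fun i => by simp [li]
  have hli_pos : ∀ i j, j ≠ 0 → ∀ h : i * j ≤ N, li i j = rename (Fin.castLE h) (Q i j) := by
    intro i j hj h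
    simp only [li]
    rw [if_neg hj, dif_pos h]
  let W : ℕ → MvPolynomial (Fin N) ℤ := fun i => newtonS (li i) k
  have hNli : ∀ i, IsNewton (li i) (newtonS (li i)) := fun i => isNewton_newtonS (hli0 i)
  have hle : ∀ i j, i ≤ k' → j ≤ k → i * j ≤ N := by
    intro i j hi hj
    rw [hN, mul_comm k k']
    exact Nat.mul_le_mul hi hj
  let F : Finset (Fin N) → MvPolynomial (Fin N) ℤ := fun s => ∏ a ∈ s, X a
  have hσli : ∀ i ≤ k', ∀ j ≤ k, sig N ℤ (li i j) =
      (((Finset.univ : Finset (Fin N)).powersetCard i).val.map F).esymm j := by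
    intro i hi j hj
    by_cases h0 : j = 0
    · subst h0
      rw [hli0, map_one]
      exact (isNewton_finset _ F).1.symm
    · rw [hli_pos i j h0 (hle i j hi hj),
        sig_rename_compPoly (i * j) N (hle i j hi hj) i j le_rfl (Q i j) (hQ i j).1]
      rfl
  have hσW : ∀ i ≤ k', sig N ℤ (W i) =
      (Finset.univ.val.map (fun a : Fin N => (X a : MvPolynomial (Fin N) ℤ) ^ k)).esymm i := by
    intro i hi
    have h1 : sig N ℤ (W i) = ∑ s ∈ (Finset.univ : Finset (Fin N)).powersetCard i, F s ^ k :=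
      ((hNli i).map (sig N ℤ).toRingHom).s_unique (isNewton_finset _ F) k (hσli i hi) k hk le_rfl
    rw [h1, Finset.esymm_map_val]
    refine Finset.sum_congr rfl fun s _ => ?_
    rw [Finset.prod_pow]
  -- evaluations
  let ev : MvPolynomial (Fin N) ℤ →ₐ[ℤ] K := aeval (fun a : Fin N => LambdaOps.lam ((a : ℕ) + 1) x)
  have hev_li : ∀ i ≤ k', ∀ j ≤ k, ev (li i j) = LambdaOps.lam j (LambdaOps.lam i x) := by
    intro i hi j hj
    by_cases h0 : j = 0
    · subst h0
      rw [hli0, map_one, LambdaOps.lam_zero]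
    · rw [hli_pos i j h0 (hle i j hi hj), hK.lam_lam i j (Q i j) (hQ i j) x]
      simp only [ev]
      rw [aeval_rename]
      rfl
  have hev_W : ∀ i ≤ k', ev (W i) = adamsOp k (LambdaOps.lam i x) := by
    intro i hi
    exact ((hNli i).map ev.toRingHom).s_unique (isNewton_lam (LambdaOps.lam i x)) k
      (hev_li i hi) k hk le_rfl
  -- the small universal ring
  let l0' : ℕ → MvPolynomial (Fin k') ℤ := lX k' ℤ
  let s0' : ℕ → MvPolynomial (Fin k') ℤ := newtonS l0'
  have hN0' : IsNewton l0' s0' := isNewton_newtonS (lX_zero k' ℤ)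
  let ev' : MvPolynomial (Fin k') ℤ →ₐ[ℤ] K :=
    aeval (fun a : Fin k' => LambdaOps.lam ((a : ℕ) + 1) x)
  have hev'_l0 : ∀ m ≤ k', ev' (l0' m) = LambdaOps.lam m x := by
    intro m hm
    by_cases h0 : m = 0
    · subst h0
      simp only [l0']
      rw [lX_zero, map_one, LambdaOps.lam_zero]
    · simp only [l0']
      rw [lX_of_le k' ℤ h0 hm]
      simp only [ev', aeval_X]
      congr 1
      omega
  have hev'_s0 : ev' (s0' k') = adamsOp k' x :=
    (hN0'.map ev'.toRingHom).s_unique (isNewton_lam x) k' hev'_l0 k' hk' le_rfl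
  let Θ : MvPolynomial (Fin k') ℤ →ₐ[ℤ] MvPolynomial (Fin N) ℤ :=
    aeval (fun a : Fin k' => W ((a : ℕ) + 1))
  have hclaim1 : ∀ p, ψ (ev' p) = ev (Θ p) := by
    have hh : ψ.comp ev'.toRingHom = ev.toRingHom.comp Θ.toRingHom := by
      apply MvPolynomial.ringHom_ext
      · intro r
        simp
      · intro a
        simp only [AlgHom.toRingHom_eq_coe, RingHom.coe_comp, RingHom.coe_coe,
          Function.comp_apply, ev', Θ, aeval_X]
        rw [hψ, hev_W _ (by have := a.2; omega)]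
    intro p
    exact congrArg (fun g => g p) hh
  -- the big universal sequence
  let l0 : ℕ → MvPolynomial (Fin N) ℤ := lX N ℤ
  let s0 : ℕ → MvPolynomial (Fin N) ℤ := newtonS l0
  have hN0 : IsNewton l0 s0 := isNewton_newtonS (lX_zero N ℤ)
  have hσs0 : ∀ m, 1 ≤ m → sig N ℤ (s0 m) = ∑ a : Fin N, (X a : MvPolynomial (Fin N) ℤ) ^ m := by
    intro m hm
    refine (hN0.map (sig N ℤ).toRingHom).s_unique (isNewton_family X) m (fun m' _ => ?_) m hm le_rfl
    show sig N ℤ (lX N ℤ m') = _
    rw [sig_lX, esymm_eq_multiset_esymm]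
  have hev_l0 : ∀ m ≤ N, ev (l0 m) = LambdaOps.lam m x := by
    intro m hm
    by_cases h0 : m = 0
    · subst h0
      simp only [l0]
      rw [lX_zero, map_one, LambdaOps.lam_zero]
    · simp only [l0]
      rw [lX_of_le N ℤ h0 hm]
      simp only [ev, aeval_X]
      congr 1
      omega
  have hev_s0 : ∀ m, 1 ≤ m → m ≤ N → ev (s0 m) = adamsOp m x := fun m hm1 hmN =>
    (hN0.map ev.toRingHom).s_unique (isNewton_lam x) N hev_l0 m hm1 hmN
  have hclaim2 : Θ (s0' k') = s0 (k * k') := by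
    apply sig_injective N ℤ
    rw [hσs0 (k * k') (Nat.mul_pos hk hk')]
    have h1 : sig N ℤ (Θ (s0' k')) =
        ∑ a : Fin N, ((X a : MvPolynomial (Fin N) ℤ) ^ k) ^ k' := by
      refine (hN0'.map ((sig N ℤ).toRingHom.comp Θ.toRingHom)).s_unique
        (isNewton_family (fun a : Fin N => (X a : MvPolynomial (Fin N) ℤ) ^ k)) k'
        (fun m hm => ?_) k' hk' le_rfl
      show sig N ℤ (Θ (l0' m)) = _
      by_cases h0 : m = 0
      · subst h0
        simp only [l0']
        rw [lX_zero, map_one, map_one]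
        exact (isNewton_family (fun a : Fin N => (X a : MvPolynomial (Fin N) ℤ) ^ k)).1.symm
      · simp only [l0']
        rw [lX_of_le k' ℤ h0 hm]
        simp only [Θ, aeval_X]
        have hm1 : m - 1 + 1 = m := by omega
        rw [hm1]
        exact hσW m hm
    rw [h1]
    refine Finset.sum_congr rfl fun a _ => ?_
    rw [pow_mul]
  rw [← hev'_s0, ← hψ, hclaim1, hclaim2]
  exact hev_s0 (k * k') (Nat.mul_pos hk hk') le_rfl

end

end Groth.Agent.H9.Lambda
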