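import Mathlib
import Groth.Prelude.Def_LambdaSp
import Groth.Agent.Lib.Helper9.Lambda.Special

/-!
# Binomial rings are special λ-rings (helper9)
-/

set_option autoImplicit false

namespace Groth.Agent.H9.Lambda

open Finset MvPolynomial LambdaRing TensorProduct

universe u

section

variable {R : Type*} [CommRing R] [BinomialRing R]

theorem choose_pred_eq_sum (z : R) (n : ℕ) :
    Ring.choose (z - 1) n = ∑ i ∈ range (n + 1), (-1 : R) ^ i * Ring.choose z (n - i) := by
  induction n with
  | zero => simp
  | succ n ih =>
    have h1 : Ring.choose z (n + 1) = Ring.choose (z - 1) n + Ring.choose (z - 1) (n + 1) := by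
      have := Ring.choose_succ_succ (z - 1) n
      rwa [sub_add_cancel] at this
    rw [Finset.sum_range_succ']
    simp only [pow_zero, one_mul, Nat.sub_zero]
    have h2 : ∑ i ∈ range (n + 1), (-1 : R) ^ (i + 1) * Ring.choose z (n + 1 - (i + 1)) =
        - ∑ i ∈ range (n + 1), (-1 : R) ^ i * Ring.choose z (n - i) := by
      rw [← Finset.sum_neg_distrib]
      refine Finset.sum_congr rfl fun i _ => ?_
      rw [pow_succ, Nat.add_sub_add_right]
      ring
    rw [h2, ← ih, h1]
    ring

theorem isNewton_choose (z : R) : IsNewton (fun n => Ring.choose z n) (fun _ => z) := by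
  refine ⟨Ring.choose_zero_right z, fun n => ?_⟩
  have h1 := Ring.choose_smul_choose z (n := n + 1) (k := 1) (by omega)
  rw [Nat.choose_one_right, Ring.choose_one_right, Nat.add_sub_cancel, nsmul_eq_mul,
    Nat.cast_one] at h1
  rw [h1, choose_pred_eq_sum, Finset.mul_sum]
  refine Finset.sum_congr rfl fun i _ => ?_
  ring

end

section

variable {K : Type u} [CommRing K] [LambdaOps K] [BinomialRing K]

theorem adamsOp_of_isBinomial (hKb : IsBinomial K) (k : ℕ) (hk : 1 ≤ k) (x : K) :
    adamsOp k x = x := by
  have h1 : IsNewton (fun n => LambdaOps.lam n x) (fun _ => x) := by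
    have := isNewton_choose x
    have h2 : (fun n => LambdaOps.lam n x) = fun n => Ring.choose x n := by
      funext n
      exact hKb n x
    rw [h2]
    exact this
  exact (isNewton_lam x).s_unique h1 k (fun m _ => rfl) k hk le_rfl

end

theorem map_aeval_int {σ : Type*} {K L : Type*} [CommRing K] [CommRing L] (f : K →+* L)
    (g : σ → K) (P : MvPolynomial σ ℤ) :
    f (aeval g P) = aeval (fun i => f (g i)) P := by
  have : f.comp (aeval g : MvPolynomial σ ℤ →ₐ[ℤ] K).toRingHom =
      (aeval (fun i => f (g i)) : MvPolynomial σ ℤ →ₐ[ℤ] L).toRingHom := by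
    apply MvPolynomial.ringHom_ext
    · intro r
      simp
    · intro i
      simp
  exact congrArg (fun h => h P) this

/-- a `ℚ`-algebra is a binomial ring -/
@[instance_reducible]
noncomputable def binomialOfRat (L : Type*) [CommRing L] [Algebra ℚ L] : BinomialRing L :=
  letI : Module ℚ≥0 L := Module.compHom L (NNRat.castHom ℚ)
  inferInstance

theorem isSpecial_of_rat_binomial (L : Type u) [CommRing L] [Algebra ℚ L] [LambdaOps L]
    [BinomialRing L] (hL : IsBinomial L) : IsSpecial L :=
  isSpecial_of_adams
    (fun k hk => adamsOp_of_isBinomial hL k hk 1)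
    (fun k hk x y => by
      rw [adamsOp_of_isBinomial hL k hk, adamsOp_of_isBinomial hL k hk,
        adamsOp_of_isBinomial hL k hk])
    (fun k k' hk hk' x => by
      rw [adamsOp_of_isBinomial hL k' hk', adamsOp_of_isBinomial hL k hk,
        adamsOp_of_isBinomial hL (k * k') (Nat.mul_pos hk hk')])

theorem isSpecial_of_isBinomial (K : Type u) [CommRing K] [LambdaOps K] [BinomialRing K]
    (hKb : IsBinomial K) : IsSpecial K := by
  have : IsAddTorsionFree K := BinomialRing.toIsAddTorsionFree
  let L := ℚ ⊗[ℤ] K
  letI : BinomialRing L := binomialOfRat L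
  letI : LambdaOps L := binomialLambdaOps L
  have hL : IsBinomial L := fun n x => rfl
  have hLs : IsSpecial L := isSpecial_of_rat_binomial L hL
  let ι' : K →ₐ[ℤ] L := Algebra.TensorProduct.includeRight
  have hι' : Function.Injective ι' :=
    Algebra.TensorProduct.includeRight_injective (Int.cast_injective (α := ℚ))
  let ι : K →+* L := ι'.toRingHom
  have hι : Function.Injective ι := hι'
  have hlam : ∀ n (x : K), ι (LambdaOps.lam n x) = LambdaOps.lam n (ι x) := by
    intro n x
    rw [hKb n x]
    exact Ring.map_choose ι x n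
  refine ⟨fun n hn => ?_, fun n P hP x y => ?_, fun i j Q hQ x => ?_⟩
  · apply hι
    rw [hlam, map_one, map_zero]
    exact hLs.lam_one_eq_zero n hn
  · apply hι
    rw [hlam, map_mul, hLs.lam_mul n P hP, map_aeval_int]
    have hfun : (Sum.elim (fun k : Fin n => LambdaOps.lam ((k : ℕ) + 1) (ι x))
        fun k : Fin n => LambdaOps.lam ((k : ℕ) + 1) (ι y)) =
        fun i => ι (Sum.elim (fun k : Fin n => LambdaOps.lam ((k : ℕ) + 1) x)
          (fun k : Fin n => LambdaOps.lam ((k : ℕ) + 1) y) i) := by
      funext k
      rcases k with k | k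
      · simp [hlam]
      · simp [hlam]
    rw [hfun]
  · apply hι
    rw [hlam, hlam, hLs.lam_lam i j Q hQ, map_aeval_int]
    have hfun : (fun k : Fin (i * j) => LambdaOps.lam ((k : ℕ) + 1) (ι x)) =
        fun k : Fin (i * j) => ι (LambdaOps.lam ((k : ℕ) + 1) x) := by
      funext k
      rw [hlam]
    rw [hfun]

end Groth.Agent.H9.Lambda
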