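import Mathlib
import Groth.Prelude.Def_LambdaSp
import Groth.Agent.Lib.Helper9.Lambda.Exist
import Groth.Agent.Lib.Helper9.Lambda.Exist2
import Groth.Agent.Lib.Helper9.Lambda.Binomial

/-!
# Natural operations on special `K`-λ-algebras are closed under the `λ^n` (helper9)
-/

set_option autoImplicit false

namespace Groth.Agent.H9.Lambda

open Finset MvPolynomial LambdaRing

universe u v v' w

variable {K : Type u} [CommRing K] [LambdaOps K] [BinomialRing K] {ι : Type w}

/-- polynomial operations in the `λ^{k+1}(y_i)` -/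
abbrev Ops (ι : Type w) (K : Type u) [CommRing K] := MvPolynomial (ι × ℕ) K

/-- evaluation of an operation -/
noncomputable def op {A : Type v} [CommRing A] [LambdaOps A] [Algebra K A] (y : ι → A) :
    Ops ι K →ₐ[K] A :=
  aeval (fun p : ι × ℕ => LambdaOps.lam (p.2 + 1) (y p.1))

omit [LambdaOps K] [BinomialRing K] in
theorem op_X {A : Type v} [CommRing A] [LambdaOps A] [Algebra K A] (y : ι → A) (i : ι) (k : ℕ) :
    op (K := K) y (X (i, k)) = LambdaOps.lam (k + 1) (y i) := by
  simp [op]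

/-- operations involving only `λ^{k+1}`, `k < M` -/
noncomputable def opsLE (ι : Type w) (K : Type u) [CommRing K] (M : ℕ) : Subalgebra K (Ops ι K) :=
  Algebra.adjoin K {p | ∃ (i : ι) (k : ℕ), k < M ∧ p = X (i, k)}

omit [LambdaOps K] [BinomialRing K] in
theorem opsLE_mono {M M' : ℕ} (h : M ≤ M') : opsLE ι K M ≤ opsLE ι K M' := by
  apply Algebra.adjoin_mono
  rintro p ⟨i, k, hk, rfl⟩
  exact ⟨i, k, lt_of_lt_of_le hk h, rfl⟩

omit [LambdaOps K] [BinomialRing K] in
theorem X_mem_opsLE {M : ℕ} (i : ι) (k : ℕ) (hk : k < M) : (X (i, k) : Ops ι K) ∈ opsLE ι K M :=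
  Algebra.subset_adjoin ⟨i, k, hk, rfl⟩

omit [LambdaOps K] [BinomialRing K] in
theorem exists_opsLE (R : Ops ι K) : ∃ M, R ∈ opsLE ι K M := by
  induction R using MvPolynomial.induction_on with
  | C a => exact ⟨0, Subalgebra.algebraMap_mem _ a⟩
  | add p q hp hq =>
    obtain ⟨M1, h1⟩ := hp
    obtain ⟨M2, h2⟩ := hq
    exact ⟨max M1 M2, Subalgebra.add_mem _ (opsLE_mono (le_max_left _ _) h1)
      (opsLE_mono (le_max_right _ _) h2)⟩
  | mul_X p v hp =>
    obtain ⟨M1, h1⟩ := hp
    exact ⟨max M1 (v.2 + 1), Subalgebra.mul_mem _ (opsLE_mono (le_max_left _ _) h1)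
      (opsLE_mono (le_max_right _ _) (X_mem_opsLE v.1 v.2 (Nat.lt_succ_self _)))⟩

omit [LambdaOps K] [BinomialRing K] in
/-- `aeval` of an integer polynomial at elements of a subalgebra stays in the subalgebra -/
theorem aeval_int_mem {B : Type*} [CommRing B] [Algebra K B] (S : Subalgebra K B) {τ : Type*}
    (g : τ → B) (hg : ∀ t, g t ∈ S) (P : MvPolynomial τ ℤ) : aeval g P ∈ S := by
  induction P using MvPolynomial.induction_on with
  | C a =>
    rw [aeval_C]
    simp only [algebraMap_int_eq, eq_intCast]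
    exact intCast_mem S a
  | add p q hp hq => rw [map_add]; exact S.add_mem hp hq
  | mul_X p t hp => rw [map_mul, aeval_X]; exact S.mul_mem hp (hg t)

omit [LambdaOps K] [BinomialRing K] in
theorem op_aeval_int {A : Type v} [CommRing A] [LambdaOps A] [Algebra K A] (y : ι → A) {τ : Type*}
    (g : τ → Ops ι K) (P : MvPolynomial τ ℤ) :
    op y (aeval g P) = aeval (fun t => op y (g t)) P :=
  map_aeval_int (op y).toRingHom g P

/-- `Rn` realizes `λ^n ∘ R` on all special `K`-λ-algebras in the universe `v` -/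
def Realizes (n : ℕ) (R Rn : Ops ι K) : Prop :=
  ∀ (A : Type v) [CommRing A] [LambdaOps A] [Algebra K A], IsSpecial A → IsLambdaAlg K A →
    ∀ y : ι → A, LambdaOps.lam n (op y R) = op y Rn

theorem closure_aux (hKb : IsBinomial K) (M : ℕ) (R : Ops ι K) (hR : R ∈ opsLE ι K M) :
    ∀ n : ℕ, ∃ Rn : Ops ι K, Rn ∈ opsLE ι K (n * M) ∧
      Realizes.{u, v, w} n R Rn ∧ Realizes.{u, v', w} n R Rn := by
  induction hR using Algebra.adjoin_induction with
  | mem p hp =>
    obtain ⟨i, k, hk, rfl⟩ := hp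
    intro n
    obtain ⟨Q, hQ⟩ := exists_compPoly ((k + 1) * n) (k + 1) n
    have hQ' : IsCompPoly (k + 1) n Q := hQ
    refine ⟨aeval (fun v : Fin ((k + 1) * n) => (X (i, (v : ℕ)) : Ops ι K)) Q, ?_, ?_, ?_⟩
    · have hv : ∀ v : Fin ((k + 1) * n), (v : ℕ) < n * M := fun v =>
        calc (v : ℕ) < (k + 1) * n := v.2
          _ ≤ M * n := Nat.mul_le_mul_right n hk
          _ = n * M := mul_comm _ _
      exact aeval_int_mem _ _ (fun v : Fin ((k + 1) * n) => X_mem_opsLE i (v : ℕ) (hv v)) Q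
    · intro A _ _ _ hA hAK y
      rw [op_X, hA.lam_lam (k + 1) n Q hQ' (y i), op_aeval_int]
      refine congrArg (fun g => aeval g Q) (funext fun v => ?_)
      exact (op_X y i v).symm
    · intro A _ _ _ hA hAK y
      rw [op_X, hA.lam_lam (k + 1) n Q hQ' (y i), op_aeval_int]
      refine congrArg (fun g => aeval g Q) (funext fun v => ?_)
      exact (op_X y i v).symm
  | algebraMap c =>
    intro n
    refine ⟨algebraMap K _ (Ring.choose c n), Subalgebra.algebraMap_mem _ _, ?_, ?_⟩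
    · intro A _ _ _ hA hAK y
      rw [AlgHom.commutes, AlgHom.commutes, ← hAK n c, hKb n c]
    · intro A _ _ _ hA hAK y
      rw [AlgHom.commutes, AlgHom.commutes, ← hAK n c, hKb n c]
  | add p q hp hq ihp ihq =>
    intro n
    choose Pn hPn1 hPn2 hPn3 using ihp
    choose Qn hQn1 hQn2 hQn3 using ihq
    refine ⟨∑ i ∈ range (n + 1), Pn i * Qn (n - i), ?_, ?_, ?_⟩
    · refine Subalgebra.sum_mem _ fun i hi => ?_
      rw [Finset.mem_range] at hi
      exact Subalgebra.mul_mem _
        (opsLE_mono (Nat.mul_le_mul_right M (by omega)) (hPn1 i))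
        (opsLE_mono (Nat.mul_le_mul_right M (by omega)) (hQn1 (n - i)))
    · intro A _ _ _ hA hAK y
      rw [map_add, LambdaOps.lam_add, map_sum]
      refine Finset.sum_congr rfl fun i _ => ?_
      rw [map_mul, hPn2 i A hA hAK y, hQn2 (n - i) A hA hAK y]
    · intro A _ _ _ hA hAK y
      rw [map_add, LambdaOps.lam_add, map_sum]
      refine Finset.sum_congr rfl fun i _ => ?_
      rw [map_mul, hPn3 i A hA hAK y, hQn3 (n - i) A hA hAK y]
  | mul p q hp hq ihp ihq =>
    intro n
    choose Pn hPn1 hPn2 hPn3 using ihp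
    choose Qn hQn1 hQn2 hQn3 using ihq
    obtain ⟨P, hP⟩ := exists_isMulPoly n
    refine ⟨aeval (Sum.elim (fun k : Fin n => Pn ((k : ℕ) + 1))
      (fun k : Fin n => Qn ((k : ℕ) + 1))) P, ?_, ?_, ?_⟩
    · refine aeval_int_mem _ _ (fun t => ?_) P
      rcases t with k | k
      · exact opsLE_mono (Nat.mul_le_mul_right M k.2) (hPn1 _)
      · exact opsLE_mono (Nat.mul_le_mul_right M k.2) (hQn1 _)
    · intro A _ _ _ hA hAK y
      rw [map_mul, hA.lam_mul n P hP, op_aeval_int]
      refine congrArg (fun g => aeval g P) (funext fun t => ?_)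
      rcases t with k | k
      · exact (hPn2 _ A hA hAK y)
      · exact (hQn2 _ A hA hAK y)
    · intro A _ _ _ hA hAK y
      rw [map_mul, hA.lam_mul n P hP, op_aeval_int]
      refine congrArg (fun g => aeval g P) (funext fun t => ?_)
      rcases t with k | k
      · exact (hPn3 _ A hA hAK y)
      · exact (hQn3 _ A hA hAK y)

/-! ### the `γ`-form -/

/-- evaluation of an operation at the `γ^{k+1}(x_i)` -/
noncomputable def opg {A : Type v} [CommRing A] [LambdaOps A] [Algebra K A] (x : ι → A) :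
    Ops ι K →ₐ[K] A :=
  aeval (fun p : ι × ℕ => gamma (p.2 + 1) (x p.1))

omit [LambdaOps K] [BinomialRing K] in
theorem opg_X {A : Type v} [CommRing A] [LambdaOps A] [Algebra K A] (x : ι → A) (i : ι) (k : ℕ) :
    opg (K := K) x (X (i, k)) = gamma (k + 1) (x i) := by
  simp [opg]

/-- `γ^{k+1}` in terms of the `λ`'s -/
noncomputable def thetaGen (p : ι × ℕ) : Ops ι K :=
  ∑ j ∈ range (p.2 + 2), ((Nat.choose p.2 (j - 1) : ℕ) : Ops ι K) *
    (if j = 0 then 0 else X (p.1, j - 1))

/-- the substitution expressing the `γ`'s through the `λ`'s -/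
noncomputable def Theta : Ops ι K →ₐ[K] Ops ι K := aeval thetaGen

omit [LambdaOps K] [BinomialRing K] in
theorem opg_eq {A : Type v} [CommRing A] [LambdaOps A] [Algebra K A] (x : ι → A) (R : Ops ι K) :
    opg x R = op x (Theta R) := by
  have : (opg x : Ops ι K →ₐ[K] A) = (op x).comp Theta := by
    apply MvPolynomial.algHom_ext
    intro p
    rw [AlgHom.comp_apply]
    simp only [opg, Theta, aeval_X, thetaGen, map_sum, map_mul, map_natCast]
    rw [gamma, if_neg (Nat.succ_ne_zero _)]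
    refine Finset.sum_congr rfl fun j _ => ?_
    by_cases hj : j = 0
    · simp [hj]
    · rw [if_neg hj, if_neg hj, op_X]
      congr 3
      omega
  rw [this]
  rfl

omit [LambdaOps K] [BinomialRing K] in
theorem thetaGen_mem (i : ι) (k : ℕ) : (thetaGen (i, k) : Ops ι K) ∈ opsLE ι K (k + 1) := by
  unfold thetaGen
  refine Subalgebra.sum_mem _ fun j hj => ?_
  rw [Finset.mem_range] at hj
  refine Subalgebra.mul_mem _ (natCast_mem _ _) ?_
  by_cases h0 : j = 0
  · rw [if_pos h0]; exact Subalgebra.zero_mem _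
  · rw [if_neg h0]
    exact X_mem_opsLE i (j - 1) (by simp only at hj; omega)

omit [LambdaOps K] [BinomialRing K] in
theorem Theta_mem {M : ℕ} (R : Ops ι K) (hR : R ∈ opsLE ι K M) : Theta R ∈ opsLE ι K M := by
  induction hR using Algebra.adjoin_induction with
  | mem p hp =>
    obtain ⟨i, k, hk, rfl⟩ := hp
    simp only [Theta, aeval_X]
    exact opsLE_mono (by omega) (thetaGen_mem i k)
  | algebraMap c => rw [AlgHom.commutes]; exact Subalgebra.algebraMap_mem _ c
  | add p q _ _ hp hq => rw [map_add]; exact Subalgebra.add_mem _ hp hq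
  | mul p q _ _ hp hq => rw [map_mul]; exact Subalgebra.mul_mem _ hp hq

omit [LambdaOps K] [BinomialRing K] in
theorem exists_Theta_X (i : ι) (k : ℕ) :
    ∃ R' : Ops ι K, R' ∈ opsLE ι K (k + 1) ∧ Theta R' = X (i, k) := by
  induction k using Nat.strong_induction_on with
  | _ k ih =>
    have hch : ∀ j ∈ range (k + 1), ∃ R' : Ops ι K, R' ∈ opsLE ι K (k + 1) ∧
        Theta R' = (if j = 0 then 0 else X (i, j - 1)) := by
      intro j hj
      rw [Finset.mem_range] at hj
      by_cases h0 : j = 0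
      · exact ⟨0, Subalgebra.zero_mem _, by rw [if_pos h0, map_zero]⟩
      · obtain ⟨R', h1, h2⟩ := ih (j - 1) (by omega)
        refine ⟨R', opsLE_mono (by omega) h1, ?_⟩
        rw [if_neg h0, h2]
    choose! Rf hRf1 hRf2 using hch
    refine ⟨X (i, k) - ∑ j ∈ range (k + 1), ((Nat.choose k (j - 1) : ℕ) : Ops ι K) * Rf j, ?_, ?_⟩
    · refine Subalgebra.sub_mem _ (X_mem_opsLE i k (Nat.lt_succ_self k)) ?_
      refine Subalgebra.sum_mem _ fun j hj => ?_
      exact Subalgebra.mul_mem _ (natCast_mem _ _) (hRf1 j hj)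
    · rw [map_sub, map_sum]
      have h1 : Theta (X (i, k) : Ops ι K) = thetaGen (i, k) := by simp [Theta]
      rw [h1, thetaGen, Finset.sum_range_succ]
      have h2 : ∀ j ∈ range (k + 1), Theta (((Nat.choose k (j - 1) : ℕ) : Ops ι K) * Rf j) =
          ((Nat.choose k (j - 1) : ℕ) : Ops ι K) * (if j = 0 then 0 else X (i, j - 1)) := by
        intro j hj
        rw [map_mul, map_natCast, hRf2 j hj]
      rw [Finset.sum_congr rfl h2]
      simp only [add_sub_cancel_left]
      rw [if_neg (Nat.succ_ne_zero _)]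
      simp

omit [LambdaOps K] [BinomialRing K] in
theorem exists_Theta {M : ℕ} (R : Ops ι K) (hR : R ∈ opsLE ι K M) :
    ∃ R' : Ops ι K, R' ∈ opsLE ι K M ∧ Theta R' = R := by
  induction hR using Algebra.adjoin_induction with
  | mem p hp =>
    obtain ⟨i, k, hk, rfl⟩ := hp
    obtain ⟨R', h1, h2⟩ := exists_Theta_X (K := K) i k
    exact ⟨R', opsLE_mono (by omega) h1, h2⟩
  | algebraMap c =>
    exact ⟨algebraMap K _ c, Subalgebra.algebraMap_mem _ c, by rw [AlgHom.commutes]⟩
  | add p q _ _ hp hq =>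
    obtain ⟨p', hp1, hp2⟩ := hp
    obtain ⟨q', hq1, hq2⟩ := hq
    exact ⟨p' + q', Subalgebra.add_mem _ hp1 hq1, by rw [map_add, hp2, hq2]⟩
  | mul p q _ _ hp hq =>
    obtain ⟨p', hp1, hp2⟩ := hp
    obtain ⟨q', hq1, hq2⟩ := hq
    exact ⟨p' * q', Subalgebra.mul_mem _ hp1 hq1, by rw [map_mul, hp2, hq2]⟩

/-- `R'` realizes `γ^n ∘ R` (in `γ`-coordinates) on all special `K`-λ-algebras in the universe `v` -/
def RealizesG (n : ℕ) (R R' : Ops ι K) : Prop :=
  ∀ (A : Type v) [CommRing A] [LambdaOps A] [Algebra K A], IsSpecial A → IsLambdaAlg K A →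
    ∀ x : ι → A, gamma n (opg x R) = opg x R'

theorem closureG (hKb : IsBinomial K) (M : ℕ) (R : Ops ι K) (hR : R ∈ opsLE ι K M) (n : ℕ) :
    ∃ R' : Ops ι K, R' ∈ opsLE ι K (n * M) ∧
      RealizesG.{u, v, w} n R R' ∧ RealizesG.{u, v', w} n R R' := by
  rcases Nat.eq_zero_or_pos n with rfl | hn
  · refine ⟨1, Subalgebra.one_mem _, ?_, ?_⟩
    · intro A _ _ _ _ _ x
      rw [gamma, if_pos rfl, map_one]
    · intro A _ _ _ _ _ x
      rw [gamma, if_pos rfl, map_one]
  have hΘ := Theta_mem R hR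
  choose Rn hRn1 hRn2 hRn3 using closure_aux.{u, v, v', w} hKb M (Theta R) hΘ
  set T : Ops ι K := ∑ j ∈ range (n + 1), ((Nat.choose (n - 1) (j - 1) : ℕ) : Ops ι K) *
    (if j = 0 then 0 else Rn j) with hT
  have hTmem : T ∈ opsLE ι K (n * M) := by
    refine Subalgebra.sum_mem _ fun j hj => ?_
    rw [Finset.mem_range] at hj
    refine Subalgebra.mul_mem _ (natCast_mem _ _) ?_
    by_cases h0 : j = 0
    · rw [if_pos h0]; exact Subalgebra.zero_mem _
    · rw [if_neg h0]
      exact opsLE_mono (Nat.mul_le_mul_right M (by omega)) (hRn1 j)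
  obtain ⟨R', hR'1, hR'2⟩ := exists_Theta T hTmem
  refine ⟨R', hR'1, ?_, ?_⟩
  · intro A _ _ _ hA hAK x
    rw [opg_eq, opg_eq, hR'2, hT, map_sum, gamma, if_neg (by omega)]
    refine Finset.sum_congr rfl fun j _ => ?_
    rw [map_mul, map_natCast]
    by_cases h0 : j = 0
    · simp [h0]
    · rw [if_neg h0, if_neg h0, hRn2 j A hA hAK x]
  · intro A _ _ _ hA hAK x
    rw [opg_eq, opg_eq, hR'2, hT, map_sum, gamma, if_neg (by omega)]
    refine Finset.sum_congr rfl fun j _ => ?_
    rw [map_mul, map_natCast]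
    by_cases h0 : j = 0
    · simp [h0]
    · rw [if_neg h0, if_neg h0, hRn3 j A hA hAK x]

end Groth.Agent.H9.Lambda
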