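import Mathlib
import Groth.Agent.Lib.Helper9.Lambda.Sigma
import Groth.Agent.Lib.Helper9.Lambda.Weight
import Groth.Agent.Lib.Helper9.Lambda.Exist

/-!
# Elementary symmetric polynomials in several groups of variables are algebraically independent
(helper9)
-/

set_option autoImplicit false

namespace Groth.Agent.H9.Lambda

open Finset MvPolynomial

universe u w

variable {ι : Type w} (M : ι → ℕ) (K : Type u) [CommRing K]

/-- the variables: group `i` has `M i` variables -/
abbrev Var (M : ι → ℕ) := Σ i, Fin (M i)

/-- the `s`-th variable of the group `i` -/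
def mkV (i : ι) (s : Fin (M i)) : Var M := ⟨i, s⟩

/-- `e_{k+1}` of the group of `v` -/
noncomputable def egrp (v : Var M) : MvPolynomial (Var M) K :=
  rename (mkV M v.1) (esymm (Fin (M v.1)) K ((v.2 : ℕ) + 1))

/-- the elementary substitution in all groups -/
noncomputable def sigM : MvPolynomial (Var M) K →ₐ[K] MvPolynomial (Var M) K :=
  aeval (egrp M K)

variable [DecidableEq ι]

/-- the elementary substitution in the groups of `T` -/
noncomputable def sigT (T : Finset ι) : MvPolynomial (Var M) K →ₐ[K] MvPolynomial (Var M) K :=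
  aeval (fun v => if v.1 ∈ T then egrp M K v else X v)

/-- the elementary substitution in the group `j` -/
noncomputable def sig1 (j : ι) : MvPolynomial (Var M) K →ₐ[K] MvPolynomial (Var M) K :=
  aeval (fun v => if v.1 = j then egrp M K v else X v)

/-- splitting off the group `j` -/
def splitEquiv (j : ι) : Var M ≃ Fin (M j) ⊕ {v : Var M // v.1 ≠ j} where
  toFun v := if h : v.1 = j then Sum.inl (h ▸ v.2) else Sum.inr ⟨v, h⟩
  invFun s := Sum.elim (fun s => ⟨j, s⟩) (fun w => w.1) s
  left_inv := by
    rintro ⟨i, s⟩
    by_cases h : i = j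
    · subst h
      simp
    · simp [h]
  right_inv := by
    rintro (s | ⟨v, hv⟩)
    · simp
    · simp [hv]

theorem splitEquiv_mk (j : ι) (s : Fin (M j)) : splitEquiv M j ⟨j, s⟩ = Sum.inl s := by
  simp [splitEquiv]

theorem splitEquiv_of_ne (j : ι) (v : Var M) (h : v.1 ≠ j) :
    splitEquiv M j v = Sum.inr ⟨v, h⟩ := by
  simp [splitEquiv, h]

theorem sumRingEquiv_rename_inl_esymm' (S₁ S₂ : Type*) [Fintype S₁] (m : ℕ) :
    sumRingEquiv K S₁ S₂ (rename Sum.inl (esymm S₁ K m)) =
      esymm S₁ (MvPolynomial S₂ K) m := by
  simp [esymm, map_sum, map_prod, sumRingEquiv_X_inl]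

/-- the ring isomorphism singling out the group `j` -/
noncomputable def splitHom (j : ι) :
    MvPolynomial (Var M) K →+* MvPolynomial (Fin (M j)) (MvPolynomial {v : Var M // v.1 ≠ j} K) :=
  (sumRingEquiv K (Fin (M j)) {v : Var M // v.1 ≠ j}).toRingHom.comp
    (rename (splitEquiv M j) : MvPolynomial (Var M) K →ₐ[K] _).toRingHom

theorem splitHom_injective (j : ι) : Function.Injective (splitHom M K j) := by
  intro p q h
  have h1 := (sumRingEquiv K (Fin (M j)) {v : Var M // v.1 ≠ j}).injective h
  exact rename_injective _ (splitEquiv M j).injective h1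

theorem splitHom_sig1 (j : ι) (p : MvPolynomial (Var M) K) :
    splitHom M K j (sig1 M K j p) =
      sig (M j) (MvPolynomial {v : Var M // v.1 ≠ j} K) (splitHom M K j p) := by
  have h : (splitHom M K j).comp (sig1 M K j).toRingHom =
      (sig (M j) (MvPolynomial {v : Var M // v.1 ≠ j} K)).toRingHom.comp (splitHom M K j) := by
    apply MvPolynomial.ringHom_ext
    · intro r
      simp [splitHom, sig1, sig, sumRingEquiv_C]
    · rintro ⟨i, s⟩
      by_cases h : i = j
      · subst h
        simp only [RingHom.comp_apply, AlgHom.toRingHom_eq_coe, RingHom.coe_coe, sig1, aeval_X,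
          if_true, splitHom, rename_X, splitEquiv_mk, RingEquiv.toRingHom_eq_coe,
          sumRingEquiv_X_inl, sig_X, egrp, rename_rename]
        have : (splitEquiv M i ∘ mkV M i) = Sum.inl := by
          funext s
          exact splitEquiv_mk M i s
        rw [this, sumRingEquiv_rename_inl_esymm']
      · simp only [RingHom.comp_apply, AlgHom.toRingHom_eq_coe, RingHom.coe_coe, sig1, aeval_X,
          if_neg h, splitHom, rename_X, splitEquiv_of_ne M j ⟨i, s⟩ h, RingEquiv.toRingHom_eq_coe,
          sumRingEquiv_X_inr]
        simp [sig]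
  exact congrArg (fun f => f p) h

theorem sig1_injective (j : ι) : Function.Injective (sig1 M K j) := by
  intro p q h
  have h1 := congrArg (splitHom M K j) h
  rw [splitHom_sig1, splitHom_sig1] at h1
  exact splitHom_injective M K j (sig_injective _ _ h1)

theorem sig1_rename_of_ne (j i : ι) (h : i ≠ j) (p : MvPolynomial (Fin (M i)) K) :
    sig1 M K j (rename (mkV M i) p) = rename (mkV M i) p := by
  rw [sig1, aeval_rename]
  have : ((fun v : Var M => if v.1 = j then egrp M K v else X v) ∘ mkV M i) =
      fun s : Fin (M i) => (X (⟨i, s⟩ : Var M) : MvPolynomial (Var M) K) := by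
    funext s
    simp [h, mkV]
  rw [this]
  have h2 : (aeval fun s : Fin (M i) => (X (⟨i, s⟩ : Var M) : MvPolynomial (Var M) K)) =
      (rename (mkV M i) : MvPolynomial (Fin (M i)) K →ₐ[K] MvPolynomial (Var M) K) := by
    apply MvPolynomial.algHom_ext
    intro s
    simp [mkV]
  rw [h2]

theorem sigT_insert (T : Finset ι) (j : ι) (hj : j ∉ T) :
    sigT M K (insert j T) = (sig1 M K j).comp (sigT M K T) := by
  apply MvPolynomial.algHom_ext
  rintro ⟨i, s⟩
  rw [AlgHom.comp_apply]
  simp only [sigT, aeval_X]
  by_cases hi : i ∈ T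
  · have hne : i ≠ j := fun h => hj (h ▸ hi)
    rw [if_pos (Finset.mem_insert_of_mem hi), if_pos hi, egrp]
    exact (sig1_rename_of_ne M K j i hne _).symm
  · rw [if_neg hi]
    by_cases hij : i = j
    · subst hij
      rw [if_pos (Finset.mem_insert_self _ _)]
      simp [sig1]
    · rw [if_neg (by simp [hij, hi])]
      simp [sig1, hij]

theorem sigT_injective (T : Finset ι) : Function.Injective (sigT M K T) := by
  induction T using Finset.induction_on with
  | empty =>
    have : sigT M K ∅ = AlgHom.id K _ := by
      apply MvPolynomial.algHom_ext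
      intro v
      simp [sigT]
    rw [this]
    exact Function.injective_id
  | insert j T hj ih =>
    rw [sigT_insert M K T j hj]
    exact (sig1_injective M K j).comp ih

omit [DecidableEq ι] in
theorem sigM_injective : Function.Injective (sigM M K) := by
  classical
  intro p q h
  let T : Finset ι := (p.vars ∪ q.vars).image Sigma.fst
  have hp : sigM M K p = sigT M K T p := by
    unfold sigM sigT
    refine MvPolynomial.eval₂Hom_congr' rfl (fun v hv _ => ?_) rfl
    have : v.1 ∈ T := Finset.mem_image_of_mem _ (Finset.mem_union_left _ hv)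
    rw [if_pos this]
  have hq : sigM M K q = sigT M K T q := by
    unfold sigM sigT
    refine MvPolynomial.eval₂Hom_congr' rfl (fun v hv _ => ?_) rfl
    have : v.1 ∈ T := Finset.mem_image_of_mem _ (Finset.mem_union_right _ hv)
    rw [if_pos this]
  rw [hp, hq] at h
  exact sigT_injective M K T h

omit [DecidableEq ι]

/-- the weight of the variable `v` -/
def wtV (v : Var M) : ℕ := (v.2 : ℕ) + 1

theorem egrp_isHomogeneous (v : Var M) :
    IsWeightedHomogeneous (1 : Var M → ℕ) (egrp M K v) (wtV M v) := by
  unfold egrp wtV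
  have h := esymm_isWeightedHomogeneous_one (M v.1) K ((v.2 : ℕ) + 1)
  exact IsHomogeneous.rename_isHomogeneous h

/-- if the elementary substitution of `R` has order `≥ m`, then all monomials of `R` have
weight `≥ m` -/
theorem weight_ge_of_sigM_mem (R : MvPolynomial (Var M) K) (m : ℕ)
    (h : sigM M K R ∈ idealOfVars (Var M) K ^ m) :
    ∀ μ ∈ R.support, m ≤ Finsupp.weight (wtV M) μ := by
  classical
  intro μ hμ
  by_contra hlt
  push Not at hlt
  set n := Finsupp.weight (wtV M) μ with hn
  have h1 : weightedHomogeneousComponent (1 : Var M → ℕ) n (sigM M K R) =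
      sigM M K (weightedHomogeneousComponent (wtV M) n R) :=
    whc_aeval (w := wtV M) (w' := (1 : Var M → ℕ)) (g := egrp M K)
      (fun v => egrp_isHomogeneous M K v) R n
  have h2 : weightedHomogeneousComponent (1 : Var M → ℕ) n (sigM M K R) = 0 := by
    ext ν
    rw [coeff_weightedHomogeneousComponent, coeff_zero]
    split_ifs with hν
    · apply (mem_pow_idealOfVars_iff' m _).1 h
      have hd : ν.degree = n := by
        rw [Finsupp.degree_eq_weight_one (R := ℕ)]
        exact hν
      rw [hd]
      exact hlt
    · rfl
  rw [h2] at h1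
  have h3 : weightedHomogeneousComponent (wtV M) n R = 0 :=
    sigM_injective M K (by rw [← h1, map_zero])
  have h4 := congrArg (coeff μ) h3
  rw [coeff_weightedHomogeneousComponent, if_pos hn.symm, coeff_zero] at h4
  exact (mem_support_iff.1 hμ) h4

end Groth.Agent.H9.Lambda
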