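import Mathlib
import Groth.Prelude.Def_LambdaSp
import Groth.Agent.Lib.Helper9.Lambda.PreLambda

/-!
# The γ-operations of a pre-λ-ring through the substitution `t ↦ t/(1-t)` (helper9)
-/

set_option autoImplicit false

namespace Groth.Agent.H9.Lambda

open Finset LambdaRing PowerSeries

universe u

variable {A : Type u} [CommRing A]

variable (A) in
/-- `t/(1-t)` -/
noncomputable def a0 : PowerSeries A := PowerSeries.X * PowerSeries.mk 1

theorem hasSubst_a0 : PowerSeries.HasSubst (a0 A) :=
  PowerSeries.HasSubst.of_constantCoeff_zero' (by simp [a0])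

theorem a0_pow_succ (d : ℕ) :
    a0 A ^ (d + 1) = PowerSeries.X ^ (d + 1) * (PowerSeries.mk fun n => (Nat.choose (d + n) d : A)) := by
  rw [a0, mul_pow, PowerSeries.mk_one_pow_eq_mk_choose_add]

theorem coeff_a0_pow_succ (d n : ℕ) (hn : 1 ≤ n) :
    PowerSeries.coeff n (a0 A ^ (d + 1)) = (Nat.choose (n - 1) d : A) := by
  rw [a0_pow_succ, PowerSeries.coeff_X_pow_mul']
  split_ifs with h
  · rw [PowerSeries.coeff_mk]
    congr 2
    omega
  · rw [Nat.choose_eq_zero_of_lt (by omega)]
    simp

theorem coeff_a0_pow_of_lt (d n : ℕ) (h : n < d) : PowerSeries.coeff n (a0 A ^ d) = 0 := by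
  rw [a0, mul_pow, PowerSeries.coeff_X_pow_mul', if_neg (by omega)]

variable [LambdaOps A]

/-- `γ_t(x) = λ_{t/(1-t)}(x)` -/
noncomputable def gSer (x : A) : PowerSeries A := (lamSeries x).subst (a0 A)

theorem coeff_gSer (n : ℕ) (x : A) : PowerSeries.coeff n (gSer x) = gamma n x := by
  rw [gSer, PowerSeries.coeff_subst' hasSubst_a0]
  rw [finsum_eq_sum_of_support_subset (s := Finset.range (n + 1))]
  · rcases Nat.eq_zero_or_pos n with rfl | hn
    · simp [gamma, lamSeries, LambdaOps.lam_zero]
    · rw [gamma, if_neg (by omega)]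
      refine Finset.sum_congr rfl fun j hj => ?_
      by_cases h0 : j = 0
      · subst h0
        simp only [pow_zero, PowerSeries.coeff_one, if_neg (by omega : n ≠ 0), smul_zero, if_true,
          mul_zero]
      · obtain ⟨d, rfl⟩ : ∃ d, j = d + 1 := ⟨j - 1, by omega⟩
        rw [coeff_a0_pow_succ d n hn, if_neg h0, lamSeries, PowerSeries.coeff_mk, smul_eq_mul,
          mul_comm]
        simp
  · intro d hd
    rw [Function.mem_support] at hd
    by_contra hlt
    simp only [Finset.coe_range, Set.mem_Iio, not_lt] at hlt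
    exact hd (by rw [coeff_a0_pow_of_lt d n (by omega), smul_zero])

theorem gSer_add (x y : A) : gSer (x + y) = gSer x * gSer y := by
  rw [gSer, lamSeries_add, PowerSeries.subst_mul hasSubst_a0]
  rfl

theorem gamma_add (n : ℕ) (x y : A) :
    gamma n (x + y) = ∑ i ∈ range (n + 1), gamma i x * gamma (n - i) y := by
  rw [← coeff_gSer, gSer_add, PowerSeries.coeff_mul,
    Finset.Nat.sum_antidiagonal_eq_sum_range_succ
      (fun i j => PowerSeries.coeff i (gSer x) * PowerSeries.coeff j (gSer y))]
  simp only [coeff_gSer]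

theorem gamma_zero_left (x : A) : gamma 0 x = 1 := by
  rw [gamma, if_pos rfl]

theorem gamma_one_left (x : A) : gamma 1 x = x := by
  rw [gamma, if_neg one_ne_zero]
  simp [Finset.sum_range_succ, LambdaOps.lam_one]

theorem lamSeries_zero : lamSeries (0 : A) = 1 := by
  have h := lamSeries_add (0 : A) 0
  rw [add_zero] at h
  have h1 := lamSeries_mul_inv (0 : A)
  calc lamSeries (0 : A) = lamSeries 0 * (lamSeries 0 * (lamSeries (0 : A)).invOfUnit 1) := by
        rw [h1, mul_one]
    _ = (lamSeries 0 * lamSeries 0) * (lamSeries (0 : A)).invOfUnit 1 := by ring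
    _ = 1 := by rw [← h, h1]

theorem lam_zero_right (n : ℕ) (hn : 1 ≤ n) : LambdaOps.lam n (0 : A) = 0 := by
  have := congrArg (PowerSeries.coeff n) (lamSeries_zero (A := A))
  rw [lamSeries, PowerSeries.coeff_mk, PowerSeries.coeff_one, if_neg (by omega)] at this
  exact this

theorem gamma_zero_right (n : ℕ) (hn : 1 ≤ n) : gamma n (0 : A) = 0 := by
  rw [gamma, if_neg (by omega)]
  apply Finset.sum_eq_zero
  intro j _
  by_cases h0 : j = 0
  · simp [h0]
  · rw [if_neg h0, lam_zero_right j (by omega), mul_zero]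

theorem map_gamma {A' : Type*} [CommRing A'] [LambdaOps A'] (f : A →+* A')
    (hf : ∀ n x, f (LambdaOps.lam n x) = LambdaOps.lam n (f x)) (n : ℕ) (x : A) :
    f (gamma n x) = gamma n (f x) := by
  unfold gamma
  split_ifs with h
  · simp
  · rw [map_sum]
    refine Finset.sum_congr rfl fun j _ => ?_
    rw [map_mul, map_natCast]
    split_ifs
    · simp
    · rw [hf]

end Groth.Agent.H9.Lambda
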