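import Mathlib
import Groth.Agent.Lib.Helper9.Lambda.Newton

/-!
# Newton relations through power series (helper9)
-/

set_option autoImplicit false

namespace Groth.Agent.H9.Lambda

open Finset PowerSeries

variable {A : Type*} [CommRing A]

/-- the "logarithmic derivative" series attached to a power-sum sequence -/
noncomputable def sSeries (s : ℕ → A) : PowerSeries A := PowerSeries.mk fun i => (-1) ^ i * s (i + 1)

theorem sSeries_add (s s' : ℕ → A) : sSeries (fun k => s k + s' k) = sSeries s + sSeries s' := by
  ext n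
  simp [sSeries, mul_add]

theorem sSeries_zero : sSeries (fun _ => (0 : A)) = 0 := by
  ext n
  simp [sSeries]

theorem sSeries_sum {ι : Type*} (T : Finset ι) (s : ι → ℕ → A) :
    sSeries (fun k => ∑ i ∈ T, s i k) = ∑ i ∈ T, sSeries (s i) := by
  ext n
  simp [sSeries, Finset.mul_sum]

/-- series form of the Newton relation -/
def IsNewtonSeries (L : PowerSeries A) (s : ℕ → A) : Prop :=
  constantCoeff L = 1 ∧ PowerSeries.derivative A L = sSeries s * L

theorem isNewton_iff_series (l s : ℕ → A) :
    IsNewton l s ↔ IsNewtonSeries (PowerSeries.mk l) s := by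
  unfold IsNewton IsNewtonSeries
  rw [← PowerSeries.coeff_zero_eq_constantCoeff_apply, PowerSeries.coeff_mk]
  refine and_congr Iff.rfl ?_
  constructor
  · intro h
    ext n
    rw [PowerSeries.coeff_derivative, PowerSeries.coeff_mk, PowerSeries.coeff_mul,
      Finset.Nat.sum_antidiagonal_eq_sum_range_succ
        (fun i j => PowerSeries.coeff i (sSeries s) * PowerSeries.coeff j (PowerSeries.mk l))]
    simp only [sSeries, PowerSeries.coeff_mk]
    have := h n
    push_cast at this
    rw [mul_comm, this]
  · intro h n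
    have h2 := congrArg (PowerSeries.coeff n) h
    rw [PowerSeries.coeff_derivative, PowerSeries.coeff_mk, PowerSeries.coeff_mul,
      Finset.Nat.sum_antidiagonal_eq_sum_range_succ
        (fun i j => PowerSeries.coeff i (sSeries s) * PowerSeries.coeff j (PowerSeries.mk l))] at h2
    simp only [sSeries, PowerSeries.coeff_mk] at h2
    push_cast
    rw [mul_comm, h2]

theorem IsNewtonSeries.isNewton {L : PowerSeries A} {s : ℕ → A} (h : IsNewtonSeries L s) :
    IsNewton (fun n => PowerSeries.coeff n L) s := by
  rw [isNewton_iff_series]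
  have : PowerSeries.mk (fun n => PowerSeries.coeff n L) = L := by
    ext n
    simp
  rw [this]
  exact h

theorem IsNewtonSeries.one : IsNewtonSeries (1 : PowerSeries A) (fun _ => 0) := by
  refine ⟨by simp, ?_⟩
  rw [sSeries_zero]
  simp

theorem IsNewtonSeries.mul {L L' : PowerSeries A} {s s' : ℕ → A} (h : IsNewtonSeries L s)
    (h' : IsNewtonSeries L' s') : IsNewtonSeries (L * L') (fun k => s k + s' k) := by
  refine ⟨by rw [map_mul, h.1, h'.1, mul_one], ?_⟩
  rw [sSeries_add, Derivation.leibniz, h.2, h'.2]
  simp only [smul_eq_mul]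
  ring

theorem IsNewtonSeries.prod {ι : Type*} (T : Finset ι) (L : ι → PowerSeries A) (s : ι → ℕ → A)
    (h : ∀ i ∈ T, IsNewtonSeries (L i) (s i)) :
    IsNewtonSeries (∏ i ∈ T, L i) (fun k => ∑ i ∈ T, s i k) := by
  classical
  induction T using Finset.induction_on with
  | empty =>
    simp only [Finset.prod_empty, Finset.sum_empty]
    exact IsNewtonSeries.one
  | insert a T ha ih =>
    simp only [Finset.prod_insert ha, Finset.sum_insert ha]
    exact (h a (Finset.mem_insert_self a T)).mul
      (ih fun i hi => h i (Finset.mem_insert_of_mem hi))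

/-- scaling a Newton pair -/
theorem IsNewton.scale {l s : ℕ → A} (h : IsNewton l s) (w : A) :
    IsNewton (fun n => l n * w ^ n) (fun k => s k * w ^ k) := by
  refine ⟨by simp [h.1], fun n => ?_⟩
  have := h.2 n
  rw [← mul_assoc, this, Finset.sum_mul]
  refine Finset.sum_congr rfl fun i hi => ?_
  rw [Finset.mem_range] at hi
  have : w ^ (n + 1) = w ^ (i + 1) * w ^ (n - i) := by
    rw [← pow_add]
    congr 1
    omega
  rw [this]
  ring

/-- `l` is determined by `s` when the positive integers are non-zero-divisors -/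
theorem IsNewton.l_unique' (htf : ∀ (n : ℕ) (a b : A), ((n + 1 : ℕ) : A) * a = ((n + 1 : ℕ) : A) * b → a = b)
    {l l' s s' : ℕ → A} (h : IsNewton l s) (h' : IsNewton l' s')
    (N : ℕ) (hs : ∀ k, 1 ≤ k → k ≤ N → s k = s' k) : ∀ m ≤ N, l m = l' m := by
  intro m
  induction m using Nat.strong_induction_on with
  | _ m ih =>
    intro hmN
    rcases Nat.eq_zero_or_pos m with rfl | hpos
    · rw [h.1, h'.1]
    obtain ⟨n, rfl⟩ : ∃ n, m = n + 1 := ⟨m - 1, by omega⟩
    have e1 := h.2 n
    have e2 := h'.2 n
    have hsum : ∑ i ∈ range (n + 1), (-1) ^ i * s (i + 1) * l (n - i) =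
        ∑ i ∈ range (n + 1), (-1) ^ i * s' (i + 1) * l' (n - i) := by
      refine Finset.sum_congr rfl fun i hi => ?_
      rw [Finset.mem_range] at hi
      rw [hs (i + 1) (by omega) (by omega), ih (n - i) (by omega) (by omega)]
    rw [hsum, ← e2] at e1
    exact htf n _ _ e1

/-- the Newton pair of a "line element" -/
theorem isNewton_line (w : A) :
    IsNewton (fun n => if n = 0 then (1 : A) else if n = 1 then w else 0) (fun k => w ^ k) := by
  refine ⟨by simp, fun n => ?_⟩
  rcases n with _ | _ | n
  · simp
  · simp [Finset.sum_range_succ]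
    ring
  · have h3 : ∀ i ∈ range (n + 1), (-1 : A) ^ i * w ^ (i + 1) *
        (if n + 1 + 1 - i = 0 then (1 : A) else if n + 1 + 1 - i = 1 then w else 0) = 0 := by
      intro i hi
      rw [Finset.mem_range] at hi
      rw [if_neg (by omega), if_neg (by omega), mul_zero]
    rw [Finset.sum_range_succ, Finset.sum_range_succ, Finset.sum_eq_zero h3]
    have e1 : n + 1 + 1 - (n + 1) = 1 := by omega
    have e2 : n + 1 + 1 - (n + 1 + 1) = 0 := by omega
    simp only [e1, e2]
    simp
    ring

end Groth.Agent.H9.Lambda
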