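import Mathlib
import Groth.Prelude.Def_LambdaSp
import Groth.Agent.Lib.Helper9.Lambda.Special
import Groth.Agent.Lib.Helper9.Lambda.Binomial
import Groth.Agent.Lib.Helper9.Lambda.NewtonSeries

/-!
# Torsion-free pre-λ-rings with multiplicative Adams operations are special (helper9)
-/

set_option autoImplicit false

namespace Groth.Agent.H9.Lambda

open Finset MvPolynomial LambdaRing
open scoped TensorProduct

universe u v

/-- specialness descends along injective λ-homomorphisms -/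
theorem isSpecial_of_injective {K : Type u} {L : Type v} [CommRing K] [LambdaOps K] [CommRing L]
    [LambdaOps L] (hLs : IsSpecial L) (ι : K →+* L) (hι : Function.Injective ι)
    (hlam : ∀ n (x : K), ι (LambdaOps.lam n x) = LambdaOps.lam n (ι x)) : IsSpecial K := by
  refine ⟨fun n hn => ?_, fun n P hP x y => ?_, fun i j Q hQ x => ?_⟩
  · apply hι
    rw [hlam, map_one, map_zero]
    exact hLs.lam_one_eq_zero n hn
  · apply hι
    rw [hlam, map_mul, hLs.lam_mul n P hP, map_aeval_int]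
    have hfun : (Sum.elim (fun k : Fin n => LambdaOps.lam ((k : ℕ) + 1) (ι x))
        fun k : Fin n => LambdaOps.lam ((k : ℕ) + 1) (ι y)) =
        fun i => ι (Sum.elim (fun k : Fin n => LambdaOps.lam ((k : ℕ) + 1) x)
          (fun k : Fin n => LambdaOps.lam ((k : ℕ) + 1) y) i) := by
      funext k
      rcases k with k | k
      · simp [hlam]
      · simp [hlam]
    rw [hfun]
  · apply hι
    rw [hlam, hlam, hLs.lam_lam i j Q hQ, map_aeval_int]
    have hfun : (fun k : Fin (i * j) => LambdaOps.lam ((k : ℕ) + 1) (ι x)) =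
        fun k : Fin (i * j) => ι (LambdaOps.lam ((k : ℕ) + 1) x) := by
      funext k
      rw [hlam]
    rw [hfun]

theorem adamsOp_one {K : Type u} [CommRing K] [LambdaOps K] (x : K) : adamsOp 1 x = x := by
  have h := (isNewton_lam x).2 0
  simp only [zero_add, Nat.cast_one, one_mul, Finset.range_one, Finset.sum_singleton, pow_zero,
    Nat.sub_zero] at h
  rw [LambdaOps.lam_one, LambdaOps.lam_zero, mul_one] at h
  exact h.symm

section

variable {R : Type u} [CommRing R] [LambdaOps R] [IsAddTorsionFree R]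
  (h1 : ∀ k : ℕ, 1 ≤ k → adamsOp k (1 : R) = 1)
  (hmul : ∀ k : ℕ, 1 ≤ k → ∀ x y : R, adamsOp k (x * y) = adamsOp k x * adamsOp k y)
  (hcomp : ∀ k k' : ℕ, 1 ≤ k → 1 ≤ k' → ∀ x : R, adamsOp k (adamsOp k' x) = adamsOp (k * k') x)

/-- the Adams operation on `ℚ ⊗ R` -/
noncomputable def adamsQ (k : ℕ) : (ℚ ⊗[ℤ] R) →ₐ[ℚ] (ℚ ⊗[ℤ] R) :=
  if hk : 1 ≤ k then
    Algebra.TensorProduct.map (AlgHom.id ℚ ℚ) ((adamsHom h1 hmul k hk).toIntAlgHom)
  else AlgHom.id ℚ _

theorem adamsQ_tmul (k : ℕ) (hk : 1 ≤ k) (q : ℚ) (r : R) :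
    adamsQ h1 hmul k (q ⊗ₜ[ℤ] r) = q ⊗ₜ[ℤ] adamsOp k r := by
  rw [adamsQ, dif_pos hk]
  rfl

theorem adamsQ_one_eq (x : ℚ ⊗[ℤ] R) : adamsQ h1 hmul 1 x = x := by
  induction x using TensorProduct.induction_on with
  | zero => simp
  | tmul q r => rw [adamsQ_tmul h1 hmul 1 le_rfl, adamsOp_one]
  | add x y hx hy => rw [map_add, hx, hy]

include hcomp in
theorem adamsQ_comp (k k' : ℕ) (hk : 1 ≤ k) (hk' : 1 ≤ k') (x : ℚ ⊗[ℤ] R) :
    adamsQ h1 hmul k (adamsQ h1 hmul k' x) = adamsQ h1 hmul (k * k') x := by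
  induction x using TensorProduct.induction_on with
  | zero => simp
  | tmul q r =>
    rw [adamsQ_tmul h1 hmul k' hk', adamsQ_tmul h1 hmul k hk,
      adamsQ_tmul h1 hmul (k * k') (Nat.mul_pos hk hk'), hcomp k k' hk hk']
  | add x y hx hy => simp only [map_add, hx, hy]

/-- the λ-operations on `ℚ ⊗ R` -/
noncomputable def lamQ (n : ℕ) (x : ℚ ⊗[ℤ] R) : ℚ ⊗[ℤ] R :=
  newtonE (fun k => adamsQ h1 hmul k x) n

theorem isNewton_lamQ (x : ℚ ⊗[ℤ] R) :
    IsNewton (fun n => lamQ h1 hmul n x) (fun k => adamsQ h1 hmul k x) :=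
  isNewton_newtonE _

theorem lamQ_add (n : ℕ) (x y : ℚ ⊗[ℤ] R) :
    lamQ h1 hmul n (x + y) = ∑ i ∈ range (n + 1), lamQ h1 hmul i x * lamQ h1 hmul (n - i) y := by
  have hx := (isNewton_iff_series _ _).1 (isNewton_lamQ h1 hmul x)
  have hy := (isNewton_iff_series _ _).1 (isNewton_lamQ h1 hmul y)
  have hxy := (hx.mul hy).isNewton
  have hxy' := isNewton_lamQ h1 hmul (x + y)
  have := hxy'.l_unique hxy n (fun k _ _ => by simp only [map_add]) n le_rfl
  rw [this, PowerSeries.coeff_mul, Finset.Nat.sum_antidiagonal_eq_sum_range_succ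
    (fun i j => PowerSeries.coeff i (PowerSeries.mk fun n => lamQ h1 hmul n x) *
      PowerSeries.coeff j (PowerSeries.mk fun n => lamQ h1 hmul n y))]
  simp only [PowerSeries.coeff_mk]

/-- the pre-λ-structure on `ℚ ⊗ R` -/
@[reducible] noncomputable def lamOpsQ : LambdaOps (ℚ ⊗[ℤ] R) where
  lam := lamQ h1 hmul
  lam_zero x := by
    show newtonE _ 0 = 1
    rw [newtonE]
  lam_one x := by
    have h := (isNewton_lamQ h1 hmul x).2 0
    have h0 : lamQ h1 hmul 0 x = 1 := (isNewton_lamQ h1 hmul x).1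
    simp only [zero_add, Nat.cast_one, one_mul, Finset.range_one, Finset.sum_singleton, pow_zero,
      Nat.sub_zero] at h
    rw [h0, mul_one, adamsQ_one_eq] at h
    exact h
  lam_add := lamQ_add h1 hmul

include h1 hmul hcomp in
theorem isSpecial_of_adams_torsionFree : IsSpecial R := by
  let _ : LambdaOps (ℚ ⊗[ℤ] R) := lamOpsQ h1 hmul
  have hadams : ∀ k, 1 ≤ k → ∀ x : ℚ ⊗[ℤ] R, adamsOp k x = adamsQ h1 hmul k x := by
    intro k hk x
    exact (isNewton_lam x).s_unique (isNewton_lamQ h1 hmul x) k (fun m _ => rfl) k hk le_rfl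
  have hLs : IsSpecial (ℚ ⊗[ℤ] R) := by
    refine isSpecial_of_adams (fun k hk => ?_) (fun k hk x y => ?_) (fun k k' hk hk' x => ?_)
    · rw [hadams k hk, map_one]
    · rw [hadams k hk, hadams k hk, hadams k hk, map_mul]
    · rw [hadams k' hk', hadams k hk, hadams (k * k') (Nat.mul_pos hk hk'),
        adamsQ_comp h1 hmul hcomp k k' hk hk']
  let ι' : R →ₐ[ℤ] ℚ ⊗[ℤ] R := Algebra.TensorProduct.includeRight
  have hι' : Function.Injective ι' :=
    Algebra.TensorProduct.includeRight_injective (Int.cast_injective (α := ℚ))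
  refine isSpecial_of_injective hLs ι'.toRingHom hι' (fun n x => ?_)
  have hA := (isNewton_lam x).map ι'.toRingHom
  have hB := isNewton_lamQ h1 hmul (ι'.toRingHom x)
  exact hA.l_unique hB n (fun k hk _ => by
    show ι' (adamsOp k x) = adamsQ h1 hmul k (ι' x)
    show (1 : ℚ) ⊗ₜ[ℤ] adamsOp k x = adamsQ h1 hmul k ((1 : ℚ) ⊗ₜ[ℤ] x)
    rw [adamsQ_tmul h1 hmul k hk]) n le_rfl

end

end Groth.Agent.H9.Lambda
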