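import Mathlib
import Groth.Prelude.Def_LambdaSp
import Groth.Agent.Lib.Helper9.Lambda.Wilkerson

/-!
# The λ-structure on `K[l_v]` with the monomials as line elements, `K` a binomial ring (helper9)
-/

set_option autoImplicit false

namespace Groth.Agent.H9.Lambda

open Finset MvPolynomial LambdaRing

universe u w

variable {σ : Type w} {K : Type u} [CommRing K] [BinomialRing K]

/-- `(1 + l^α t)^k` -/
noncomputable def bs (α : σ →₀ ℕ) (k : K) : PowerSeries (MvPolynomial σ K) :=
  PowerSeries.rescale (monomial α (1 : K)) (PowerSeries.binomialSeries (MvPolynomial σ K) k)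

theorem bs_zero (α : σ →₀ ℕ) : bs α (0 : K) = 1 := by
  rw [bs, PowerSeries.binomialSeries_zero, map_one]

theorem bs_add (α : σ →₀ ℕ) (k k' : K) : bs α (k + k') = bs α k * bs α k' := by
  rw [bs, PowerSeries.binomialSeries_add, map_mul]
  rfl

theorem coeff_bs (α : σ →₀ ℕ) (k : K) (n : ℕ) :
    PowerSeries.coeff n (bs α k) = monomial (n • α) (Ring.choose k n) := by
  rw [bs, PowerSeries.coeff_rescale, PowerSeries.binomialSeries_coeff, monomial_pow, one_pow,
    Algebra.smul_def, mul_one, algebraMap_eq, mul_comm, C_mul_monomial, mul_one]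

theorem constantCoeff_bs (α : σ →₀ ℕ) (k : K) : PowerSeries.constantCoeff (bs α k) = 1 := by
  rw [← PowerSeries.coeff_zero_eq_constantCoeff_apply, coeff_bs, zero_smul, Ring.choose_zero_right]
  rfl

/-- `λ_t(f) = ∏ (1 + l^α t)^{f_α}` -/
noncomputable def lamSer (f : MvPolynomial σ K) : PowerSeries (MvPolynomial σ K) :=
  ∏ α ∈ f.support, bs α (coeff α f)

theorem lamSer_eq_of_subset (f : MvPolynomial σ K) (S : Finset (σ →₀ ℕ)) (h : f.support ⊆ S) :
    lamSer f = ∏ α ∈ S, bs α (coeff α f) := by
  unfold lamSer
  refine Finset.prod_subset h (fun α _ hα => ?_)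
  rw [notMem_support_iff.1 hα, bs_zero]

theorem lamSer_add (f g : MvPolynomial σ K) : lamSer (f + g) = lamSer f * lamSer g := by
  classical
  have h1 : (f + g).support ⊆ f.support ∪ g.support := support_add
  rw [lamSer_eq_of_subset (f + g) _ h1, lamSer_eq_of_subset f _ Finset.subset_union_left,
    lamSer_eq_of_subset g _ Finset.subset_union_right, ← Finset.prod_mul_distrib]
  refine Finset.prod_congr rfl fun α _ => ?_
  rw [coeff_add, bs_add]

theorem lamSer_zero : lamSer (0 : MvPolynomial σ K) = 1 := by
  unfold lamSer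
  simp

theorem lamSer_monomial (α : σ →₀ ℕ) (k : K) : lamSer (monomial α k) = bs α k := by
  classical
  rw [lamSer_eq_of_subset (monomial α k) {α} support_monomial_subset, Finset.prod_singleton,
    coeff_monomial, if_pos rfl]

theorem constantCoeff_lamSer (f : MvPolynomial σ K) : PowerSeries.constantCoeff (lamSer f) = 1 := by
  induction f using MvPolynomial.induction_on' with
  | monomial α k => rw [lamSer_monomial, constantCoeff_bs]
  | add p q hp hq => rw [lamSer_add, map_mul, hp, hq, mul_one]

theorem coeff_one_lamSer (f : MvPolynomial σ K) : PowerSeries.coeff 1 (lamSer f) = f := by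
  induction f using MvPolynomial.induction_on' with
  | monomial α k => rw [lamSer_monomial, coeff_bs, one_smul, Ring.choose_one_right]
  | add p q hp hq =>
    rw [lamSer_add, PowerSeries.coeff_one_mul, hp, hq, constantCoeff_lamSer, constantCoeff_lamSer,
      mul_one, mul_one]

/-- the λ-structure on `K[l]` -/
@[reducible] noncomputable def mvLambdaOps : LambdaOps (MvPolynomial σ K) where
  lam n f := PowerSeries.coeff n (lamSer f)
  lam_zero f := by
    rw [PowerSeries.coeff_zero_eq_constantCoeff_apply, constantCoeff_lamSer]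
  lam_one f := coeff_one_lamSer f
  lam_add n f g := by
    rw [lamSer_add, PowerSeries.coeff_mul, Finset.Nat.sum_antidiagonal_eq_sum_range_succ
      (fun i j => PowerSeries.coeff i (lamSer f) * PowerSeries.coeff j (lamSer g))]

attribute [local instance] mvLambdaOps

theorem lamSeries_eq (f : MvPolynomial σ K) : lamSeries f = lamSer f := by
  ext n
  simp [lamSeries, LambdaOps.lam]

theorem isNewtonSeries_bs (α : σ →₀ ℕ) (k : K) :
    IsNewtonSeries (bs α k) (fun j => monomial (j • α) k) := by
  have h1 : IsNewton (fun n => Ring.choose k n) (fun _ => k) := isNewton_choose k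
  have h2 := (h1.map (algebraMap K (MvPolynomial σ K))).scale (monomial α (1 : K))
  have h3 := (isNewton_iff_series _ _).1 h2
  have e1 : (PowerSeries.mk fun n => (algebraMap K (MvPolynomial σ K)) (Ring.choose k n) *
      (monomial α (1 : K)) ^ n) = bs α k := by
    ext n
    rw [PowerSeries.coeff_mk, coeff_bs, monomial_pow, one_pow, algebraMap_eq, C_mul_monomial,
      mul_one]
  have e2 : (fun j => (algebraMap K (MvPolynomial σ K)) k * (monomial α (1 : K)) ^ j) =
      fun j => monomial (j • α) k := by
    funext j
    rw [monomial_pow, one_pow, algebraMap_eq, C_mul_monomial, mul_one]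
  rw [e1, e2] at h3
  exact h3

theorem isNewtonSeries_lamSer (f : MvPolynomial σ K) :
    IsNewtonSeries (lamSer f) (fun j => expand j f) := by
  induction f using MvPolynomial.induction_on' with
  | monomial α k =>
    rw [lamSer_monomial]
    have := isNewtonSeries_bs α k
    simpa only [expand_monomial] using this
  | add p q hp hq =>
    rw [lamSer_add]
    have := hp.mul hq
    simpa only [map_add] using this

theorem adamsOp_eq_expand (j : ℕ) (hj : 1 ≤ j) (f : MvPolynomial σ K) :
    adamsOp j f = expand j f := by
  have h1 := isNewton_lam f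
  have h2 := (isNewtonSeries_lamSer f).isNewton
  exact h1.s_unique h2 j (fun m _ => rfl) j hj le_rfl

instance : IsAddTorsionFree K := BinomialRing.toIsAddTorsionFree

theorem isAddTorsionFree_mv : IsAddTorsionFree (MvPolynomial σ K) := by
  refine ⟨fun n hn f g h => ?_⟩
  ext α
  have h2 := congrArg (coeff α) h
  simp only [coeff_smul] at h2
  exact IsAddTorsionFree.nsmul_right_injective hn h2

/-- `K[l]` is a λ-ring in the strict sense -/
theorem isSpecial_mv : IsSpecial (MvPolynomial σ K) := by
  have : IsAddTorsionFree (MvPolynomial σ K) := isAddTorsionFree_mv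
  refine isSpecial_of_adams_torsionFree (fun k hk => ?_) (fun k hk x y => ?_)
    (fun k k' hk hk' x => ?_)
  · rw [adamsOp_eq_expand k hk, map_one]
  · rw [adamsOp_eq_expand k hk, adamsOp_eq_expand k hk, adamsOp_eq_expand k hk, map_mul]
  · rw [adamsOp_eq_expand k' hk', adamsOp_eq_expand k hk,
      adamsOp_eq_expand (k * k') (Nat.mul_pos hk hk'), expand_mul]

end Groth.Agent.H9.Lambda

namespace Groth.Agent.H9.Lambda

open Finset MvPolynomial LambdaRing

universe u w w'

section

variable {σ : Type w} {τ : Type w'} {K : Type u} [CommRing K] [BinomialRing K]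

attribute [local instance] mvLambdaOps

theorem lam_eq_coeff (n : ℕ) (f : MvPolynomial σ K) :
    LambdaOps.lam n f = PowerSeries.coeff n (lamSer f) := rfl

theorem lam_monomial (n : ℕ) (α : σ →₀ ℕ) (k : K) :
    LambdaOps.lam n (monomial α k) = monomial (n • α) (Ring.choose k n) := by
  rw [lam_eq_coeff, lamSer_monomial, coeff_bs]

/-- `K[l]` is a `K`-λ-algebra for the binomial structure on `K` -/
theorem isLambdaAlg_mv [LambdaOps K] (hKb : IsBinomial K) : IsLambdaAlg K (MvPolynomial σ K) := by
  intro n k
  rw [hKb n k, algebraMap_eq]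
  have : (C k : MvPolynomial σ K) = monomial 0 k := C_apply
  rw [this, lam_monomial, smul_zero, C_apply]

/-- a `K`-algebra map sending monomials to monomials commutes with the `λ`-operations -/
theorem map_lam_of_monomial (Φ : MvPolynomial σ K →ₐ[K] MvPolynomial τ K)
    (hΦ : ∀ α : σ →₀ ℕ, ∃ β : τ →₀ ℕ, Φ (monomial α 1) = monomial β 1)
    (n : ℕ) (f : MvPolynomial σ K) :
    Φ (LambdaOps.lam n f) = LambdaOps.lam n (Φ f) := by
  have hser : ∀ f : MvPolynomial σ K,
      PowerSeries.map (Φ : MvPolynomial σ K →+* MvPolynomial τ K) (lamSer f) = lamSer (Φ f) := by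
    intro f
    induction f using MvPolynomial.induction_on' with
    | monomial α k =>
      obtain ⟨β, hβ⟩ := hΦ α
      have h1 : Φ (monomial α k) = monomial β k := by
        have : monomial α k = C k * monomial α (1 : K) := by rw [C_mul_monomial, mul_one]
        rw [this, map_mul, hβ, ← algebraMap_eq, AlgHom.commutes, algebraMap_eq, C_mul_monomial,
          mul_one]
      rw [h1, lamSer_monomial, lamSer_monomial]
      refine PowerSeries.ext fun m => ?_
      rw [PowerSeries.coeff_map, coeff_bs, coeff_bs]
      have h2 : monomial (m • α) (Ring.choose k m) = C (Ring.choose k m) * (monomial α (1 : K)) ^ m := by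
        rw [monomial_pow, one_pow, C_mul_monomial, mul_one]
      have h3 : monomial (m • β) (Ring.choose k m) = C (Ring.choose k m) * (monomial β (1 : K)) ^ m := by
        rw [monomial_pow, one_pow, C_mul_monomial, mul_one]
      rw [h2, h3]
      simp only [RingHom.coe_coe, map_mul, map_pow, hβ]
      rw [← algebraMap_eq, AlgHom.commutes, algebraMap_eq]
    | add p q hp hq =>
      rw [lamSer_add, map_add, lamSer_add, map_mul, hp, hq]
  rw [lam_eq_coeff, lam_eq_coeff, ← hser, PowerSeries.coeff_map]
  rfl

/-- a substitution of variables by monomials -/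
noncomputable def monoSubst (φ : σ → (τ →₀ ℕ)) : MvPolynomial σ K →ₐ[K] MvPolynomial τ K :=
  aeval (fun v => monomial (φ v) (1 : K))

theorem monoSubst_monomial (φ : σ → (τ →₀ ℕ)) (α : σ →₀ ℕ) :
    ∃ β : τ →₀ ℕ, monoSubst (K := K) φ (monomial α 1) = monomial β 1 := by
  classical
  induction α using Finsupp.induction with
  | zero => exact ⟨0, by simp [monoSubst]⟩
  | single_add v m α _ _ ih =>
    obtain ⟨β, hβ⟩ := ih
    refine ⟨m • φ v + β, ?_⟩
    have h1 : monomial (Finsupp.single v m + α) (1 : K) =
        (X v) ^ m * monomial α (1 : K) := by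
      rw [X_pow_eq_monomial, monomial_mul, one_mul]
    rw [h1, map_mul, map_pow, hβ]
    simp only [monoSubst, aeval_X]
    rw [monomial_pow, one_pow, monomial_mul, one_mul]

theorem monoSubst_lam (φ : σ → (τ →₀ ℕ)) (n : ℕ) (f : MvPolynomial σ K) :
    monoSubst φ (LambdaOps.lam n f) = LambdaOps.lam n (monoSubst φ f) :=
  map_lam_of_monomial _ (monoSubst_monomial φ) n f

end

end Groth.Agent.H9.Lambda
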