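import Mathlib
import Groth.Prelude.Def_LambdaSp
import Groth.Agent.Lib.Helper9.Lambda.MonoidLam
import Groth.Agent.Lib.Helper9.Lambda.GammaSer

/-!
# The universal ring `K[l]`: augmentation ideal and the γ-operations (helper9)
-/

set_option autoImplicit false

namespace Groth.Agent.H9.Lambda

open Finset MvPolynomial LambdaRing

universe u w

section Shift

variable (σ : Type w) (K : Type u) [CommRing K]

/-- the augmentation ideal `(l_v - 1)` -/
noncomputable def augI : Ideal (MvPolynomial σ K) := Ideal.span (Set.range fun v => X v - 1)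

/-- `l ↦ l + 1` -/
noncomputable def shift : MvPolynomial σ K →ₐ[K] MvPolynomial σ K := aeval (fun v => X v + 1)

/-- `l ↦ l - 1` -/
noncomputable def unshift : MvPolynomial σ K →ₐ[K] MvPolynomial σ K := aeval (fun v => X v - 1)

variable {σ K}

@[simp] theorem shift_X (v : σ) : shift σ K (X v) = X v + 1 := by simp [shift]
@[simp] theorem unshift_X (v : σ) : unshift σ K (X v) = X v - 1 := by simp [unshift]

@[simp] theorem shift_unshift (p : MvPolynomial σ K) : shift σ K (unshift σ K p) = p := by
  have : (shift σ K).comp (unshift σ K) = AlgHom.id K _ := by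
    apply MvPolynomial.algHom_ext
    intro v
    simp
  exact congrArg (fun f => f p) this

@[simp] theorem unshift_shift (p : MvPolynomial σ K) : unshift σ K (shift σ K p) = p := by
  have : (unshift σ K).comp (shift σ K) = AlgHom.id K _ := by
    apply MvPolynomial.algHom_ext
    intro v
    simp
  exact congrArg (fun f => f p) this

theorem map_unshift_idealOfVars :
    (idealOfVars σ K).map (unshift σ K) = augI σ K := by
  rw [idealOfVars, Ideal.map_span, augI]
  congr 1
  ext p
  constructor
  · rintro ⟨q, ⟨v, rfl⟩, rfl⟩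
    exact ⟨v, by simp⟩
  · rintro ⟨v, rfl⟩
    exact ⟨X v, ⟨v, rfl⟩, by simp⟩

theorem mem_augI_pow_iff (m : ℕ) (p : MvPolynomial σ K) :
    p ∈ augI σ K ^ m ↔ shift σ K p ∈ idealOfVars σ K ^ m := by
  rw [← map_unshift_idealOfVars, ← Ideal.map_pow]
  have hsurj : Function.Surjective (unshift σ K) := fun q => ⟨shift σ K q, unshift_shift q⟩
  constructor
  · intro h
    obtain ⟨q, hq, rfl⟩ := (Ideal.mem_map_iff_of_surjective (unshift σ K) hsurj).1 h
    rw [shift_unshift]
    exact hq
  · intro h
    have h2 := Ideal.mem_map_of_mem (unshift σ K) h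
    rw [unshift_shift] at h2
    exact h2

theorem unshift_mem_augI_pow {m : ℕ} {p : MvPolynomial σ K} (h : p ∈ idealOfVars σ K ^ m) :
    unshift σ K p ∈ augI σ K ^ m := by
  rw [mem_augI_pow_iff, shift_unshift]
  exact h

theorem X_sub_one_mem_augI (v : σ) : (X v - 1 : MvPolynomial σ K) ∈ augI σ K :=
  Ideal.subset_span ⟨v, rfl⟩

/-- the augmentation `l ↦ 1` -/
noncomputable def augB : MvPolynomial σ K →ₐ[K] K := aeval (fun _ => (1 : K))

theorem mem_augI_iff (p : MvPolynomial σ K) : p ∈ augI σ K ↔ augB p = 0 := by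
  have h1 : p ∈ augI σ K ↔ p ∈ augI σ K ^ 1 := by rw [pow_one]
  rw [h1, mem_augI_pow_iff, mem_pow_idealOfVars_iff']
  have h2 : augB p = coeff 0 (shift σ K p) := by
    have : (augB : MvPolynomial σ K →ₐ[K] K) =
        (aeval (fun _ => (0 : K)) : MvPolynomial σ K →ₐ[K] K).comp (shift σ K) := by
      apply MvPolynomial.algHom_ext
      intro v
      simp [augB]
    rw [this, AlgHom.comp_apply]
    have h3 : ∀ q : MvPolynomial σ K, aeval (fun _ => (0 : K)) q = coeff 0 q := by
      intro q
      have : (fun _ : σ => (0 : K)) = 0 := rfl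
      rw [this, aeval_zero]
      rfl
    exact h3 _
  rw [h2]
  constructor
  · intro h
    exact h 0 (by simp)
  · intro h μ hμ
    have : μ = 0 := by
      have : μ.degree = 0 := by omega
      exact (Finsupp.degree_eq_zero_iff μ).1 this
    rw [this]
    exact h

/-- saturation of the powers of the augmentation ideal -/
theorem mem_augI_pow_of_nsmul [IsAddTorsionFree K] (m n : ℕ) (hn : n ≠ 0) (p : MvPolynomial σ K)
    (h : n • p ∈ augI σ K ^ m) : p ∈ augI σ K ^ m := by
  rw [mem_augI_pow_iff, mem_pow_idealOfVars_iff'] at h ⊢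
  intro μ hμ
  have := h μ hμ
  rw [map_nsmul, coeff_smul] at this
  exact (IsAddTorsionFree.nsmul_right_injective hn) (by simpa using this)

end Shift

section Line

variable {σ : Type w} {K : Type u} [CommRing K] [BinomialRing K]

attribute [local instance] mvLambdaOps

theorem negOnePow_smul' (m : ℕ) (x : K) : Int.negOnePow m • x = (-1 : K) ^ m * x := by
  rw [Units.smul_def, zsmul_eq_mul, Int.cast_negOnePow_natCast]

theorem lemT (k : K) (n i : ℕ) (hn : 1 ≤ n) (hi : i ≤ n) :
    Ring.choose k i * Ring.choose (-k + ((n - 1 : ℕ) : K)) (n - i) =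
      (-1 : K) ^ (n - i) * ((Nat.choose n i : K) * Ring.choose k n) := by
  have h1 : (-k + ((n - 1 : ℕ) : K)) = -(k - ((n - 1 : ℕ) : K)) := by ring
  rw [h1, Ring.choose_neg, negOnePow_smul']
  have h2 : k - ((n - 1 : ℕ) : K) + ((n - i : ℕ) : K) - 1 = k - (i : K) := by
    rw [Nat.cast_sub hn, Nat.cast_sub hi]
    push_cast
    ring
  rw [h2]
  have h3 := Ring.choose_smul_choose k hi
  rw [nsmul_eq_mul] at h3
  rw [h3]
  ring

theorem lemV (k : K) (n i : ℕ) (hn : 1 ≤ n) (hi : i ≤ n) :
    ∑ j ∈ Finset.Ico i (n + 1), ((Nat.choose (n - 1) (j - 1) : ℕ) : K) *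
        (if j = 0 then 0 else Ring.choose (-k) (j - i)) =
      Ring.choose (-k + ((n - 1 : ℕ) : K)) (n - i) := by
  rw [Ring.add_choose_eq (n - i) (Commute.all _ _),
    Finset.Nat.sum_antidiagonal_eq_sum_range_succ
      (fun a b => Ring.choose (-k) a * Ring.choose (((n - 1 : ℕ) : K)) b),
    Finset.sum_Ico_eq_sum_range]
  have : n + 1 - i = (n - i).succ := by omega
  rw [this]
  refine Finset.sum_congr rfl fun b hb => ?_
  rw [Finset.mem_range] at hb
  rw [Ring.choose_natCast]
  by_cases h0 : i + b = 0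
  · have hi0 : i = 0 := by omega
    have hb0 : b = 0 := by omega
    subst hi0 hb0
    simp only [add_zero, if_true, mul_zero, Nat.sub_zero]
    rw [Nat.choose_eq_zero_of_lt (by omega)]
    simp
  · rw [if_neg h0]
    have h1 : i + b - i = b := by omega
    rw [h1, mul_comm]
    congr 2
    have h2 : n - i - b = (n - 1) - (i + b - 1) := by omega
    rw [h2, Nat.choose_symm (by omega)]

theorem lam_line (α : σ →₀ ℕ) (k : K) (j : ℕ) :
    LambdaOps.lam j (monomial α k - C k) =
      ∑ i ∈ range (j + 1), C (Ring.choose k i * Ring.choose (-k) (j - i)) * (monomial α (1 : K)) ^ i := by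
  have hx : (monomial α k - C k : MvPolynomial σ K) = monomial α k + monomial 0 (-k) := by
    rw [sub_eq_add_neg, C_apply, ← map_neg (monomial (0 : σ →₀ ℕ)) k]
  rw [hx, LambdaOps.lam_add]
  refine Finset.sum_congr rfl fun i _ => ?_
  rw [lam_monomial, lam_monomial, smul_zero, monomial_pow, one_pow, ← C_apply, C_mul,
    mul_assoc, mul_comm (C (Ring.choose (-k) (j - i))), ← mul_assoc, C_mul_monomial, mul_one]

theorem gamma_line (α : σ →₀ ℕ) (k : K) (n : ℕ) (hn : 1 ≤ n) :
    gamma n (monomial α k - C k) = C (Ring.choose k n) * (monomial α (1 : K) - 1) ^ n := by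
  set l : MvPolynomial σ K := monomial α 1 with hl
  rw [gamma, if_neg (by omega)]
  have h1 : ∀ j ∈ range (n + 1), ((Nat.choose (n - 1) (j - 1) : ℕ) : MvPolynomial σ K) *
      (if j = 0 then 0 else LambdaOps.lam j (monomial α k - C k)) =
      ∑ i ∈ Ico 0 (j + 1), C (((Nat.choose (n - 1) (j - 1) : ℕ) : K) *
        (if j = 0 then 0 else Ring.choose (-k) (j - i)) * Ring.choose k i) * l ^ i := by
    intro j _
    rw [← Finset.range_eq_Ico]
    by_cases h0 : j = 0
    · simp [h0]
    · rw [if_neg h0, lam_line, Finset.mul_sum]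
      refine Finset.sum_congr rfl fun i _ => ?_
      rw [if_neg h0, ← mul_assoc, ← map_natCast (C : K →+* MvPolynomial σ K), ← C_mul]
      congr 2
      ring
  rw [Finset.sum_congr rfl h1, Finset.range_eq_Ico, ← Finset.sum_Ico_Ico_comm]
  have h2 : ∀ i ∈ Ico 0 (n + 1), ∑ j ∈ Ico i (n + 1), C (((Nat.choose (n - 1) (j - 1) : ℕ) : K) *
        (if j = 0 then 0 else Ring.choose (-k) (j - i)) * Ring.choose k i) * l ^ i =
      C (Ring.choose k n) * (l ^ i * (-1) ^ (n - i) * (Nat.choose n i : MvPolynomial σ K)) := by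
    intro i hi
    rw [Finset.mem_Ico] at hi
    rw [← Finset.sum_mul, ← map_sum, ← Finset.sum_mul, lemV k n i hn (by omega), mul_comm _ (Ring.choose k i),
      lemT k n i hn (by omega)]
    simp only [map_mul, map_pow, map_neg, map_one, map_natCast]
    ring
  rw [Finset.sum_congr rfl h2, ← Finset.mul_sum, sub_eq_add_neg, add_pow, Finset.range_eq_Ico]


end Line

end Groth.Agent.H9.Lambda
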