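import Mathlib
import Groth.Prelude.Def_LambdaSp
import Groth.Agent.Lib.Helper9.Lambda.UnivRing

/-!
# The γ-filtration of the universal ring `K[l]` is the `(l-1)`-adic filtration, part 1 (helper9)
-/

set_option autoImplicit false

namespace Groth.Agent.H9.Lambda

open Finset MvPolynomial LambdaRing

universe u w

/-- additive closure of membership conditions on all `γ^i` -/
theorem gamma_mem_add {A : Type*} [CommRing A] [LambdaOps A] (𝔞 : ℕ → Ideal A)
    (hmul : ∀ i j, 𝔞 i * 𝔞 j ≤ 𝔞 (i + j)) (f g : A)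
    (hf : ∀ i, gamma i f ∈ 𝔞 i) (hg : ∀ i, gamma i g ∈ 𝔞 i) (i : ℕ) :
    gamma i (f + g) ∈ 𝔞 i := by
  rw [gamma_add]
  refine Ideal.sum_mem _ fun j hj => ?_
  rw [Finset.mem_range] at hj
  have h := hmul j (i - j) (Ideal.mul_mem_mul (hf j) (hg (i - j)))
  have e : j + (i - j) = i := by omega
  rwa [e] at h

theorem gamma_mem_sum {A : Type*} [CommRing A] [LambdaOps A] (𝔞 : ℕ → Ideal A)
    (h0 : (1 : A) ∈ 𝔞 0)
    (hmul : ∀ i j, 𝔞 i * 𝔞 j ≤ 𝔞 (i + j)) {ι : Type*} (T : Finset ι) (f : ι → A)
    (hf : ∀ t ∈ T, ∀ i, gamma i (f t) ∈ 𝔞 i) (hz : ∀ i, 1 ≤ i → (0 : A) ∈ 𝔞 i) (i : ℕ) :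
    gamma i (∑ t ∈ T, f t) ∈ 𝔞 i := by
  classical
  induction T using Finset.induction_on generalizing i with
  | empty =>
    rw [Finset.sum_empty]
    rcases Nat.eq_zero_or_pos i with rfl | hi
    · rw [gamma_zero_left]; exact h0
    · rw [gamma_zero_right i hi]; exact hz i hi
  | insert a T ha ih =>
    rw [Finset.sum_insert ha]
    exact gamma_mem_add 𝔞 hmul _ _ (hf a (Finset.mem_insert_self a T))
      (fun i => ih (fun t ht => hf t (Finset.mem_insert_of_mem ht)) i) i

section

variable {σ : Type w} {K : Type u} [CommRing K] [BinomialRing K]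

attribute [local instance] mvLambdaOps

omit [BinomialRing K] in
theorem augB_monomial (α : σ →₀ ℕ) (c : K) : augB (monomial α c) = c := by
  simp [augB, aeval_monomial]

omit [BinomialRing K] in
theorem monomial_sub_one_mem_augI (α : σ →₀ ℕ) : (monomial α (1 : K) - 1) ∈ augI σ K := by
  rw [mem_augI_iff, map_sub, augB_monomial, map_one, sub_self]

omit [BinomialRing K] in
/-- elements of the augmentation ideal are sums of `k (l^α - 1)` -/
theorem eq_sum_of_mem_augI (f : MvPolynomial σ K) (hf : f ∈ augI σ K) :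
    f = ∑ α ∈ f.support, (monomial α (coeff α f) - C (coeff α f)) := by
  rw [Finset.sum_sub_distrib, support_sum_monomial_coeff, ← map_sum]
  have h1 : ∑ α ∈ f.support, coeff α f = augB f := by
    conv_rhs => rw [← support_sum_monomial_coeff f, map_sum]
    refine Finset.sum_congr rfl fun α _ => ?_
    rw [augB_monomial]
  rw [h1, (mem_augI_iff f).1 hf, map_zero, sub_zero]

/-- `γ^i` maps the augmentation ideal into its `i`-th power -/
theorem gamma_mem_augI_pow (f : MvPolynomial σ K) (hf : f ∈ augI σ K) (i : ℕ) :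
    gamma i f ∈ augI σ K ^ i := by
  rw [eq_sum_of_mem_augI f hf]
  refine gamma_mem_sum (fun i => augI σ K ^ i) (by simp) (fun i j => by rw [pow_add]) _ _
    (fun α _ i => ?_) (fun i _ => Ideal.zero_mem _) i
  rcases Nat.eq_zero_or_pos i with rfl | hi
  · simp
  · rw [gamma_line α _ i hi]
    exact Ideal.mul_mem_left _ _ (Ideal.pow_mem_pow (monomial_sub_one_mem_augI α) i)

/-- the substitution `l_t ↦ 1` -/
noncomputable def theta [DecidableEq σ] (t : σ) : MvPolynomial σ K →ₐ[K] MvPolynomial σ K :=
  monoSubst (fun s => if s = t then 0 else Finsupp.single s 1)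

omit [BinomialRing K] in
theorem theta_X [DecidableEq σ] (t s : σ) :
    theta (K := K) t (X s) = if s = t then 1 else X s := by
  simp only [theta, monoSubst, aeval_X]
  split_ifs
  · rfl
  · rfl

/-- the substitution `X_t ↦ 0` -/
noncomputable def zeroAt [DecidableEq σ] (t : σ) : MvPolynomial σ K →ₐ[K] MvPolynomial σ K :=
  aeval (fun s => if s = t then 0 else X s)

omit [BinomialRing K] in
theorem shift_theta [DecidableEq σ] (t : σ) (p : MvPolynomial σ K) :
    shift σ K (theta t p) = zeroAt t (shift σ K p) := by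
  have : (shift σ K).comp (theta t) = (zeroAt t).comp (shift σ K) := by
    apply MvPolynomial.algHom_ext
    intro s
    simp only [AlgHom.comp_apply, theta_X, shift_X, map_add, map_one, zeroAt, aeval_X]
    split_ifs
    · simp
    · simp
  exact congrArg (fun f => f p) this

omit [BinomialRing K] in
theorem zeroAt_monomial [DecidableEq σ] (t : σ) (μ : σ →₀ ℕ) (c : K) :
    zeroAt t (monomial μ c) = if μ t = 0 then monomial μ c else 0 := by
  rw [zeroAt, aeval_monomial]
  split_ifs with h
  · rw [monomial_eq, algebraMap_eq]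
    congr 1
    refine Finset.prod_congr rfl fun s hs => ?_
    have : s ≠ t := by
      rintro rfl
      exact (Finsupp.mem_support_iff.1 hs) h
    simp [this]
  · have ht : t ∈ μ.support := Finsupp.mem_support_iff.2 h
    rw [Finsupp.prod, Finset.prod_eq_zero ht, mul_zero]
    simp [h]

omit [BinomialRing K] in
theorem coeff_zeroAt [DecidableEq σ] (t : σ) (ν : σ →₀ ℕ) (hν : ν t = 0) (q : MvPolynomial σ K) :
    coeff ν (zeroAt t q) = coeff ν q := by
  induction q using MvPolynomial.induction_on' with
  | monomial μ c =>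
    rw [zeroAt_monomial]
    split_ifs with h
    · rfl
    · rw [coeff_zero, coeff_monomial, if_neg]
      rintro rfl
      exact h hν
  | add p q hp hq => rw [map_add, coeff_add, coeff_add, hp, hq]

omit [BinomialRing K] in
/-- an element killed by all the substitutions `l_t ↦ 1` lies in a high power of the
augmentation ideal -/
theorem mem_augI_pow_of_theta [Fintype σ] [DecidableEq σ] (p : MvPolynomial σ K)
    (h : ∀ t, theta t p = 0) : p ∈ augI σ K ^ Fintype.card σ := by
  rw [mem_augI_pow_iff, mem_pow_idealOfVars_iff]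
  intro μ hμ
  have h1 : ∀ t, μ t ≠ 0 := by
    intro t ht
    have h2 : zeroAt t (shift σ K p) = 0 := by rw [← shift_theta, h t, map_zero]
    have h3 := coeff_zeroAt t μ ht (shift σ K p)
    rw [h2, coeff_zero] at h3
    exact (mem_support_iff.1 hμ) h3.symm
  rw [Finsupp.degree_eq_sum]
  calc Fintype.card σ = ∑ _t : σ, 1 := by simp
    _ ≤ ∑ t, μ t := Finset.sum_le_sum fun t _ => Nat.one_le_iff_ne_zero.2 (h1 t)

end

end Groth.Agent.H9.Lambda
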