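import Mathlib
import Groth.Prelude.Def_LambdaSp
import Groth.Agent.Lib.Helper9.Lambda.UnivRing2

/-!
# The γ-filtration of the universal ring `K[l]` is the `(l-1)`-adic filtration, part 2 (helper9)
-/

set_option autoImplicit false

namespace Groth.Agent.H9.Lambda

open Finset MvPolynomial LambdaRing

universe u w

/-- additive closure of membership conditions on all `λ^i` -/
theorem lam_mem_add {A : Type*} [CommRing A] [LambdaOps A] (𝔞 : ℕ → Ideal A)
    (hmul : ∀ i j, 𝔞 i * 𝔞 j ≤ 𝔞 (i + j)) (f g : A)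
    (hf : ∀ i, LambdaOps.lam i f ∈ 𝔞 i) (hg : ∀ i, LambdaOps.lam i g ∈ 𝔞 i) (i : ℕ) :
    LambdaOps.lam i (f + g) ∈ 𝔞 i := by
  rw [LambdaOps.lam_add]
  refine Ideal.sum_mem _ fun j hj => ?_
  rw [Finset.mem_range] at hj
  have h := hmul j (i - j) (Ideal.mul_mem_mul (hf j) (hg (i - j)))
  have e : j + (i - j) = i := by omega
  rwa [e] at h

theorem lam_mem_sum {A : Type*} [CommRing A] [LambdaOps A] (𝔞 : ℕ → Ideal A)
    (h0 : (1 : A) ∈ 𝔞 0)
    (hmul : ∀ i j, 𝔞 i * 𝔞 j ≤ 𝔞 (i + j)) {ι : Type*} (T : Finset ι) (f : ι → A)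
    (hf : ∀ t ∈ T, ∀ i, LambdaOps.lam i (f t) ∈ 𝔞 i) (hz : ∀ i, 1 ≤ i → (0 : A) ∈ 𝔞 i) (i : ℕ) :
    LambdaOps.lam i (∑ t ∈ T, f t) ∈ 𝔞 i := by
  classical
  induction T using Finset.induction_on generalizing i with
  | empty =>
    rw [Finset.sum_empty]
    rcases Nat.eq_zero_or_pos i with rfl | hi
    · rw [LambdaOps.lam_zero]; exact h0
    · rw [lam_zero_right i hi]; exact hz i hi
  | insert a T ha ih =>
    rw [Finset.sum_insert ha]
    exact lam_mem_add 𝔞 hmul _ _ (hf a (Finset.mem_insert_self a T))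
      (fun i => ih (fun t ht => hf t (Finset.mem_insert_of_mem ht)) i) i

theorem stirling_id (n : ℕ) :
    ∑ k ∈ range (n + 1), ((-1 : ℤ) ^ k * (n.choose k : ℤ)) * ((k : ℤ) + 1) ^ n =
      (-1) ^ n * (n.factorial : ℤ) := by
  have h1 := fwdDiff_iter_eq_sum_shift (h := (1 : ℤ)) (fun r : ℤ => r ^ n) n 1
  have h2 := congrFun (fwdDiff_iter_eq_factorial (R := ℤ) (n := n)) 1
  rw [h2] at h1
  have h3 : ((n.factorial : ℤ → ℤ) 1) = (n.factorial : ℤ) := by simp
  rw [h3] at h1
  rw [h1, Finset.mul_sum]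
  refine Finset.sum_congr rfl fun k hk => ?_
  rw [Finset.mem_range] at hk
  simp only [smul_eq_mul, nsmul_eq_mul, mul_one]
  have : (-1 : ℤ) ^ n = (-1) ^ k * (-1) ^ (n - k) := by
    rw [← pow_add]; congr 1; omega
  rw [this]
  have h4 : (-1 : ℤ) ^ (n - k) * (-1) ^ (n - k) = 1 := by
    rw [← mul_pow]; simp
  have h5 : (1 : ℤ) + k = k + 1 := by ring
  rw [h5]
  linear_combination (-((-1 : ℤ) ^ k * (n.choose k : ℤ) * ((k : ℤ) + 1) ^ n)) * h4

section

variable {σ : Type w} {K : Type u} [CommRing K] [BinomialRing K]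

attribute [local instance] mvLambdaOps

theorem rename_lam {τ : Type w} (π : τ → σ) (n : ℕ) (f : MvPolynomial τ K) :
    rename π (LambdaOps.lam n f) = LambdaOps.lam n (rename π f) :=
  map_lam_of_monomial (rename π) (fun α => ⟨α.mapDomain π, by rw [rename_monomial]⟩) n f

theorem rename_gamma {τ : Type w} (π : τ → σ) (n : ℕ) (f : MvPolynomial τ K) :
    rename π (gamma n f) = gamma n (rename π f) :=
  map_gamma (rename π : MvPolynomial τ K →ₐ[K] MvPolynomial σ K).toRingHom
    (fun n x => rename_lam π n x) n f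

theorem theta_lam [DecidableEq σ] (t : σ) (n : ℕ) (f : MvPolynomial σ K) :
    theta t (LambdaOps.lam n f) = LambdaOps.lam n (theta t f) :=
  monoSubst_lam _ n f

theorem theta_gamma [DecidableEq σ] (t : σ) (n : ℕ) (f : MvPolynomial σ K) :
    theta t (gamma n f) = gamma n (theta t f) :=
  map_gamma (theta t : MvPolynomial σ K →ₐ[K] MvPolynomial σ K).toRingHom
    (fun n x => theta_lam t n x) n f

omit [BinomialRing K] in
theorem rename_mem_augI_pow {τ : Type w} (π : τ → σ) (m : ℕ) (p : MvPolynomial τ K)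
    (hp : p ∈ augI τ K ^ m) : rename π p ∈ augI σ K ^ m := by
  have h1 : rename π p ∈ (augI τ K ^ m).map (rename π : MvPolynomial τ K →ₐ[K] MvPolynomial σ K) :=
    Ideal.mem_map_of_mem _ hp
  rw [Ideal.map_pow] at h1
  refine Ideal.pow_right_mono ?_ m h1
  rw [augI, Ideal.map_span, Ideal.span_le]
  rintro q ⟨q', ⟨t, rfl⟩, rfl⟩
  simp only [map_sub, rename_X, map_one]
  exact X_sub_one_mem_augI (π t)

omit [BinomialRing K] in
theorem unshift_monomial (μ : σ →₀ ℕ) (k : K) :
    unshift σ K (monomial μ k) = C k * ∏ v ∈ μ.support, (X v - 1) ^ μ v := by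
  rw [unshift, aeval_monomial, algebraMap_eq]
  rfl

omit [BinomialRing K] in
theorem exists_rename_model (μ : σ →₀ ℕ) (k : K) :
    ∃ (τ : Type w) (_ : Fintype τ) (π : τ → σ), Fintype.card τ = μ.degree ∧
      rename π (C k * ∏ t : τ, (X t - 1)) = unshift σ K (monomial μ k) := by
  classical
  refine ⟨Σ v : μ.support, Fin (μ v), inferInstance, fun t => t.1.1, ?_, ?_⟩
  · rw [Fintype.card_sigma]
    simp only [Fintype.card_fin]
    rw [Finsupp.degree_apply]
    exact Finset.sum_coe_sort μ.support (fun i => μ i)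
  · rw [unshift_monomial, map_mul, rename_C, map_prod]
    congr 1
    simp only [map_sub, rename_X, map_one]
    rw [Fintype.prod_sigma]
    simp only [Finset.prod_const, Finset.card_univ, Fintype.card_fin]
    exact Finset.prod_coe_sort μ.support (fun v => (X v - 1 : MvPolynomial σ K) ^ μ v)

omit [BinomialRing K] in
theorem theta_prod_eq_zero {τ : Type w} [Fintype τ] [DecidableEq τ] (t : τ) (k : K) :
    theta t (C k * ∏ s : τ, (X s - 1 : MvPolynomial τ K)) = 0 := by
  rw [map_mul, map_prod, Finset.prod_eq_zero (Finset.mem_univ t), mul_zero]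
  rw [map_sub, theta_X, if_pos rfl, map_one, sub_self]

/-- `λ^i` of a monomial in the `l_v - 1` -/
theorem lam_unshift_monomial_mem (μ : σ →₀ ℕ) (k : K) (i : ℕ) (hi : 1 ≤ i) :
    LambdaOps.lam i (unshift σ K (monomial μ k)) ∈ augI σ K ^ μ.degree := by
  classical
  obtain ⟨τ, _, π, hcard, hπ⟩ := exists_rename_model μ k
  rw [← hπ, ← rename_lam, ← hcard]
  refine rename_mem_augI_pow π _ _ (mem_augI_pow_of_theta _ fun t => ?_)
  rw [theta_lam, theta_prod_eq_zero, lam_zero_right i hi]

/-- `γ^i` of a monomial in the `l_v - 1` -/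
theorem gamma_unshift_monomial_mem (μ : σ →₀ ℕ) (k : K) (i : ℕ) (hi : 1 ≤ i) :
    gamma i (unshift σ K (monomial μ k)) ∈ augI σ K ^ μ.degree := by
  classical
  obtain ⟨τ, _, π, hcard, hπ⟩ := exists_rename_model μ k
  rw [← hπ, ← rename_gamma, ← hcard]
  refine rename_mem_augI_pow π _ _ (mem_augI_pow_of_theta _ fun t => ?_)
  rw [theta_gamma, theta_prod_eq_zero, gamma_zero_right i hi]

omit [BinomialRing K] in
/-- elements of `I^w` are sums of monomials in the `l_v - 1` of degree `≥ w` -/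
theorem eq_sum_unshift (f : MvPolynomial σ K) :
    f = ∑ μ ∈ (shift σ K f).support, unshift σ K (monomial μ (coeff μ (shift σ K f))) := by
  conv_lhs => rw [← unshift_shift f, ← support_sum_monomial_coeff (shift σ K f), map_sum]

/-- the powers of the augmentation ideal are stable under the `γ^i`, `i ≥ 1` -/
theorem gamma_mem_augI_pow_of_mem (w : ℕ) (f : MvPolynomial σ K) (hf : f ∈ augI σ K ^ w)
    (i : ℕ) (hi : 1 ≤ i) : gamma i f ∈ augI σ K ^ w := by
  have hdeg : ∀ μ ∈ (shift σ K f).support, w ≤ μ.degree :=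
    (mem_pow_idealOfVars_iff w _).1 ((mem_augI_pow_iff w f).1 hf)
  rw [eq_sum_unshift f]
  have := gamma_mem_sum (fun i => if i = 0 then (⊤ : Ideal (MvPolynomial σ K)) else augI σ K ^ w)
    (by simp) (fun a b => ?_) (shift σ K f).support
    (fun μ => unshift σ K (monomial μ (coeff μ (shift σ K f)))) (fun μ hμ j => ?_)
    (fun j hj => ?_) i
  · rw [if_neg (by omega)] at this
    exact this
  · by_cases ha : a = 0
    · subst ha; simp
    · by_cases hb : b = 0
      · subst hb; simp
      · rw [if_neg ha, if_neg hb, if_neg (by omega)]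
        exact Ideal.mul_le_left
  · by_cases hj : j = 0
    · simp [hj]
    · simp only [if_neg hj]
      exact Ideal.pow_le_pow_right (hdeg μ hμ)
        (gamma_unshift_monomial_mem μ _ j (by omega))
  · simp only [if_neg (by omega : j ≠ 0)]
    exact Ideal.zero_mem _

/-- the powers of the augmentation ideal are stable under the `λ^i`, `i ≥ 1` -/
theorem lam_mem_augI_pow_of_mem (w : ℕ) (f : MvPolynomial σ K) (hf : f ∈ augI σ K ^ w)
    (i : ℕ) (hi : 1 ≤ i) : LambdaOps.lam i f ∈ augI σ K ^ w := by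
  have hdeg : ∀ μ ∈ (shift σ K f).support, w ≤ μ.degree :=
    (mem_pow_idealOfVars_iff w _).1 ((mem_augI_pow_iff w f).1 hf)
  rw [eq_sum_unshift f]
  have := lam_mem_sum (fun i => if i = 0 then (⊤ : Ideal (MvPolynomial σ K)) else augI σ K ^ w)
    (by simp) (fun a b => ?_) (shift σ K f).support
    (fun μ => unshift σ K (monomial μ (coeff μ (shift σ K f)))) (fun μ hμ j => ?_)
    (fun j hj => ?_) i
  · rw [if_neg (by omega)] at this
    exact this
  · by_cases ha : a = 0
    · subst ha; simp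
    · by_cases hb : b = 0
      · subst hb; simp
      · rw [if_neg ha, if_neg hb, if_neg (by omega)]
        exact Ideal.mul_le_left
  · by_cases hj : j = 0
    · simp [hj]
    · simp only [if_neg hj]
      exact Ideal.pow_le_pow_right (hdeg μ hμ)
        (lam_unshift_monomial_mem μ _ j (by omega))
  · simp only [if_neg (by omega : j ≠ 0)]
    exact Ideal.zero_mem _

end

end Groth.Agent.H9.Lambda
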