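import Mathlib
import Groth.Prelude.Def_LambdaSp
import Groth.Agent.Lib.Helper9.Lambda.UnivRing3

/-!
# The leading term of `γ^m` on the `m`-th power of the augmentation ideal of `K[l]` (helper9)
-/

set_option autoImplicit false

namespace Groth.Agent.H9.Lambda

open Finset MvPolynomial LambdaRing

universe u w

section

variable {σ : Type w} {K : Type u} [CommRing K] [BinomialRing K]

attribute [local instance] mvLambdaOps

omit [BinomialRing K] in
theorem unshift_monomial_mem (μ : σ →₀ ℕ) (k : K) :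
    unshift σ K (monomial μ k) ∈ augI σ K ^ μ.degree := by
  apply unshift_mem_augI_pow
  rw [mem_pow_idealOfVars_iff]
  intro ν hν
  have := support_monomial_subset hν
  rw [Finset.mem_singleton] at this
  rw [this]

omit [BinomialRing K] in
theorem expand_unshift_monomial (μ : σ →₀ ℕ) (k : K) (j : ℕ) :
    expand j (unshift σ K (monomial μ k)) - ((j ^ μ.degree : ℕ) : MvPolynomial σ K) *
      unshift σ K (monomial μ k) ∈ augI σ K ^ (μ.degree + 1) := by
  set G : MvPolynomial σ K := ∏ v ∈ μ.support, (∑ r ∈ range j, (X v) ^ r) ^ μ v with hG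
  have h1 : expand j (unshift σ K (monomial μ k)) = unshift σ K (monomial μ k) * G := by
    rw [unshift_monomial, map_mul, expand_C, map_prod, hG, mul_assoc, ← Finset.prod_mul_distrib]
    congr 1
    refine Finset.prod_congr rfl fun v _ => ?_
    rw [map_pow, map_sub, expand_X, map_one, ← mul_pow, mul_comm (X v - 1), geom_sum_mul]
  have h2 : G - ((j ^ μ.degree : ℕ) : MvPolynomial σ K) ∈ augI σ K := by
    rw [mem_augI_iff, map_sub, map_natCast, hG, map_prod]
    have : ∀ v ∈ μ.support, augB ((∑ r ∈ range j, (X v : MvPolynomial σ K) ^ r) ^ μ v) =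
        (j : K) ^ μ v := by
      intro v _
      rw [map_pow, map_sum]
      simp [augB]
    rw [Finset.prod_congr rfl this, Finset.prod_pow_eq_pow_sum, Finsupp.degree_apply]
    push_cast
    ring
  have h3 : expand j (unshift σ K (monomial μ k)) - ((j ^ μ.degree : ℕ) : MvPolynomial σ K) *
      unshift σ K (monomial μ k) =
      unshift σ K (monomial μ k) * (G - ((j ^ μ.degree : ℕ) : MvPolynomial σ K)) := by
    rw [h1]
    ring
  rw [h3, pow_succ]
  exact Ideal.mul_mem_mul (unshift_monomial_mem μ k) h2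

theorem expand_unshift_monomial_mem (μ : σ →₀ ℕ) (k : K) (j : ℕ) :
    expand j (unshift σ K (monomial μ k)) ∈ augI σ K ^ μ.degree := by
  have h1 := expand_unshift_monomial μ k j
  have h2 : ((j ^ μ.degree : ℕ) : MvPolynomial σ K) * unshift σ K (monomial μ k) ∈
      augI σ K ^ μ.degree := Ideal.mul_mem_left _ _ (unshift_monomial_mem μ k)
  have h3 := Ideal.add_mem _ (Ideal.pow_le_pow_right (Nat.le_succ _) h1) h2
  rwa [sub_add_cancel] at h3

/-- the leading term of `λ^{n+1}` on a monomial of degree `m ≥ 1` in the `l_v - 1` -/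
theorem lam_unshift_monomial_leading (μ : σ →₀ ℕ) (k : K) (hμ : 1 ≤ μ.degree) (n : ℕ) :
    LambdaOps.lam (n + 1) (unshift σ K (monomial μ k)) -
      ((-1 : MvPolynomial σ K) ^ n * (((n + 1) ^ (μ.degree - 1) : ℕ) : MvPolynomial σ K)) *
        unshift σ K (monomial μ k) ∈ augI σ K ^ (μ.degree + 1) := by
  set x := unshift σ K (monomial μ k) with hx
  set m := μ.degree with hm
  have hN := (isNewton_lam x).2 n
  beta_reduce at hN
  rw [Finset.sum_range_succ, Nat.sub_self, LambdaOps.lam_zero, mul_one] at hN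
  have h1 : ∑ i ∈ range n, (-1 : MvPolynomial σ K) ^ i * adamsOp (i + 1) x *
      LambdaOps.lam (n - i) x ∈ augI σ K ^ (m + 1) := by
    refine Ideal.sum_mem _ fun i hi => ?_
    rw [Finset.mem_range] at hi
    rw [adamsOp_eq_expand (i + 1) (by omega), mul_assoc]
    refine Ideal.mul_mem_left _ _ ?_
    have h2 := Ideal.mul_mem_mul (expand_unshift_monomial_mem μ k (i + 1))
      (lam_unshift_monomial_mem μ k (n - i) (by omega))
    rw [← pow_add] at h2
    exact Ideal.pow_le_pow_right (by omega) h2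
  have h3 := expand_unshift_monomial μ k (n + 1)
  have h4 : (n + 1) • (LambdaOps.lam (n + 1) x -
      ((-1 : MvPolynomial σ K) ^ n * (((n + 1) ^ (m - 1) : ℕ) : MvPolynomial σ K)) * x) ∈
      augI σ K ^ (m + 1) := by
    have e : (n + 1) • (LambdaOps.lam (n + 1) x -
        ((-1 : MvPolynomial σ K) ^ n * (((n + 1) ^ (m - 1) : ℕ) : MvPolynomial σ K)) * x) =
        ∑ i ∈ range n, (-1 : MvPolynomial σ K) ^ i * adamsOp (i + 1) x * LambdaOps.lam (n - i) x +
        (-1) ^ n * (expand (n + 1) x - (((n + 1) ^ m : ℕ) : MvPolynomial σ K) * x) := by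
      rw [nsmul_eq_mul, mul_sub, hN, adamsOp_eq_expand (n + 1) (by omega)]
      have : ((n + 1) ^ m : ℕ) = (n + 1) * (n + 1) ^ (m - 1) := by
        rw [← pow_succ']
        congr 1
        omega
      rw [this]
      push_cast
      ring
    rw [e]
    exact Ideal.add_mem _ h1 (Ideal.mul_mem_left _ _ h3)
  exact mem_augI_pow_of_nsmul (m + 1) (n + 1) (by omega) _ h4

/-- the constant `(-1)^{m-1} (m-1)!` -/
noncomputable def cLead (A : Type*) [CommRing A] (m : ℕ) : A := (-1 : A) ^ (m - 1) * ((m - 1).factorial : A)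

theorem sum_choose_eq_cLead (A : Type*) [CommRing A] (m : ℕ) (hm : 1 ≤ m) :
    ∑ j ∈ range (m + 1), ((Nat.choose (m - 1) (j - 1) : ℕ) : A) *
      (if j = 0 then 0 else (-1 : A) ^ (j - 1) * (((j - 1 + 1) ^ (m - 1) : ℕ) : A)) = cLead A m := by
  rw [Finset.sum_range_succ']
  simp only [if_true, mul_zero, add_zero, Nat.add_sub_cancel, if_neg (Nat.succ_ne_zero _)]
  have h := congrArg (Int.cast : ℤ → A) (stirling_id (m - 1))
  have e : m - 1 + 1 = m := by omega
  rw [e] at h
  push_cast at h
  rw [cLead, ← h]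
  refine Finset.sum_congr rfl fun k _ => ?_
  push_cast
  ring

/-- the leading term of `γ^m` on a monomial of degree `m ≥ 1` in the `l_v - 1` -/
theorem gamma_unshift_monomial_leading (μ : σ →₀ ℕ) (k : K) (hμ : 1 ≤ μ.degree) :
    gamma μ.degree (unshift σ K (monomial μ k)) -
      cLead (MvPolynomial σ K) μ.degree * unshift σ K (monomial μ k) ∈
        augI σ K ^ (μ.degree + 1) := by
  set x := unshift σ K (monomial μ k) with hx
  set m := μ.degree with hm
  rw [gamma, if_neg (by omega), ← sum_choose_eq_cLead (MvPolynomial σ K) m hμ, Finset.sum_mul,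
    ← Finset.sum_sub_distrib]
  refine Ideal.sum_mem _ fun j _ => ?_
  by_cases h0 : j = 0
  · simp [h0]
  · rw [if_neg h0, if_neg h0, mul_assoc, ← mul_sub]
    refine Ideal.mul_mem_left _ _ ?_
    have := lam_unshift_monomial_leading μ k hμ (j - 1)
    have e : j - 1 + 1 = j := by omega
    rw [e] at this
    rw [e]
    exact this

/-- additivity of the leading-term statement -/
theorem gamma_leading_add (m : ℕ) (hm : 1 ≤ m) (c : MvPolynomial σ K) (g h : MvPolynomial σ K)
    (hg : g ∈ augI σ K ^ m) (hh : h ∈ augI σ K ^ m)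
    (hg2 : gamma m g - c * g ∈ augI σ K ^ (m + 1)) (hh2 : gamma m h - c * h ∈ augI σ K ^ (m + 1)) :
    gamma m (g + h) - c * (g + h) ∈ augI σ K ^ (m + 1) := by
  obtain ⟨m', rfl⟩ : ∃ m', m = m' + 1 := ⟨m - 1, by omega⟩
  rw [gamma_add, Finset.sum_range_succ, Finset.sum_range_succ', Nat.sub_self, gamma_zero_left,
    gamma_zero_left, mul_one, one_mul, Nat.sub_zero]
  have h1 : ∑ i ∈ range m', gamma (i + 1) g * gamma (m' + 1 - (i + 1)) h ∈
      augI σ K ^ (m' + 1 + 1) := by
    refine Ideal.sum_mem _ fun i hi => ?_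
    rw [Finset.mem_range] at hi
    have h2 := Ideal.mul_mem_mul (gamma_mem_augI_pow_of_mem _ g hg (i + 1) (by omega))
      (gamma_mem_augI_pow_of_mem _ h hh (m' + 1 - (i + 1)) (by omega))
    rw [← pow_add] at h2
    exact Ideal.pow_le_pow_right (by omega) h2
  have e : ∑ i ∈ range m', gamma (i + 1) g * gamma (m' + 1 - (i + 1)) h + gamma (m' + 1) h +
      gamma (m' + 1) g - c * (g + h) =
      ∑ i ∈ range m', gamma (i + 1) g * gamma (m' + 1 - (i + 1)) h +
      (gamma (m' + 1) g - c * g) + (gamma (m' + 1) h - c * h) := by ring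
  rw [e]
  exact Ideal.add_mem _ (Ideal.add_mem _ h1 hg2) hh2

/-- **the leading term of `γ^m` on `I^m`**: `γ^m(f) ≡ (-1)^{m-1} (m-1)! f` modulo `I^{m+1}` -/
theorem gamma_leading (m : ℕ) (hm : 1 ≤ m) (f : MvPolynomial σ K) (hf : f ∈ augI σ K ^ m) :
    gamma m f - cLead (MvPolynomial σ K) m * f ∈ augI σ K ^ (m + 1) := by
  classical
  have hdeg : ∀ μ ∈ (shift σ K f).support, m ≤ μ.degree :=
    (mem_pow_idealOfVars_iff m _).1 ((mem_augI_pow_iff m f).1 hf)
  rw [eq_sum_unshift f]
  set c := cLead (MvPolynomial σ K) m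
  have key : ∀ T : Finset (σ →₀ ℕ), (∀ μ ∈ T, m ≤ μ.degree) →
      (∑ μ ∈ T, unshift σ K (monomial μ (coeff μ (shift σ K f)))) ∈ augI σ K ^ m ∧
      gamma m (∑ μ ∈ T, unshift σ K (monomial μ (coeff μ (shift σ K f)))) -
        c * (∑ μ ∈ T, unshift σ K (monomial μ (coeff μ (shift σ K f)))) ∈ augI σ K ^ (m + 1) := by
    intro T
    induction T using Finset.induction_on with
    | empty =>
      intro _
      simp only [Finset.sum_empty, mul_zero, sub_zero]
      exact ⟨Ideal.zero_mem _, by rw [gamma_zero_right m hm]; exact Ideal.zero_mem _⟩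
    | insert a T ha ih =>
      intro hT
      obtain ⟨ih1, ih2⟩ := ih fun μ hμ => hT μ (Finset.mem_insert_of_mem hμ)
      have ha1 : m ≤ a.degree := hT a (Finset.mem_insert_self a T)
      have hx1 : unshift σ K (monomial a (coeff a (shift σ K f))) ∈ augI σ K ^ m :=
        Ideal.pow_le_pow_right ha1 (unshift_monomial_mem a _)
      have hx2 : gamma m (unshift σ K (monomial a (coeff a (shift σ K f)))) -
          c * unshift σ K (monomial a (coeff a (shift σ K f))) ∈ augI σ K ^ (m + 1) := by
        rcases Nat.eq_or_lt_of_le ha1 with heq | hlt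
        · have := gamma_unshift_monomial_leading a (coeff a (shift σ K f)) (by omega)
          rw [← heq] at this
          exact this
        · refine Ideal.sub_mem _ ?_ (Ideal.mul_mem_left _ _ ?_)
          · exact Ideal.pow_le_pow_right hlt (gamma_unshift_monomial_mem a _ m hm)
          · exact Ideal.pow_le_pow_right hlt (unshift_monomial_mem a _)
      rw [Finset.sum_insert ha]
      exact ⟨Ideal.add_mem _ hx1 ih1, gamma_leading_add m hm c _ _ hx1 ih1 hx2 ih2⟩
  exact (key _ hdeg).2

end

end Groth.Agent.H9.Lambda
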