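import Mathlib
import Groth.Prelude.Def_LambdaSp
import Groth.Agent.Lib.Helper9.Lambda.UnivRing4
import Groth.Agent.Lib.Helper9.Lambda.SigMulti
import Groth.Agent.Lib.Helper9.Lambda.Closure

/-!
# The universal generators of `K[l_{i,s}]` and their γ-operations (helper9)
-/

set_option autoImplicit false

namespace Groth.Agent.H9.Lambda

open Finset MvPolynomial LambdaRing

universe u w

theorem gSer_zero {A : Type*} [CommRing A] [LambdaOps A] : gSer (0 : A) = 1 := by
  ext n
  rw [coeff_gSer]
  rcases Nat.eq_zero_or_pos n with rfl | hn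
  · simp [gamma_zero_left]
  · rw [gamma_zero_right n hn, PowerSeries.coeff_one, if_neg (by omega)]

theorem gSer_sum {A : Type*} [CommRing A] [LambdaOps A] {τ : Type*} (T : Finset τ) (f : τ → A) :
    gSer (∑ t ∈ T, f t) = ∏ t ∈ T, gSer (f t) := by
  classical
  induction T using Finset.induction_on with
  | empty => simp [gSer_zero]
  | insert a T ha ih => rw [Finset.sum_insert ha, Finset.prod_insert ha, gSer_add, ih]

section

variable {ι : Type w} (M : ι → ℕ) (K : Type u) [CommRing K] [BinomialRing K]

attribute [local instance] mvLambdaOps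

/-- the universal element of augmentation zero in the group `i` -/
noncomputable def xU (i : ι) : MvPolynomial (Var M) K := ∑ s : Fin (M i), (X (mkV M i s) - 1)

theorem isNewtonSeries_gSer_X_sub_one {σ : Type w} (v : σ) :
    IsNewtonSeries (gSer (X v - 1 : MvPolynomial σ K)) (fun k => (X v - 1 : MvPolynomial σ K) ^ k) := by
  have h := (isNewton_iff_series _ _).1 (isNewton_line (X v - 1 : MvPolynomial σ K))
  have e : (PowerSeries.mk fun n => if n = 0 then (1 : MvPolynomial σ K) else
      if n = 1 then (X v - 1) else 0) = gSer (X v - 1 : MvPolynomial σ K) := by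
    refine PowerSeries.ext fun n => ?_
    rw [PowerSeries.coeff_mk, coeff_gSer]
    rcases Nat.eq_zero_or_pos n with rfl | hn
    · rw [if_pos rfl, gamma_zero_left]
    · have hX : (X v - 1 : MvPolynomial σ K) = monomial (Finsupp.single v 1) (1 : K) - C 1 := by
        rw [C_1]
        rfl
      have hX' : (monomial (Finsupp.single v 1) (1 : K) : MvPolynomial σ K) = X v := rfl
      rw [if_neg (by omega), hX, gamma_line _ _ n hn, hX']
      have h1 : Ring.choose (1 : K) n = ((Nat.choose 1 n : ℕ) : K) := by
        have := Ring.choose_natCast (R := K) 1 n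
        simpa using this
      rw [h1]
      by_cases h1n : n = 1
      · subst h1n
        simp
      · rw [if_neg h1n, Nat.choose_eq_zero_of_lt (by omega)]
        simp
  rw [e] at h
  exact h

/-- `γ^k` of the universal element is the `k`-th elementary symmetric polynomial in the
`l_{i,s} - 1` -/
theorem gamma_xU (i : ι) (k : ℕ) :
    gamma k (xU M K i) = unshift (Var M) K (rename (mkV M i) (esymm (Fin (M i)) K k)) := by
  have htf : IsAddTorsionFree (MvPolynomial (Var M) K) := isAddTorsionFree_mv
  set a : Fin (M i) → MvPolynomial (Var M) K := fun s => X (mkV M i s) - 1 with ha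
  have h1 : IsNewtonSeries (gSer (xU M K i)) (fun k => ∑ s : Fin (M i), a s ^ k) := by
    rw [xU, gSer_sum]
    exact IsNewtonSeries.prod _ _ _ (fun s _ => isNewtonSeries_gSer_X_sub_one K (mkV M i s))
  have h2 := h1.isNewton
  have h3 := isNewton_family a
  have h4 := h2.l_unique' (fun n p q hpq => by
      have : (n + 1) • p = (n + 1) • q := by rw [nsmul_eq_mul, nsmul_eq_mul]; exact hpq
      exact IsAddTorsionFree.nsmul_right_injective (Nat.succ_ne_zero n) this) h3 k
    (fun _ _ _ => rfl) k le_rfl
  simp only [coeff_gSer] at h4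
  rw [h4, ← aeval_esymm_eq_multiset_esymm (Fin (M i)) K k a]
  have h5 : (aeval a : MvPolynomial (Fin (M i)) K →ₐ[K] MvPolynomial (Var M) K) =
      (unshift (Var M) K).comp (rename (mkV M i)) := by
    apply MvPolynomial.algHom_ext
    intro s
    simp [ha]
  rw [h5]
  rfl

theorem gamma_xU_eq_zero (i : ι) (k : ℕ) (hk : M i < k) : gamma k (xU M K i) = 0 := by
  rw [gamma_xU, esymm_eq_zero_of_gt (M i) K hk, map_zero, map_zero]

theorem xU_mem_augI (i : ι) : xU M K i ∈ augI (Var M) K :=
  Ideal.sum_mem _ fun s _ => X_sub_one_mem_augI _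

end

end Groth.Agent.H9.Lambda
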