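import Mathlib
import Groth.Prelude.Def_LambdaSp
import Groth.Agent.Lib.Helper9.Lambda.UnivGen

/-!
# Transfer of weight estimates from the universal ring to all special `K`-λ-algebras (helper9)
-/

set_option autoImplicit false

namespace Groth.Agent.H9.Lambda

open Finset MvPolynomial LambdaRing

universe u v w

section

variable {K : Type u} [CommRing K] {ι : Type w}

/-- the weight of the variable `(i, k)`, standing for `γ^{k+1}(x_i)` -/
def wtO (p : ι × ℕ) : ℕ := p.2 + 1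

/-- all monomials of `R` have weight `≥ w` -/
def WtGE (R : Ops ι K) (w : ℕ) : Prop := ∀ μ ∈ R.support, w ≤ Finsupp.weight (wtO (ι := ι)) μ

theorem WtGE.mono {R : Ops ι K} {w w' : ℕ} (h : WtGE R w) (hw : w' ≤ w) : WtGE R w' :=
  fun μ hμ => le_trans hw (h μ hμ)

theorem WtGE.add {R R' : Ops ι K} {w : ℕ} (h : WtGE R w) (h' : WtGE R' w) : WtGE (R + R') w := by
  classical
  intro μ hμ
  rcases Finset.mem_union.1 (support_add hμ) with h1 | h1
  · exact h μ h1
  · exact h' μ h1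

theorem WtGE.mul {R R' : Ops ι K} {w w' : ℕ} (h : WtGE R w) (h' : WtGE R' w') :
    WtGE (R * R') (w + w') := by
  classical
  intro μ hμ
  have := support_mul R R' hμ
  rw [Finset.mem_add] at this
  obtain ⟨a, ha, b, hb, rfl⟩ := this
  rw [map_add]
  exact add_le_add (h a ha) (h' b hb)

theorem wtGE_zero (w : ℕ) : WtGE (0 : Ops ι K) w := by
  intro μ hμ
  simp at hμ

theorem wtGE_C (c : K) : WtGE (C c : Ops ι K) 0 := fun _ _ => Nat.zero_le _

theorem wtGE_X (i : ι) (k : ℕ) : WtGE (X (i, k) : Ops ι K) (k + 1) := by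
  classical
  intro μ hμ
  have hμ' : μ ∈ (monomial (Finsupp.single (i, k) 1) (1 : K)).support := hμ
  have := support_monomial_subset hμ'
  rw [Finset.mem_singleton] at this
  rw [this, Finsupp.weight_single]
  simp [wtO]

/-- the embedding of the operations in finitely many variables per generator -/
noncomputable def emb (N : ℕ) : MvPolynomial (Var (fun _ : ι => N)) K →ₐ[K] Ops ι K :=
  rename (fun v => (v.1, (v.2 : ℕ)))

theorem emb_fun_injective (N : ℕ) :
    Function.Injective (fun v : Var (fun _ : ι => N) => (v.1, (v.2 : ℕ))) := by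
  rintro ⟨i, s⟩ ⟨j, t⟩ h
  simp only [Prod.mk.injEq] at h
  obtain ⟨rfl, h2⟩ := h
  have : s = t := Fin.ext h2
  rw [this]

theorem exists_emb (N : ℕ) (R : Ops ι K) (hR : R ∈ opsLE ι K N) : ∃ R₀, emb N R₀ = R := by
  induction hR using Algebra.adjoin_induction with
  | mem p hp =>
    obtain ⟨i, k, hk, rfl⟩ := hp
    exact ⟨X ⟨i, ⟨k, hk⟩⟩, by simp [emb]⟩
  | algebraMap c => exact ⟨algebraMap K _ c, by rw [AlgHom.commutes]⟩
  | add p q _ _ hp hq =>
    obtain ⟨p', rfl⟩ := hp
    obtain ⟨q', rfl⟩ := hq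
    exact ⟨p' + q', map_add _ _ _⟩
  | mul p q _ _ hp hq =>
    obtain ⟨p', rfl⟩ := hp
    obtain ⟨q', rfl⟩ := hq
    exact ⟨p' * q', map_mul _ _ _⟩

theorem wtGE_emb (N : ℕ) (R₀ : MvPolynomial (Var (fun _ : ι => N)) K) (w : ℕ)
    (h : ∀ ν ∈ R₀.support, w ≤ Finsupp.weight (wtV (fun _ : ι => N)) ν) : WtGE (emb N R₀) w := by
  classical
  intro μ hμ
  rw [emb, support_rename_of_injective (emb_fun_injective N)] at hμ
  obtain ⟨ν, hν, rfl⟩ := Finset.mem_image.1 hμ
  have : Finsupp.weight (wtO (ι := ι)) (Finsupp.mapDomain (fun v : Var (fun _ : ι => N) => (v.1, (v.2 : ℕ))) ν) =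
      Finsupp.weight (wtV (fun _ : ι => N)) ν := by
    show Finsupp.linearCombination ℕ _ _ = Finsupp.linearCombination ℕ _ _
    rw [Finsupp.linearCombination_mapDomain]
    rfl
  rw [this]
  exact h ν hν

/-- evaluation of operations of weight `≥ w` lands in the `w`-th step of a multiplicative
filtration containing the `γ^k(x_i)` in step `k` -/
theorem opg_mem_of_wtGE {A : Type v} [CommRing A] [LambdaOps A] [Algebra K A] (x : ι → A)
    (𝔞 : ℕ → Ideal A) (h0 : 𝔞 0 = ⊤) (hmul : ∀ i j, 𝔞 i * 𝔞 j ≤ 𝔞 (i + j)) (hanti : Antitone 𝔞)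
    (hx : ∀ i k, gamma (k + 1) (x i) ∈ 𝔞 (k + 1)) (R : Ops ι K) (w : ℕ) (hR : WtGE R w) :
    opg x R ∈ 𝔞 w := by
  classical
  have hpow : ∀ (y : A) (a e : ℕ), y ∈ 𝔞 a → y ^ e ∈ 𝔞 (e * a) := by
    intro y a e hy
    induction e with
    | zero => simp [h0]
    | succ e ih =>
      rw [pow_succ, Nat.succ_mul]
      exact hmul _ _ (Ideal.mul_mem_mul ih hy)
  have hprod : ∀ (μ : ι × ℕ →₀ ℕ) (S : Finset (ι × ℕ)),
      ∏ p ∈ S, gamma (p.2 + 1) (x p.1) ^ μ p ∈ 𝔞 (∑ p ∈ S, μ p * (p.2 + 1)) := by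
    intro μ S
    induction S using Finset.induction_on with
    | empty => simp [h0]
    | insert a S ha ih =>
      rw [Finset.prod_insert ha, Finset.sum_insert ha]
      exact hmul _ _ (Ideal.mul_mem_mul (hpow _ _ _ (hx a.1 a.2)) ih)
  rw [← support_sum_monomial_coeff R, map_sum]
  refine Ideal.sum_mem _ fun μ hμ => ?_
  rw [opg, aeval_monomial]
  refine Ideal.mul_mem_left _ _ (hanti (hR μ hμ) ?_)
  rw [Finsupp.weight_apply]
  have := hprod μ μ.support
  simpa [Finsupp.prod, Finsupp.sum, wtO] using this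

end

section Main

variable {K : Type u} [CommRing K] [LambdaOps K] [BinomialRing K] {ι : Type w}

attribute [local instance] mvLambdaOps

omit [LambdaOps K] in
theorem opg_xU_emb (N : ℕ) (R₀ : MvPolynomial (Var (fun _ : ι => N)) K) :
    opg (xU (fun _ : ι => N) K) (emb N R₀) =
      unshift (Var (fun _ : ι => N)) K (sigM (fun _ : ι => N) K R₀) := by
  have h : (opg (xU (fun _ : ι => N) K)).comp (emb N) =
      (unshift (Var (fun _ : ι => N)) K).comp (sigM (fun _ : ι => N) K) := by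
    apply MvPolynomial.algHom_ext
    rintro ⟨i, s⟩
    simp only [AlgHom.comp_apply, emb, rename_X, opg_X, sigM, aeval_X, egrp]
    rw [gamma_xU]
  exact congrArg (fun f => f R₀) h

omit [LambdaOps K] in
theorem opg_xU_mem (N : ℕ) (R : Ops ι K) (w : ℕ) (hR : WtGE R w) :
    opg (xU (fun _ : ι => N) K) R ∈ augI (Var (fun _ : ι => N)) K ^ w := by
  refine opg_mem_of_wtGE (xU (fun _ : ι => N) K) (fun i => augI (Var (fun _ : ι => N)) K ^ i)
    (by simp) (fun i j => by rw [pow_add]) (fun a b hab => Ideal.pow_le_pow_right hab)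
    (fun i k => gamma_mem_augI_pow _ (xU_mem_augI _ K i) _) R w hR

/-- **weights of `γ^n` of an operation**: if `R` has weight `≥ w ≥ 1`, then `γ^n ∘ R` is an
operation of weight `≥ max n w` -/
theorem gamma_opg_wtGE (hKb : IsBinomial K) (R : Ops ι K) (w : ℕ) (hw : 1 ≤ w) (hR : WtGE R w)
    (n : ℕ) (hn : 1 ≤ n) :
    ∃ R' : Ops ι K, WtGE R' (max n w) ∧ RealizesG.{u, v, w} n R R' := by
  obtain ⟨M0, hM0⟩ := exists_opsLE R
  obtain ⟨R', hR'mem, hreal1, hreal2⟩ := closureG.{u, v, max u w, w} hKb M0 R hM0 n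
  set N := n * M0 with hN
  have hRN : R ∈ opsLE ι K N := opsLE_mono (Nat.le_mul_of_pos_left M0 hn) hM0
  obtain ⟨R₀, rfl⟩ := exists_emb N R hRN
  obtain ⟨R'₀, rfl⟩ := exists_emb N R' hR'mem
  have hB := hreal2 (MvPolynomial (Var (fun _ : ι => N)) K) isSpecial_mv (isLambdaAlg_mv hKb)
    (xU (fun _ : ι => N) K)
  have hf := opg_xU_mem N (emb N R₀) w hR
  rw [opg_xU_emb] at hB hf
  rw [opg_xU_emb] at hB
  have h1 : gamma n (unshift (Var (fun _ : ι => N)) K (sigM (fun _ : ι => N) K R₀)) ∈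
      augI (Var (fun _ : ι => N)) K ^ (max n w) := by
    rcases le_total n w with h | h
    · rw [max_eq_right h]
      exact gamma_mem_augI_pow_of_mem w _ hf n hn
    · rw [max_eq_left h]
      refine gamma_mem_augI_pow _ ?_ n
      have := Ideal.pow_le_pow_right hw hf
      rwa [pow_one] at this
  rw [hB, mem_augI_pow_iff, shift_unshift] at h1
  exact ⟨emb N R'₀, wtGE_emb N R'₀ _ (weight_ge_of_sigM_mem _ _ R'₀ _ h1), hreal1⟩

omit [LambdaOps K] [BinomialRing K] in
theorem algebraMap_cLead {A : Type v} [CommRing A] [Algebra K A] (m : ℕ) :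
    algebraMap K A (cLead K m) = cLead A m := by
  simp [cLead]

/-- **the leading term of `γ^m` on operations of weight `≥ m`** -/
theorem gamma_opg_leading (hKb : IsBinomial K) (R : Ops ι K) (m : ℕ) (hm : 1 ≤ m)
    (hR : WtGE R m) :
    ∃ R'' : Ops ι K, WtGE R'' (m + 1) ∧
      ∀ (A : Type v) [CommRing A] [LambdaOps A] [Algebra K A], IsSpecial A → IsLambdaAlg K A →
        ∀ x : ι → A, gamma m (opg x R) - cLead A m * opg x R = opg x R'' := by
  obtain ⟨M0, hM0⟩ := exists_opsLE R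
  obtain ⟨R', hR'mem, hreal1, hreal2⟩ := closureG.{u, v, max u w, w} hKb M0 R hM0 m
  set N := m * M0 with hN
  have hRN : R ∈ opsLE ι K N := opsLE_mono (Nat.le_mul_of_pos_left M0 hm) hM0
  obtain ⟨R₀, rfl⟩ := exists_emb N R hRN
  obtain ⟨R'₀, rfl⟩ := exists_emb N R' hR'mem
  have hB := hreal2 (MvPolynomial (Var (fun _ : ι => N)) K) isSpecial_mv (isLambdaAlg_mv hKb)
    (xU (fun _ : ι => N) K)
  have hf := opg_xU_mem N (emb N R₀) m hR
  rw [opg_xU_emb] at hB hf
  rw [opg_xU_emb] at hB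
  have h1 := gamma_leading m hm _ hf
  have e : unshift (Var (fun _ : ι => N)) K (sigM (fun _ : ι => N) K R'₀) -
      C (cLead K m) * unshift (Var (fun _ : ι => N)) K (sigM (fun _ : ι => N) K R₀) =
      unshift (Var (fun _ : ι => N)) K (sigM (fun _ : ι => N) K
        (R'₀ - algebraMap K _ (cLead K m) * R₀)) := by
    rw [map_sub, map_sub, map_mul, map_mul, AlgHom.commutes, AlgHom.commutes, algebraMap_eq]
  rw [hB, ← algebraMap_cLead (K := K), algebraMap_eq, e, mem_augI_pow_iff, shift_unshift] at h1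
  refine ⟨emb N (R'₀ - algebraMap K _ (cLead K m) * R₀),
    wtGE_emb N _ _ (weight_ge_of_sigM_mem _ _ _ _ h1), ?_⟩
  intro A _ _ _ hA hAK x
  rw [map_sub, map_sub, map_mul, map_mul, AlgHom.commutes, AlgHom.commutes, algebraMap_cLead,
    ← hreal1 A hA hAK x]

end Main

end Groth.Agent.H9.Lambda
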