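import Mathlib
import Groth.Prelude.Def_LambdaSp
import Groth.Agent.Lib.Helper9.Lambda.Transfer

/-!
# The γ-filtration of an augmented `K`-λ-algebra and operations of high weight (helper9)
-/

set_option autoImplicit false

namespace Groth.Agent.H9.Lambda

open Finset MvPolynomial LambdaRing

universe u v

section

variable {K : Type u} [CommRing K] {A : Type v} [CommRing A] [LambdaOps A]

/-- the generators of the `γ`-filtration -/
def filGen (ε : A →+* K) (n : ℕ) : Set A :=
  {y | ∃ l : List (ℕ × A), (∀ p ∈ l, ε p.2 = 0) ∧ n ≤ (l.map Prod.fst).sum ∧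
    y = (l.map fun p => gamma p.1 p.2).prod}

theorem gammaFil_eq (ε : A →+* K) (n : ℕ) : gammaFil ε n = Ideal.span (filGen ε n) := rfl

theorem gammaFil_zero (ε : A →+* K) : gammaFil ε 0 = ⊤ := by
  rw [Ideal.eq_top_iff_one]
  exact Ideal.subset_span ⟨[], by simp, by simp, by simp⟩

theorem gammaFil_antitone (ε : A →+* K) : Antitone (gammaFil ε) := by
  intro a b hab
  apply Ideal.span_mono
  rintro y ⟨l, h1, h2, h3⟩
  exact ⟨l, h1, le_trans hab h2, h3⟩

theorem gammaFil_mul (ε : A →+* K) (a b : ℕ) : gammaFil ε a * gammaFil ε b ≤ gammaFil ε (a + b) := by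
  rw [gammaFil_eq, gammaFil_eq, Ideal.span_mul_span', Ideal.span_le]
  rintro y ⟨y1, ⟨l1, h11, h12, rfl⟩, y2, ⟨l2, h21, h22, rfl⟩, rfl⟩
  refine Ideal.subset_span ⟨l1 ++ l2, ?_, ?_, ?_⟩
  · intro p hp
    rcases List.mem_append.1 hp with h | h
    · exact h11 p h
    · exact h21 p h
  · rw [List.map_append, List.sum_append]
    exact add_le_add h12 h22
  · rw [List.map_append, List.prod_append]

theorem gamma_mem_gammaFil (ε : A →+* K) (x : A) (hx : ε x = 0) (k : ℕ) :
    gamma k x ∈ gammaFil ε k := by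
  refine Ideal.subset_span ⟨[(k, x)], ?_, by simp, by simp⟩
  intro p hp
  rw [List.mem_singleton] at hp
  rw [hp]
  exact hx

end

section

variable {K : Type u} [CommRing K] {A : Type v} [CommRing A] [LambdaOps A] [Algebra K A]

/-- operations of weight `≥ w` applied to elements of augmentation zero land in `Fil^w` -/
theorem opg_mem_gammaFil {ι : Type*} (ε : A →+* K) (x : ι → A) (hx : ∀ i, ε (x i) = 0)
    (R : Ops ι K) (w : ℕ) (hR : WtGE R w) : opg x R ∈ gammaFil ε w :=
  opg_mem_of_wtGE x (gammaFil ε) (gammaFil_zero ε) (gammaFil_mul ε) (gammaFil_antitone ε)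
    (fun i k => gamma_mem_gammaFil ε (x i) (hx i) (k + 1)) R w hR

/-- every element of `Fil^m` is an operation of weight `≥ m` in elements of augmentation zero -/
theorem exists_opg_of_mem_gammaFil (ε : A →ₐ[K] K) (m : ℕ) (z : A)
    (hz : z ∈ gammaFil (ε : A →+* K) m) :
    ∃ R : Ops {a : A // ε a = 0} K, WtGE R m ∧
      opg (fun a : {a : A // ε a = 0} => (a : A)) R = z := by
  have hlist : ∀ l : List (ℕ × A), (∀ p ∈ l, ε p.2 = 0) →
      ∃ R : Ops {a : A // ε a = 0} K, WtGE R (l.map Prod.fst).sum ∧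
        opg (fun a : {a : A // ε a = 0} => (a : A)) R = (l.map fun p => gamma p.1 p.2).prod := by
    intro l
    induction l with
    | nil =>
      intro _
      exact ⟨C 1, by simpa using wtGE_C (1 : K), by simp⟩
    | cons p l ih =>
      intro hl
      obtain ⟨R, hR1, hR2⟩ := ih fun q hq => hl q (List.mem_cons_of_mem _ hq)
      have hp : ε p.2 = 0 := hl p List.mem_cons_self
      rw [List.map_cons, List.sum_cons, List.map_cons, List.prod_cons]
      rcases Nat.eq_zero_or_pos p.1 with h0 | hpos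
      · refine ⟨R, by rw [h0, zero_add]; exact hR1, ?_⟩
        rw [h0, gamma_zero_left, one_mul, hR2]
      · refine ⟨X (⟨p.2, hp⟩, p.1 - 1) * R, ?_, ?_⟩
        · have := (wtGE_X (K := K) (⟨p.2, hp⟩ : {a : A // ε a = 0}) (p.1 - 1)).mul hR1
          have e : p.1 - 1 + 1 = p.1 := by omega
          rwa [e] at this
        · rw [map_mul, opg_X, hR2]
          have e : p.1 - 1 + 1 = p.1 := by omega
          rw [e]
  rw [gammaFil_eq] at hz
  induction hz using Submodule.span_induction with
  | mem y hy =>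
    obtain ⟨l, h1, h2, rfl⟩ := hy
    obtain ⟨R, hR1, hR2⟩ := hlist l h1
    exact ⟨R, hR1.mono h2, hR2⟩
  | zero => exact ⟨0, wtGE_zero m, map_zero _⟩
  | add y1 y2 _ _ h1 h2 =>
    obtain ⟨R1, hR1, rfl⟩ := h1
    obtain ⟨R2, hR2, rfl⟩ := h2
    exact ⟨R1 + R2, hR1.add hR2, map_add _ _ _⟩
  | smul a y _ h =>
    obtain ⟨R, hR, rfl⟩ := h
    have ha : ε (a - algebraMap K A (ε a)) = 0 := by
      rw [map_sub, AlgHom.commutes]
      simp
    refine ⟨(C (ε a) + X (⟨a - algebraMap K A (ε a), ha⟩, 0)) * R, ?_, ?_⟩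
    · have h1 : WtGE (C (ε a) + X ((⟨a - algebraMap K A (ε a), ha⟩ : {a : A // ε a = 0}), 0) :
          Ops {a : A // ε a = 0} K) 0 :=
        (wtGE_C (ε a)).add ((wtGE_X _ 0).mono (Nat.zero_le _))
      have := h1.mul hR
      rwa [zero_add] at this
    · rw [map_mul, map_add, opg_X, gamma_one_left, smul_eq_mul]
      congr 1
      rw [← algebraMap_eq, AlgHom.commutes]
      ring

end

end Groth.Agent.H9.Lambda
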