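import Mathlib
import Groth.Prelude.Def_LambdaSp
import Groth.Agent.Lib.Helper9.Lambda.GammaFil

/-!
# Upper bounds for the γ-filtration from a generating family (helper9)
-/

set_option autoImplicit false

namespace Groth.Agent.H9.Lambda

open Finset MvPolynomial LambdaRing

universe u v w

section

variable {K : Type u} [CommRing K] {A : Type v} [CommRing A] [LambdaOps A]

/-- a multiplicative filtration containing `γ^i(z)` in step `i` for all `z` of augmentation zero
contains the `γ`-filtration -/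
theorem gammaFil_le_of (ε : A →+* K) (W : ℕ → Ideal A) (h0 : W 0 = ⊤)
    (hmul : ∀ i j, W i * W j ≤ W (i + j)) (hanti : Antitone W)
    (hγ : ∀ z, ε z = 0 → ∀ i, 1 ≤ i → gamma i z ∈ W i) (k : ℕ) : gammaFil ε k ≤ W k := by
  rw [gammaFil_eq, Ideal.span_le]
  rintro y ⟨l, h1, h2, rfl⟩
  refine hanti h2 ?_
  clear h2
  induction l with
  | nil => simp [h0]
  | cons p l ih =>
    rw [List.map_cons, List.sum_cons, List.map_cons, List.prod_cons]
    refine hmul _ _ (Ideal.mul_mem_mul ?_ (ih fun q hq => h1 q (List.mem_cons_of_mem _ hq)))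
    rcases Nat.eq_zero_or_pos p.1 with h | h
    · rw [h, gamma_zero_left, h0]; trivial
    · exact hγ p.2 (h1 p List.mem_cons_self) p.1 h

omit [LambdaOps A] in
/-- products of powers in a multiplicative filtration -/
theorem prod_pow_mem_fil (𝔞 : ℕ → Ideal A) (h0 : 𝔞 0 = ⊤) (hmul : ∀ i j, 𝔞 i * 𝔞 j ≤ 𝔞 (i + j))
    {τ : Type*} (S : Finset τ) (f : τ → A) (d e : τ → ℕ) (hf : ∀ t ∈ S, f t ∈ 𝔞 (d t)) :
    ∏ t ∈ S, f t ^ e t ∈ 𝔞 (∑ t ∈ S, d t * e t) := by
  classical
  have hpow : ∀ (y : A) (a e : ℕ), y ∈ 𝔞 a → y ^ e ∈ 𝔞 (a * e) := by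
    intro y a e hy
    induction e with
    | zero => simp [h0]
    | succ e ih =>
      rw [pow_succ, Nat.mul_succ]
      exact hmul _ _ (Ideal.mul_mem_mul ih hy)
  induction S using Finset.induction_on with
  | empty => simp [h0]
  | insert a S ha ih =>
    rw [Finset.prod_insert ha, Finset.sum_insert ha]
    exact hmul _ _ (Ideal.mul_mem_mul (hpow _ _ _ (hf a (Finset.mem_insert_self a S)))
      (ih fun t ht => hf t (Finset.mem_insert_of_mem ht)))

end

section

variable {K : Type u} [CommRing K] [LambdaOps K] [BinomialRing K]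
  {A : Type v} [CommRing A] [LambdaOps A] [Algebra K A]

/-- `γ^i` of an operation without constant term in generators whose `γ^k` lie in `W k` lies in
`W i` -/
theorem gamma_opg_mem (hKb : IsBinomial K) (hA : IsSpecial A) (hAK : IsLambdaAlg K A)
    {ι : Type w} (y : ι → A) (W : ℕ → Ideal A) (h0 : W 0 = ⊤)
    (hmul : ∀ i j, W i * W j ≤ W (i + j)) (hanti : Antitone W)
    (hy : ∀ i k, gamma (k + 1) (y i) ∈ W (k + 1)) (R : Ops ι K) (hR : WtGE R 1)
    (i : ℕ) (hi : 1 ≤ i) : gamma i (opg y R) ∈ W i := by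
  obtain ⟨R', hR', h⟩ := gamma_opg_wtGE.{u, v, w} hKb R 1 le_rfl hR i hi
  rw [h A hA hAK y]
  exact opg_mem_of_wtGE y W h0 hmul hanti hy R' i (hR'.mono (le_max_left _ _))

omit [BinomialRing K] in
/-- an operation in generators of augmentation zero whose value has augmentation zero has no
constant term -/
theorem wtGE_one_of_aug (ε : A →ₐ[K] K)
    (hε : ∀ (n : ℕ) (a : A), ε (LambdaOps.lam n a) = LambdaOps.lam n (ε a))
    {ι : Type w} (y : ι → A) (hy : ∀ i, ε (y i) = 0) (R : Ops ι K) (hz : ε (opg y R) = 0) :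
    WtGE R 1 := by
  classical
  have h1 : ε (opg y R) = constantCoeff R := by
    have : (ε.comp (opg y) : Ops ι K →ₐ[K] K) = aeval (0 : ι × ℕ → K) := by
      apply MvPolynomial.algHom_ext
      intro p
      rw [AlgHom.comp_apply, opg_X, aeval_X]
      have := map_gamma (ε : A →+* K) (fun n a => hε n a) (p.2 + 1) (y p.1)
      simp only [AlgHom.coe_toRingHom] at this
      rw [this, hy, gamma_zero_right _ (by omega)]
      rfl
    have h2 := congrArg (fun f => f R) this
    simp only [AlgHom.comp_apply] at h2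
    rw [h2, aeval_zero]
    rfl
  rw [h1] at hz
  intro μ hμ
  have hne : μ ≠ 0 := by
    rintro rfl
    rw [mem_support_iff] at hμ
    exact hμ hz
  obtain ⟨p, hp⟩ : ∃ p, μ p ≠ 0 := by
    by_contra hcon
    push Not at hcon
    exact hne (Finsupp.ext hcon)
  have h3 := Finsupp.le_weight (wtO (ι := ι)) (s := p) (by simp [wtO]) μ
  omega

end

end Groth.Agent.H9.Lambda

namespace Groth.Agent.H9.Lambda

open Finset MvPolynomial LambdaRing

universe u v w

/-- a λ-homomorphism compatible with augmentations maps `Fil^s` into `Fil^s` -/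
theorem map_mem_gammaFil {K : Type u} [CommRing K] {A : Type v} [CommRing A] [LambdaOps A]
    {B : Type w} [CommRing B] [LambdaOps B] (εA : A →+* K) (εB : B →+* K) (f : A →+* B)
    (hε : ∀ a, εB (f a) = εA a)
    (hf : ∀ n a, f (LambdaOps.lam n a) = LambdaOps.lam n (f a)) (s : ℕ) (a : A)
    (ha : a ∈ gammaFil εA s) : f a ∈ gammaFil εB s := by
  rw [gammaFil_eq] at ha
  induction ha using Submodule.span_induction with
  | mem y hy =>
    obtain ⟨l, h1, h2, rfl⟩ := hy
    refine Ideal.subset_span ⟨l.map fun p => (p.1, f p.2), ?_, ?_, ?_⟩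
    · intro p hp
      rw [List.mem_map] at hp
      obtain ⟨q, hq, rfl⟩ := hp
      rw [hε]
      exact h1 q hq
    · rw [List.map_map]
      exact h2
    · rw [map_list_prod, List.map_map, List.map_map]
      congr 1
      apply List.map_congr_left
      intro p _
      simp only [Function.comp_apply]
      exact map_gamma f hf p.1 p.2
  | zero => rw [map_zero]; exact Ideal.zero_mem _
  | add y1 y2 _ _ h1 h2 => rw [map_add]; exact Ideal.add_mem _ h1 h2
  | smul c y _ h => rw [smul_eq_mul, map_mul]; exact Ideal.mul_mem_left _ _ h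

end Groth.Agent.H9.Lambda
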