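import Mathlib
import Groth.Prelude.Def_LambdaSp
import Groth.Agent.Lib.Helper9.Lambda.GammaSer

/-!
# Every pre-λ-ring with `λ_t(1) = 1 + t` is a λ-algebra over the binomial ring `ℤ` (helper9)
-/

set_option autoImplicit false

namespace Groth.Agent.H9.Lambda

open Finset LambdaRing

universe u

variable {A : Type u} [CommRing A] [LambdaOps A]

theorem lamSeries_one (h1 : ∀ n : ℕ, 2 ≤ n → LambdaOps.lam n (1 : A) = 0) :
    lamSeries (1 : A) = 1 + PowerSeries.X := by
  refine PowerSeries.ext fun n => ?_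
  rw [lamSeries, PowerSeries.coeff_mk, map_add, PowerSeries.coeff_one, PowerSeries.coeff_X]
  rcases n with _ | _ | n
  · simp [LambdaOps.lam_zero]
  · simp [LambdaOps.lam_one]
  · rw [h1 (n + 2) (by omega)]
    simp

theorem lamSeries_intCast (h1 : ∀ n : ℕ, 2 ≤ n → LambdaOps.lam n (1 : A) = 0) (m : ℤ) :
    lamSeries ((m : ℤ) : A) = PowerSeries.binomialSeries A m := by
  have hnat : ∀ k : ℕ, lamSeries ((k : ℕ) : A) = PowerSeries.binomialSeries A (k : ℤ) := by
    intro k
    induction k with
    | zero =>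
      rw [Nat.cast_zero, Nat.cast_zero, lamSeries_zero, PowerSeries.binomialSeries_zero]
    | succ k ih =>
      rw [Nat.cast_succ, Nat.cast_succ, lamSeries_add, ih, PowerSeries.binomialSeries_add,
        lamSeries_one h1]
      congr 1
      have := PowerSeries.binomialSeries_nat (R := ℤ) (A := A) 1
      simpa using this.symm
  rcases Int.eq_nat_or_neg m with ⟨k, rfl | rfl⟩
  · rw [Int.cast_natCast]
    exact hnat k
  · have hf : lamSeries (((-(k : ℤ) : ℤ)) : A) * lamSeries ((k : ℕ) : A) = 1 := by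
      rw [← lamSeries_add, Int.cast_neg, Int.cast_natCast, neg_add_cancel, lamSeries_zero]
    have hg : PowerSeries.binomialSeries A (-(k : ℤ)) * PowerSeries.binomialSeries A (k : ℤ) = 1 := by
      rw [← PowerSeries.binomialSeries_add, neg_add_cancel, PowerSeries.binomialSeries_zero]
    rw [hnat k] at hf
    calc lamSeries (((-(k : ℤ) : ℤ)) : A)
        = lamSeries (((-(k : ℤ) : ℤ)) : A) * (PowerSeries.binomialSeries A (k : ℤ) *
            PowerSeries.binomialSeries A (-(k : ℤ))) := by
          rw [mul_comm (PowerSeries.binomialSeries A (k : ℤ)), hg, mul_one]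
      _ = PowerSeries.binomialSeries A (-(k : ℤ)) := by
          rw [← mul_assoc, hf, one_mul]

theorem lam_intCast (h1 : ∀ n : ℕ, 2 ≤ n → LambdaOps.lam n (1 : A) = 0) (n : ℕ) (m : ℤ) :
    LambdaOps.lam n ((m : ℤ) : A) = ((Ring.choose m n : ℤ) : A) := by
  have h := congrArg (PowerSeries.coeff n) (lamSeries_intCast h1 m)
  rw [lamSeries, PowerSeries.coeff_mk, PowerSeries.binomialSeries_coeff] at h
  rw [h]
  simp

/-- every pre-λ-ring with `λ_t(1) = 1 + t` is a λ-algebra over `ℤ` with its binomial structure -/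
theorem isLambdaAlg_int (h1 : ∀ n : ℕ, 2 ≤ n → LambdaOps.lam n (1 : A) = 0) :
    letI := binomialLambdaOps ℤ
    IsLambdaAlg ℤ A := by
  intro n m
  show algebraMap ℤ A (Ring.choose m n) = LambdaOps.lam n (algebraMap ℤ A m)
  rw [eq_intCast, eq_intCast, lam_intCast h1]

theorem isBinomial_int :
    letI := binomialLambdaOps ℤ
    IsBinomial ℤ := fun _ _ => rfl

end Groth.Agent.H9.Lambda
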