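import Mathlib
import Groth.Prelude.Def_LambdaSp
import Groth.Agent.Lib.Helper9.Lambda.Transfer

/-!
# Division by the top elementary symmetric polynomial of a group of variables (helper9)

If the elementary substitution of `P` is divisible by the product of all the variables of the
group `i₀`, then `P` is divisible by the variable standing for the top elementary symmetric
polynomial of that group.
-/

set_option autoImplicit false

namespace Groth.Agent.H9.Lambda

open Finset MvPolynomial LambdaRing

universe u w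

section Dvd

variable {σ : Type w} {K : Type u} [CommRing K]

/-- a polynomial killed by the substitutions `X_t ↦ 0`, `t ∈ T`, is divisible by `∏_{t ∈ T} X_t` -/
theorem prod_X_dvd_of_zeroAt [DecidableEq σ] (T : Finset σ) (q : MvPolynomial σ K)
    (h : ∀ t ∈ T, zeroAt t q = 0) : (∏ t ∈ T, (X t : MvPolynomial σ K)) ∣ q := by
  have hμ : ∀ μ ∈ q.support, ∀ t ∈ T, μ t ≠ 0 := by
    intro μ hμ t ht h0
    have h3 := coeff_zeroAt t μ h0 q
    rw [h t ht, coeff_zero] at h3
    exact (mem_support_iff.1 hμ) h3.symm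
  have hprod : (∏ t ∈ T, (X t : MvPolynomial σ K)) =
      monomial (∑ t ∈ T, Finsupp.single t 1) (1 : K) := by
    rw [monomial_sum_one]
    rfl
  rw [hprod, ← support_sum_monomial_coeff q]
  refine Finset.dvd_sum fun μ hμ' => ?_
  rw [monomial_dvd_monomial]
  refine ⟨Or.inr ?_, one_dvd _⟩
  intro s
  rw [Finsupp.coe_finsetSum, Finset.sum_apply]
  by_cases hs : s ∈ T
  · rw [Finset.sum_eq_single s]
    · rw [Finsupp.single_eq_same]
      exact Nat.one_le_iff_ne_zero.2 (hμ μ hμ' s hs)
    · intro b _ hb
      rw [Finsupp.single_eq_of_ne hb.symm]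
    · intro h'
      exact absurd hs h'
  · rw [Finset.sum_eq_zero]
    · exact Nat.zero_le _
    · intro b hb
      rw [Finsupp.single_eq_of_ne]
      rintro rfl
      exact hs hb

end Dvd

section Split

variable {σ : Type w} {K : Type u} [CommRing K] [BinomialRing K]

attribute [local instance] mvLambdaOps

omit [BinomialRing K] in
theorem theta_prod_mul [DecidableEq σ] (T : Finset σ) (f : MvPolynomial σ K) (t : σ) (ht : t ∈ T) :
    theta t ((∏ s ∈ T, (X s - 1 : MvPolynomial σ K)) * f) = 0 := by
  rw [map_mul, map_prod, Finset.prod_eq_zero ht, zero_mul]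
  rw [map_sub, theta_X, if_pos rfl, map_one, sub_self]

omit [BinomialRing K] in
/-- any element killed by the `θ_t`, `t ∈ T`, has its shift divisible by `∏_{t ∈ T} X_t` -/
theorem prod_X_dvd_shift [DecidableEq σ] (T : Finset σ) (z : MvPolynomial σ K)
    (h : ∀ t ∈ T, theta t z = 0) : (∏ t ∈ T, (X t : MvPolynomial σ K)) ∣ shift σ K z := by
  refine prod_X_dvd_of_zeroAt T _ fun t ht => ?_
  rw [← shift_theta, h t ht, map_zero]

theorem theta_gamma_prod_mul [DecidableEq σ] (T : Finset σ) (f : MvPolynomial σ K) (n : ℕ)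
    (hn : 1 ≤ n) (t : σ) (ht : t ∈ T) :
    theta t (gamma n ((∏ s ∈ T, (X s - 1 : MvPolynomial σ K)) * f)) = 0 := by
  rw [theta_gamma, theta_prod_mul T f t ht, gamma_zero_right n hn]

theorem theta_lam_prod_mul [DecidableEq σ] (T : Finset σ) (f : MvPolynomial σ K) (n : ℕ)
    (hn : 1 ≤ n) (t : σ) (ht : t ∈ T) :
    theta t (LambdaOps.lam n ((∏ s ∈ T, (X s - 1 : MvPolynomial σ K)) * f)) = 0 := by
  rw [theta_lam, theta_prod_mul T f t ht, lam_zero_right n hn]

end Split

section Trunc

variable {K : Type u} [CommRing K] {ι : Type w} (M : ι → ℕ)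

/-- the embedding of the operations in `M i` variables for the generator `i` -/
noncomputable def embM : MvPolynomial (Var M) K →ₐ[K] Ops ι K :=
  rename (fun v => (v.1, (v.2 : ℕ)))

/-- the truncation of operations to `M i` variables for the generator `i` -/
noncomputable def truncM : Ops ι K →ₐ[K] MvPolynomial (Var M) K :=
  aeval (fun p : ι × ℕ => if h : p.2 < M p.1 then (X (⟨p.1, ⟨p.2, h⟩⟩ : Var M)) else 0)

theorem embM_X (v : Var M) : embM (K := K) M (X v) = X (v.1, (v.2 : ℕ)) := by
  simp [embM]

theorem truncM_X_of_lt (i : ι) (k : ℕ) (h : k < M i) :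
    truncM (K := K) M (X (i, k)) = X (⟨i, ⟨k, h⟩⟩ : Var M) := by
  simp [truncM, h]

theorem truncM_X_of_le (i : ι) (k : ℕ) (h : M i ≤ k) :
    truncM (K := K) M (X (i, k)) = 0 := by
  have : ¬ k < M i := by omega
  simp [truncM, this]

theorem embM_fun_injective :
    Function.Injective (fun v : Var M => (v.1, (v.2 : ℕ))) := by
  rintro ⟨i, s⟩ ⟨j, t⟩ h
  simp only [Prod.mk.injEq] at h
  obtain ⟨rfl, h2⟩ := h
  have : s = t := Fin.ext h2
  rw [this]

theorem wtGE_embM (R₀ : MvPolynomial (Var M) K) (w : ℕ)
    (h : ∀ ν ∈ R₀.support, w ≤ Finsupp.weight (wtV M) ν) : WtGE (embM M R₀) w := by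
  classical
  intro μ hμ
  rw [embM, support_rename_of_injective (embM_fun_injective M)] at hμ
  obtain ⟨ν, hν, rfl⟩ := Finset.mem_image.1 hμ
  have : Finsupp.weight (wtO (ι := ι)) (Finsupp.mapDomain (fun v : Var M => (v.1, (v.2 : ℕ))) ν) =
      Finsupp.weight (wtV M) ν := by
    show Finsupp.linearCombination ℕ _ _ = Finsupp.linearCombination ℕ _ _
    rw [Finsupp.linearCombination_mapDomain]
    rfl
  rw [this]
  exact h ν hν

/-- truncation does not change the value of an operation when the truncated `γ`'s vanish -/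
theorem opg_embM_truncM {A : Type*} [CommRing A] [LambdaOps A] [Algebra K A] (x : ι → A)
    (N₁ : ℕ) (hx : ∀ i k, M i ≤ k → k < N₁ → gamma (k + 1) (x i) = 0) (R : Ops ι K)
    (hR : R ∈ opsLE ι K N₁) : opg x (embM M (truncM M R)) = opg x R := by
  induction hR using Algebra.adjoin_induction with
  | mem p hp =>
    obtain ⟨i, k, hk, rfl⟩ := hp
    by_cases h : k < M i
    · rw [truncM_X_of_lt M i k h, embM_X]
    · rw [truncM_X_of_le M i k (by omega), map_zero, map_zero, opg_X, hx i k (by omega) hk]
  | algebraMap c => rw [AlgHom.commutes, AlgHom.commutes]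
  | add p q _ _ hp hq => rw [map_add, map_add, map_add, map_add, hp, hq]
  | mul p q _ _ hp hq => rw [map_mul, map_mul, map_mul, map_mul, hp, hq]

end Trunc

section TruncU

variable {K : Type u} [CommRing K] [BinomialRing K] {ι : Type w} (M : ι → ℕ)

attribute [local instance] mvLambdaOps

theorem opg_xU_truncM (R : Ops ι K) :
    opg (xU M K) R = unshift (Var M) K (sigM M K (truncM M R)) := by
  have h : (opg (xU M K) : Ops ι K →ₐ[K] MvPolynomial (Var M) K) =
      ((unshift (Var M) K).comp (sigM M K)).comp (truncM M) := by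
    apply MvPolynomial.algHom_ext
    rintro ⟨i, k⟩
    rw [opg_X, gamma_xU, AlgHom.comp_apply, AlgHom.comp_apply]
    by_cases h : k < M i
    · rw [truncM_X_of_lt M i k h]
      simp only [sigM, aeval_X, egrp]
    · rw [truncM_X_of_le M i k (by omega), map_zero, map_zero,
        esymm_eq_zero_of_gt (M i) K (by omega), map_zero, map_zero]
  exact congrArg (fun f => f R) h

theorem opg_xU_mem' (R : Ops ι K) (w : ℕ) (hR : WtGE R w) :
    opg (xU M K) R ∈ augI (Var M) K ^ w := by
  refine opg_mem_of_wtGE (xU M K) (fun i => augI (Var M) K ^ i)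
    (by simp) (fun i j => by rw [pow_add]) (fun a b hab => Ideal.pow_le_pow_right hab)
    (fun i k => gamma_mem_augI_pow _ (xU_mem_augI _ K i) _) R w hR

/-- the weights of the truncation of an operation of weight `≥ w` are `≥ w` -/
theorem weight_truncM (R : Ops ι K) (w : ℕ) (hR : WtGE R w) :
    ∀ ν ∈ (truncM M R).support, w ≤ Finsupp.weight (wtV M) ν := by
  have h1 := opg_xU_mem' M R w hR
  rw [opg_xU_truncM, mem_augI_pow_iff, shift_unshift] at h1
  exact weight_ge_of_sigM_mem M K _ w h1

end TruncU

section Core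

theorem esymm_kill {m' m : ℕ} (h : m' ≤ m) {B : Type*} [CommRing B] (g : Fin m → B)
    (hg : ∀ s : Fin m, m' ≤ (s : ℕ) → g s = 0) (n : ℕ) :
    ∑ t ∈ powersetCard n (univ : Finset (Fin m)), ∏ s ∈ t, g s =
      ∑ t' ∈ powersetCard n (univ : Finset (Fin m')), ∏ s' ∈ t', g (Fin.castLE h s') := by
  classical
  let e : Fin m' ↪ Fin m := Fin.castLEEmb h
  have h1 : ∀ t' : Finset (Fin m'), ∏ s' ∈ t', g (Fin.castLE h s') = ∏ s ∈ t'.map e, g s :=
    fun t' => (Finset.prod_map t' e g).symm
  simp_rw [h1]
  have h2 := Finset.sum_map (powersetCard n (univ : Finset (Fin m')))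
    (Finset.mapEmbedding e).toEmbedding (fun t => ∏ s ∈ t, g s)
  simp only [RelEmbedding.coe_toEmbedding, Finset.mapEmbedding_apply] at h2
  rw [← h2, ← Finset.powersetCard_map]
  symm
  apply Finset.sum_subset (Finset.powersetCard_mono (Finset.subset_univ _))
  intro t ht hnt
  rw [Finset.mem_powersetCard] at ht hnt
  have hns : ¬ t ⊆ univ.map e := fun hsub => hnt ⟨hsub, ht.2⟩
  rw [Finset.not_subset] at hns
  obtain ⟨s, hs, hs'⟩ := hns
  apply Finset.prod_eq_zero hs
  apply hg
  by_contra hlt
  push Not at hlt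
  exact hs' (Finset.mem_map.2 ⟨⟨s, hlt⟩, mem_univ _, Fin.ext rfl⟩)

variable {ι : Type w} (K : Type u) [CommRing K] {M' M : ι → ℕ} (hle : ∀ i, M' i ≤ M i)

/-- the inclusion of the variables -/
def castV (v : Var M') : Var M := ⟨v.1, Fin.castLE (hle v.1) v.2⟩

theorem castV_injective : Function.Injective (castV hle) := by
  rintro ⟨i, s⟩ ⟨j, t⟩ h
  simp only [castV, Sigma.mk.injEq] at h
  obtain ⟨rfl, h2⟩ := h
  have h3 := eq_of_heq h2
  have : s = t := Fin.ext (by simpa using congrArg Fin.val h3)
  rw [this]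

variable (M' M) in
/-- killing the variables beyond `M'` -/
noncomputable def killM : MvPolynomial (Var M) K →ₐ[K] MvPolynomial (Var M) K :=
  aeval (fun v : Var M => if (v.2 : ℕ) < M' v.1 then X v else 0)

theorem killM_X_castV (v' : Var M') : killM K M' M (X (castV hle v')) = X (castV hle v') := by
  have : ((castV hle v').2 : ℕ) < M' (castV hle v').1 := v'.2.2
  simp [killM, this]

theorem killM_rename (p : MvPolynomial (Var M') K) :
    killM K M' M (rename (castV hle) p) = rename (castV hle) p := by
  induction p using MvPolynomial.induction_on with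
  | C a => simp [killM]
  | add p q hp hq => rw [map_add, map_add, hp, hq]
  | mul_X p v hp => rw [map_mul, map_mul, hp, rename_X, killM_X_castV]

theorem killM_egrp (v' : Var M') :
    killM K M' M (egrp M K (castV hle v')) = rename (castV hle) (egrp M' K v') := by
  obtain ⟨i, s⟩ := v'
  show killM K M' M (rename (mkV M i) (esymm (Fin (M i)) K ((s : ℕ) + 1))) =
    rename (castV hle) (rename (mkV M' i) (esymm (Fin (M' i)) K ((s : ℕ) + 1)))
  simp only [esymm, map_sum, map_prod, rename_X]
  rw [esymm_kill (hle i) (fun t => killM K M' M (X (mkV M i t))) ?_ ((s : ℕ) + 1)]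
  · refine Finset.sum_congr rfl fun t' _ => Finset.prod_congr rfl fun s' _ => ?_
    exact killM_X_castV K hle (mkV M' i s')
  · intro t ht
    have : ¬ (((mkV M i t).2 : ℕ) < M' (mkV M i t).1) := by
      show ¬ ((t : ℕ) < M' i)
      omega
    simp [killM, this]

theorem killM_sigM_rename (p : MvPolynomial (Var M') K) :
    killM K M' M (sigM M K (rename (castV hle) p)) = rename (castV hle) (sigM M' K p) := by
  induction p using MvPolynomial.induction_on with
  | C a => simp [killM, sigM]
  | add p q hp hq => simp only [map_add, hp, hq]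
  | mul_X p v hp =>
    simp only [map_mul, hp, rename_X]
    congr 1
    simp only [sigM, aeval_X]
    exact killM_egrp K hle v

end Core

section CoreLemma

variable {ι : Type w} (K : Type u) [CommRing K] (M : ι → ℕ) (i₀ : ι) (d : ℕ) (hM : M i₀ = d + 1)

/-- the variable standing for the top elementary symmetric polynomial of the group `i₀` -/
def vTop : Var M := ⟨i₀, ⟨d, by omega⟩⟩

/-- the top elementary symmetric polynomial is the product of the variables -/
theorem egrp_vTop : egrp M K (vTop M i₀ d hM) = ∏ s : Fin (M i₀), X (mkV M i₀ s) := by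
  show rename (mkV M i₀) (esymm (Fin (M i₀)) K (d + 1)) = _
  have h1 : d + 1 = (univ : Finset (Fin (M i₀))).card := by simp [hM]
  rw [esymm, h1, Finset.powersetCard_self, Finset.sum_singleton, map_prod]
  simp only [rename_X]

/-- **division by the top variable**: if the elementary substitution of `P` is divisible by the
top elementary symmetric polynomial of the group `i₀`, then `P` is divisible by the variable
standing for it -/
theorem exists_eq_X_mul_of_dvd (P : MvPolynomial (Var M) K)
    (hdiv : egrp M K (vTop M i₀ d hM) ∣ sigM M K P) :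
    ∃ P₁ : MvPolynomial (Var M) K, P = X (vTop M i₀ d hM) * P₁ := by
  classical
  set M' : ι → ℕ := Function.update M i₀ d with hM'
  have hM'0 : M' i₀ = d := by simp [hM']
  have hM'1 : ∀ i, i ≠ i₀ → M' i = M i := fun i hi => by simp [hM', hi]
  have hle : ∀ i, M' i ≤ M i := by
    intro i
    by_cases hi : i = i₀
    · subst hi; omega
    · rw [hM'1 i hi]
  set v₀ := vTop M i₀ d hM with hv₀
  have hcover : ∀ v : Var M, v = v₀ ∨ ∃ v' : Var M', castV hle v' = v := by
    rintro ⟨i, s⟩
    by_cases hi : i = i₀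
    · subst hi
      by_cases hs : (s : ℕ) = d
      · left
        have : s = ⟨d, by omega⟩ := Fin.ext hs
        rw [this]
        rfl
      · right
        have hs' : (s : ℕ) < M' i := by have := s.2; omega
        exact ⟨⟨i, ⟨s, hs'⟩⟩, rfl⟩
    · right
      have hs' : (s : ℕ) < M' i := by rw [hM'1 i hi]; exact s.2
      exact ⟨⟨i, ⟨s, hs'⟩⟩, rfl⟩
  have hkill0 : killM K M' M (X v₀) = 0 := by
    have : ¬ ((v₀.2 : ℕ) < M' v₀.1) := by
      show ¬ (d < M' i₀)
      omega
    simp [killM, this]
  have hkille : killM K M' M (egrp M K v₀) = 0 := by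
    rw [hv₀, egrp_vTop K M i₀ d hM, map_prod]
    apply Finset.prod_eq_zero (Finset.mem_univ (⟨d, by omega⟩ : Fin (M i₀)))
    exact hkill0
  have hdec : ∀ P : MvPolynomial (Var M) K, ∃ (P₀ : MvPolynomial (Var M') K)
      (P₁ : MvPolynomial (Var M) K), P = rename (castV hle) P₀ + X v₀ * P₁ := by
    intro P
    induction P using MvPolynomial.induction_on with
    | C a => exact ⟨C a, 0, by simp⟩
    | add p q hp hq =>
      obtain ⟨p0, p1, rfl⟩ := hp
      obtain ⟨q0, q1, rfl⟩ := hq
      exact ⟨p0 + q0, p1 + q1, by rw [map_add]; ring⟩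
    | mul_X p v hp =>
      obtain ⟨p0, p1, rfl⟩ := hp
      rcases hcover v with rfl | ⟨v', rfl⟩
      · exact ⟨0, rename (castV hle) p0 + X v₀ * p1, by rw [map_zero]; ring⟩
      · exact ⟨p0 * X v', p1 * X (castV hle v'), by rw [map_mul, rename_X]; ring⟩
  obtain ⟨P₀, P₁, rfl⟩ := hdec P
  refine ⟨P₁, ?_⟩
  have h1 : sigM M K (rename (castV hle) P₀ + X v₀ * P₁) =
      sigM M K (rename (castV hle) P₀) + egrp M K v₀ * sigM M K P₁ := by
    rw [map_add, map_mul]
    congr 2
    simp [sigM]
  rw [h1] at hdiv
  have h2 : egrp M K v₀ ∣ sigM M K (rename (castV hle) P₀) :=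
    (dvd_add_left (dvd_mul_right _ _)).1 hdiv
  obtain ⟨g, hg⟩ := h2
  have h3 := congrArg (killM K M' M) hg
  rw [killM_sigM_rename, map_mul, hkille, zero_mul] at h3
  have h4 : sigM M' K P₀ = 0 :=
    rename_injective _ (castV_injective hle) (by rw [h3, map_zero])
  have h5 : P₀ = 0 := sigM_injective M' K (by rw [h4, map_zero])
  rw [h5, map_zero, zero_add]

end CoreLemma

end Groth.Agent.H9.Lambda
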