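import Mathlib
import Groth.Prelude.Def_LambdaSp
import Groth.Agent.Lib.Helper9.Lambda.GammaSer

/-!
# The γ-operations of `N - d` for an element `N` of rank `d` (helper9)
-/

set_option autoImplicit false

namespace Groth.Agent.H9.Lambda

open Finset LambdaRing

universe u

variable {A : Type u} [CommRing A] [LambdaOps A]

theorem gamma_one_right (h1 : ∀ n : ℕ, 2 ≤ n → LambdaOps.lam n (1 : A) = 0) (n : ℕ) :
    gamma n (1 : A) = 1 := by
  rcases Nat.eq_zero_or_pos n with rfl | hn
  · exact gamma_zero_left _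
  · rw [gamma, if_neg (by omega), Finset.sum_eq_single 1]
    · simp [LambdaOps.lam_one]
    · intro j _ hj
      by_cases h0 : j = 0
      · simp [h0]
      · rw [if_neg h0, h1 j (by omega), mul_zero]
    · intro h
      exact absurd (Finset.mem_range.2 (by omega)) h

theorem gSer_one (h1 : ∀ n : ℕ, 2 ≤ n → LambdaOps.lam n (1 : A) = 0) :
    gSer (1 : A) = PowerSeries.mk 1 := by
  refine PowerSeries.ext fun n => ?_
  rw [coeff_gSer, gamma_one_right h1, PowerSeries.coeff_mk]
  rfl

theorem gSer_zero' : gSer (0 : A) = 1 := by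
  refine PowerSeries.ext fun n => ?_
  rw [coeff_gSer]
  rcases Nat.eq_zero_or_pos n with rfl | hn
  · simp [gamma_zero_left]
  · rw [gamma_zero_right n hn, PowerSeries.coeff_one, if_neg (by omega)]

theorem gSer_natCast (h1 : ∀ n : ℕ, 2 ≤ n → LambdaOps.lam n (1 : A) = 0) (d : ℕ) :
    gSer ((d : ℕ) : A) = PowerSeries.mk 1 ^ d := by
  induction d with
  | zero => simp [gSer_zero']
  | succ d ih => rw [Nat.cast_succ, gSer_add, ih, gSer_one h1, pow_succ]

theorem gSer_sub_natCast (h1 : ∀ n : ℕ, 2 ≤ n → LambdaOps.lam n (1 : A) = 0) (N : A) (d : ℕ) :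
    gSer (N - (d : A)) = gSer N * (1 - PowerSeries.X) ^ d := by
  have h2 : gSer N = gSer (N - (d : A)) * PowerSeries.mk 1 ^ d := by
    rw [← gSer_natCast h1, ← gSer_add, sub_add_cancel]
  rw [h2, mul_assoc, ← mul_pow, PowerSeries.mk_one_mul_one_sub_eq_one, one_pow, mul_one]

/-- the polynomial `λ_t(N)` of an element of rank `d` -/
noncomputable def lamPoly (N : A) (d : ℕ) : Polynomial A :=
  ∑ i ∈ range (d + 1), Polynomial.C (LambdaOps.lam i N) * Polynomial.X ^ i

theorem lamPoly_coe (N : A) (d : ℕ) (hN : ∀ i : ℕ, d < i → LambdaOps.lam i N = 0) :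
    ((lamPoly N d : Polynomial A) : PowerSeries A) = lamSeries N := by
  refine PowerSeries.ext fun n => ?_
  rw [Polynomial.coeff_coe, lamPoly, Polynomial.finsetSum_coeff, lamSeries, PowerSeries.coeff_mk]
  simp only [Polynomial.coeff_C_mul_X_pow]
  by_cases hn : n ≤ d
  · rw [Finset.sum_eq_single n]
    · simp
    · intro b _ hb
      rw [if_neg (Ne.symm hb)]
    · intro h
      exact absurd (Finset.mem_range.2 (by omega)) h
  · rw [hN n (by omega)]
    apply Finset.sum_eq_zero
    intro b hb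
    rw [Finset.mem_range] at hb
    rw [if_neg (by omega)]

theorem gSer_of_rank (N : A) (d : ℕ) (hN : ∀ i : ℕ, d < i → LambdaOps.lam i N = 0) :
    gSer N = ∑ i ∈ range (d + 1), PowerSeries.C (LambdaOps.lam i N) * a0 A ^ i := by
  rw [gSer, ← lamPoly_coe N d hN, PowerSeries.subst_coe hasSubst_a0, lamPoly, map_sum]
  refine Finset.sum_congr rfl fun i _ => ?_
  rw [map_mul, map_pow, Polynomial.aeval_X, Polynomial.aeval_C]
  rfl

/-- the polynomial `γ_t(N - d)` of an element of rank `d` -/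
noncomputable def gamPoly (N : A) (d : ℕ) : Polynomial A :=
  ∑ i ∈ range (d + 1), Polynomial.C (LambdaOps.lam i N) *
    (Polynomial.X ^ i * (1 - Polynomial.X) ^ (d - i))

theorem gSer_rank_sub (h1 : ∀ n : ℕ, 2 ≤ n → LambdaOps.lam n (1 : A) = 0) (N : A) (d : ℕ)
    (hN : ∀ i : ℕ, d < i → LambdaOps.lam i N = 0) :
    gSer (N - (d : A)) = ((gamPoly N d : Polynomial A) : PowerSeries A) := by
  rw [gSer_sub_natCast h1, gSer_of_rank N d hN, gamPoly, Finset.sum_mul]
  rw [← Polynomial.coeToPowerSeries.ringHom_apply, map_sum]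
  refine Finset.sum_congr rfl fun i hi => ?_
  rw [Finset.mem_range] at hi
  simp only [Polynomial.coeToPowerSeries.ringHom_apply, Polynomial.coe_mul, Polynomial.coe_C,
    Polynomial.coe_pow, Polynomial.coe_X, Polynomial.coe_sub, Polynomial.coe_one]
  have e : d = i + (d - i) := by omega
  have h2 : a0 A ^ i * (1 - PowerSeries.X) ^ d =
      PowerSeries.X ^ i * (1 - PowerSeries.X) ^ (d - i) := by
    have h3 : (PowerSeries.mk 1 : PowerSeries A) ^ i * (1 - PowerSeries.X) ^ i = 1 := by
      rw [← mul_pow, PowerSeries.mk_one_mul_one_sub_eq_one, one_pow]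
    conv_lhs => rw [e, pow_add, a0, mul_pow]
    calc _ = (PowerSeries.X : PowerSeries A) ^ i * ((PowerSeries.mk 1 : PowerSeries A) ^ i *
          (1 - PowerSeries.X) ^ i) * (1 - PowerSeries.X) ^ (d - i) := by ring
      _ = _ := by rw [h3, mul_one]
  rw [mul_assoc, h2]

theorem natDegree_one_sub_X_le : (1 - Polynomial.X : Polynomial A).natDegree ≤ 1 := by
  refine le_trans (Polynomial.natDegree_sub_le _ _) ?_
  rw [Polynomial.natDegree_one]
  exact max_le (Nat.zero_le _) Polynomial.natDegree_X_le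

theorem natDegree_gamPoly_le (N : A) (d : ℕ) : (gamPoly N d).natDegree ≤ d := by
  refine Polynomial.natDegree_sum_le_of_forall_le _ _ fun i hi => ?_
  rw [Finset.mem_range] at hi
  refine le_trans (Polynomial.natDegree_C_mul_le _ _) ?_
  refine le_trans Polynomial.natDegree_mul_le ?_
  have h1 : (Polynomial.X ^ i : Polynomial A).natDegree ≤ i := Polynomial.natDegree_X_pow_le i
  have h2 : ((1 - Polynomial.X : Polynomial A) ^ (d - i)).natDegree ≤ (d - i) * 1 :=
    le_trans Polynomial.natDegree_pow_le (Nat.mul_le_mul_left _ natDegree_one_sub_X_le)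
  omega

theorem coeff_gamPoly_top (N : A) (d : ℕ) :
    (gamPoly N d).coeff d = ∑ i ∈ range (d + 1), (-1 : A) ^ (d - i) * LambdaOps.lam i N := by
  rw [gamPoly, Polynomial.finsetSum_coeff]
  refine Finset.sum_congr rfl fun i hi => ?_
  rw [Finset.mem_range] at hi
  rw [Polynomial.coeff_C_mul, Polynomial.coeff_X_pow_mul', if_pos (by omega)]
  have h := Polynomial.coeff_pow_of_natDegree_le (m := d - i) (natDegree_one_sub_X_le (A := A))
  rw [mul_one] at h
  rw [h, Polynomial.coeff_sub, Polynomial.coeff_one, Polynomial.coeff_X_one]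
  simp [mul_comm]

/-- `γ^k(N - d) = 0` for `k > d` when `N` has rank `d` -/
theorem gamma_rank_eq_zero (h1 : ∀ n : ℕ, 2 ≤ n → LambdaOps.lam n (1 : A) = 0) (N : A) (d : ℕ)
    (hN : ∀ i : ℕ, d < i → LambdaOps.lam i N = 0) (k : ℕ) (hk : d < k) :
    gamma k (N - (d : A)) = 0 := by
  rw [← coeff_gSer, gSer_rank_sub h1 N d hN, Polynomial.coeff_coe]
  exact Polynomial.coeff_eq_zero_of_natDegree_lt (lt_of_le_of_lt (natDegree_gamPoly_le N d) hk)

/-- `λ_{-1}(N) = (-1)^d γ^d(N - d)` when `N` has rank `d` -/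
theorem gamma_rank_top (h1 : ∀ n : ℕ, 2 ≤ n → LambdaOps.lam n (1 : A) = 0) (N : A) (d : ℕ)
    (hN : ∀ i : ℕ, d < i → LambdaOps.lam i N = 0) :
    ∑ j ∈ range (d + 1), (-1 : A) ^ j * LambdaOps.lam j N = (-1) ^ d * gamma d (N - (d : A)) := by
  rw [← coeff_gSer, gSer_rank_sub h1 N d hN, Polynomial.coeff_coe, coeff_gamPoly_top,
    Finset.mul_sum]
  refine Finset.sum_congr rfl fun i hi => ?_
  rw [Finset.mem_range] at hi
  rw [← mul_assoc, ← pow_add]
  congr 1
  have e : d + (d - i) = 2 * (d - i) + i := by omega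
  rw [e, pow_add, pow_mul]
  simp

end Groth.Agent.H9.Lambda
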