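import Mathlib
import Groth.Prelude.Def_LambdaSp
import Groth.Agent.Lib.Helper9.Lambda.RankDiv

/-!
# Division of operations by the top γ-operation of an element of finite rank (helper9)
-/

set_option autoImplicit false

namespace Groth.Agent.H9.Lambda

open Finset MvPolynomial LambdaRing

universe u v w

section SplitRing

variable {K : Type u} [CommRing K] [BinomialRing K] {ι : Type w} [DecidableEq ι]
  (M : ι → ℕ) (i₀ : ι) (d : ℕ) (hM : M i₀ = d + 1)

attribute [local instance] mvLambdaOps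

omit [BinomialRing K] [DecidableEq ι] in
theorem unshift_egrp_vTop :
    unshift (Var M) K (egrp M K (vTop M i₀ d hM)) = ∏ s : Fin (M i₀), (X (mkV M i₀ s) - 1) := by
  rw [egrp_vTop, map_prod]
  simp only [unshift_X]

omit [BinomialRing K] [DecidableEq ι] in
theorem mkV_injective : Function.Injective (mkV M i₀) := by
  intro s t h
  simp only [mkV, Sigma.mk.injEq, heq_eq_eq, true_and] at h
  exact h

omit [BinomialRing K] in
/-- an element killed by the `θ` of the variables of the group `i₀` has its shift divisible by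
the product of these variables -/
theorem egrp_dvd_shift_of (z : MvPolynomial (Var M) K)
    (h : ∀ s : Fin (M i₀), theta (mkV M i₀ s) z = 0) :
    egrp M K (vTop M i₀ d hM) ∣ shift (Var M) K z := by
  have h1 := prod_X_dvd_shift (Finset.univ.map ⟨mkV M i₀, mkV_injective M i₀⟩) z (by
    intro t ht
    obtain ⟨s, _, rfl⟩ := Finset.mem_map.1 ht
    exact h s)
  rw [Finset.prod_map] at h1
  rw [egrp_vTop]
  exact h1

omit [BinomialRing K] in
theorem theta_unshift_egrp_mul (f : MvPolynomial (Var M) K) (s : Fin (M i₀)) :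
    theta (mkV M i₀ s) (unshift (Var M) K (egrp M K (vTop M i₀ d hM)) * f) = 0 := by
  rw [unshift_egrp_vTop, map_mul, map_prod, Finset.prod_eq_zero (Finset.mem_univ s), zero_mul]
  rw [map_sub, theta_X, if_pos rfl, map_one, sub_self]

end SplitRing

section Main

variable {K : Type u} [CommRing K] [LambdaOps K] [BinomialRing K] {ι : Type w} [DecidableEq ι]

attribute [local instance] mvLambdaOps

/-- `M i₀ = d + 1` and `M i = N₁` otherwise -/
def Mof (i₀ : ι) (d N₁ : ℕ) : ι → ℕ := Function.update (fun _ => N₁) i₀ (d + 1)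

omit [LambdaOps K] [BinomialRing K] in
theorem Mof_self (i₀ : ι) (d N₁ : ℕ) : Mof i₀ d N₁ i₀ = d + 1 := by simp [Mof]

theorem Mof_ne (i₀ : ι) (d N₁ : ℕ) (i : ι) (hi : i ≠ i₀) : Mof i₀ d N₁ i = N₁ := by
  simp [Mof, hi]

omit [LambdaOps K] in
/-- **division criterion**: an operation of weight `≥ W` whose values in the universal rings with
`d + 1` line elements for the generator `i₀` are divisible by the top `γ`-operation is the product
of `γ^{d+1}(x_{i₀})` and an operation of weight `≥ W - (d + 1)`, on all elements `x_{i₀}` with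
`γ^k(x_{i₀}) = 0` for `k > d + 1` -/
theorem div_core (i₀ : ι) (d : ℕ) (R' : Ops ι K) (W : ℕ) (hW : WtGE R' W)
    (hdiv : ∀ N₁ : ℕ, egrp (Mof i₀ d N₁) K (vTop (Mof i₀ d N₁) i₀ d (Mof_self i₀ d N₁)) ∣
      shift _ K (opg (xU (Mof i₀ d N₁) K) R')) :
    ∃ G : Ops ι K, WtGE G (W - (d + 1)) ∧
      ∀ (A : Type v) [CommRing A] [LambdaOps A] [Algebra K A] (x : ι → A),
        (∀ k, d + 1 ≤ k → gamma (k + 1) (x i₀) = 0) →
          opg x R' = gamma (d + 1) (x i₀) * opg x G := by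
  obtain ⟨N₀, hN₀⟩ := exists_opsLE R'
  set M := Mof i₀ d N₀ with hMdef
  have hM : M i₀ = d + 1 := Mof_self i₀ d N₀
  set T := truncM M R' with hT
  have hs : sigM M K T = shift _ K (opg (xU M K) R') := by
    rw [opg_xU_truncM, shift_unshift]
  have hd := hdiv N₀
  rw [← hs] at hd
  obtain ⟨P₁, hP₁⟩ := exists_eq_X_mul_of_dvd K M i₀ d hM T hd
  have hTw := weight_truncM M R' W hW
  refine ⟨embM M P₁, wtGE_embM M P₁ _ ?_, ?_⟩
  · intro ν hν
    have h1 : Finsupp.single (vTop M i₀ d hM) 1 + ν ∈ T.support := by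
      rw [hP₁, support_X_mul]
      exact Finset.mem_map.2 ⟨ν, hν, rfl⟩
    have h2 := hTw _ h1
    rw [map_add, Finsupp.weight_single] at h2
    have h3 : wtV M (vTop M i₀ d hM) = d + 1 := rfl
    rw [h3] at h2
    simp only [smul_eq_mul] at h2
    omega
  · intro A _ _ _ x hx
    have h1 := opg_embM_truncM M x N₀ (by
      intro i k hk1 hk2
      by_cases hi : i = i₀
      · subst hi
        exact hx k (by rw [hM] at hk1; exact hk1)
      · rw [hMdef, Mof_ne i₀ d N₀ i hi] at hk1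
        omega) R' hN₀
    rw [← h1, ← hT, hP₁, map_mul, map_mul, embM_X, opg_X]
    rfl

omit [DecidableEq ι] in
/-- `γ^n` of an operation, with weights, realized in two universes -/
theorem gamma_opg_wtGE2 (hKb : IsBinomial K) (R : Ops ι K) (w : ℕ) (hw : 1 ≤ w) (hR : WtGE R w)
    (n : ℕ) (hn : 1 ≤ n) :
    ∃ R' : Ops ι K, WtGE R' (max n w) ∧ RealizesG.{u, v, w} n R R' ∧
      RealizesG.{u, max u w, w} n R R' := by
  obtain ⟨M0, hM0⟩ := exists_opsLE R
  obtain ⟨R', hR'mem, hreal1, hreal2⟩ := closureG.{u, v, max u w, w} hKb M0 R hM0 n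
  refine ⟨R', ?_, hreal1, hreal2⟩
  set N := n * M0 with hN
  have hRN : R ∈ opsLE ι K N := opsLE_mono (Nat.le_mul_of_pos_left M0 hn) hM0
  obtain ⟨R₀, rfl⟩ := exists_emb N R hRN
  obtain ⟨R'₀, rfl⟩ := exists_emb N R' hR'mem
  have hB := hreal2 (MvPolynomial (Var (fun _ : ι => N)) K) isSpecial_mv (isLambdaAlg_mv hKb)
    (xU (fun _ : ι => N) K)
  have hf := opg_xU_mem N (emb N R₀) w hR
  rw [opg_xU_emb] at hB hf
  rw [opg_xU_emb] at hB
  have h1 : gamma n (unshift (Var (fun _ : ι => N)) K (sigM (fun _ : ι => N) K R₀)) ∈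
      augI (Var (fun _ : ι => N)) K ^ (max n w) := by
    rcases le_total n w with h | h
    · rw [max_eq_right h]
      exact gamma_mem_augI_pow_of_mem w _ hf n hn
    · rw [max_eq_left h]
      refine gamma_mem_augI_pow _ ?_ n
      have := Ideal.pow_le_pow_right hw hf
      rwa [pow_one] at this
  rw [hB, mem_augI_pow_iff, shift_unshift] at h1
  exact wtGE_emb N R'₀ _ (weight_ge_of_sigM_mem _ _ R'₀ _ h1)

omit [DecidableEq ι] in
/-- the leading term of `γ^m` on operations of weight `≥ m`, realized in two universes -/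
theorem gamma_opg_leading2 (hKb : IsBinomial K) (R : Ops ι K) (m : ℕ) (hm : 1 ≤ m)
    (hR : WtGE R m) :
    ∃ R'' : Ops ι K, WtGE R'' (m + 1) ∧
      (∀ (A : Type v) [CommRing A] [LambdaOps A] [Algebra K A], IsSpecial A → IsLambdaAlg K A →
        ∀ x : ι → A, gamma m (opg x R) - cLead A m * opg x R = opg x R'') ∧
      (∀ (A : Type (max u w)) [CommRing A] [LambdaOps A] [Algebra K A], IsSpecial A →
        IsLambdaAlg K A →
        ∀ x : ι → A, gamma m (opg x R) - cLead A m * opg x R = opg x R'') := by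
  obtain ⟨M0, hM0⟩ := exists_opsLE R
  obtain ⟨R', hR'mem, hreal1, hreal2⟩ := closureG.{u, v, max u w, w} hKb M0 R hM0 m
  set N := m * M0 with hN
  have hRN : R ∈ opsLE ι K N := opsLE_mono (Nat.le_mul_of_pos_left M0 hm) hM0
  obtain ⟨R₀, rfl⟩ := exists_emb N R hRN
  obtain ⟨R'₀, rfl⟩ := exists_emb N R' hR'mem
  have hB := hreal2 (MvPolynomial (Var (fun _ : ι => N)) K) isSpecial_mv (isLambdaAlg_mv hKb)
    (xU (fun _ : ι => N) K)
  have hf := opg_xU_mem N (emb N R₀) m hR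
  rw [opg_xU_emb] at hB hf
  rw [opg_xU_emb] at hB
  have h1 := gamma_leading m hm _ hf
  have e : unshift (Var (fun _ : ι => N)) K (sigM (fun _ : ι => N) K R'₀) -
      C (cLead K m) * unshift (Var (fun _ : ι => N)) K (sigM (fun _ : ι => N) K R₀) =
      unshift (Var (fun _ : ι => N)) K (sigM (fun _ : ι => N) K
        (R'₀ - algebraMap K _ (cLead K m) * R₀)) := by
    rw [map_sub, map_sub, map_mul, map_mul, AlgHom.commutes, AlgHom.commutes, algebraMap_eq]
  rw [hB, ← algebraMap_cLead (K := K), algebraMap_eq, e, mem_augI_pow_iff, shift_unshift] at h1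
  refine ⟨emb N (R'₀ - algebraMap K _ (cLead K m) * R₀),
    wtGE_emb N _ _ (weight_ge_of_sigM_mem _ _ _ _ h1), ?_, ?_⟩
  · intro A _ _ _ hA hAK x
    rw [map_sub, map_sub, map_mul, map_mul, AlgHom.commutes, AlgHom.commutes, algebraMap_cLead,
      ← hreal1 A hA hAK x]
  · intro A _ _ _ hA hAK x
    rw [map_sub, map_sub, map_mul, map_mul, AlgHom.commutes, AlgHom.commutes, algebraMap_cLead,
      ← hreal2 A hA hAK x]

omit [DecidableEq ι] in
/-- `λ^n` of an operation in `γ`-coordinates is an operation in `γ`-coordinates -/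
theorem closureLG (hKb : IsBinomial K) (R : Ops ι K) (n : ℕ) :
    ∃ R' : Ops ι K,
      (∀ (A : Type v) [CommRing A] [LambdaOps A] [Algebra K A], IsSpecial A → IsLambdaAlg K A →
        ∀ x : ι → A, LambdaOps.lam n (opg x R) = opg x R') ∧
      (∀ (A : Type (max u w)) [CommRing A] [LambdaOps A] [Algebra K A], IsSpecial A →
        IsLambdaAlg K A → ∀ x : ι → A, LambdaOps.lam n (opg x R) = opg x R') := by
  obtain ⟨M0, hM0⟩ := exists_opsLE R
  obtain ⟨Rn, hRn1, hRn2, hRn3⟩ :=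
    closure_aux.{u, v, max u w, w} hKb M0 (Theta R) (Theta_mem R hM0) n
  obtain ⟨R', _, hR'2⟩ := exists_Theta Rn hRn1
  refine ⟨R', ?_, ?_⟩
  · intro A _ _ _ hA hAK x
    rw [opg_eq, opg_eq, hR'2, hRn2 A hA hAK x]
  · intro A _ _ _ hA hAK x
    rw [opg_eq, opg_eq, hR'2, hRn3 A hA hAK x]

omit [LambdaOps K] [DecidableEq ι] in
theorem opg_xU_X_mul (M : ι → ℕ) (i₀ : ι) (d : ℕ) (hM : M i₀ = d + 1) (F : Ops ι K) :
    opg (xU M K) (X (i₀, d) * F) =
      unshift (Var M) K (egrp M K (vTop M i₀ d hM)) * opg (xU M K) F := by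
  rw [map_mul, opg_X, gamma_xU]
  rfl

/-- **division of `γ^n`**: `γ^n(γ^{d+1}(x_{i₀}) · F)` is `γ^{d+1}(x_{i₀})` times an operation of
weight `≥ max n w - (d + 1)`, when `γ^k(x_{i₀}) = 0` for `k > d + 1` -/
theorem gamma_div (hKb : IsBinomial K) (i₀ : ι) (d : ℕ) (F : Ops ι K) (w : ℕ) (hw : 1 ≤ w)
    (hR : WtGE (X (i₀, d) * F) w) (n : ℕ) (hn : 1 ≤ n) :
    ∃ G : Ops ι K, WtGE G (max n w - (d + 1)) ∧
      ∀ (A : Type v) [CommRing A] [LambdaOps A] [Algebra K A], IsSpecial A → IsLambdaAlg K A →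
        ∀ x : ι → A, (∀ k, d + 1 ≤ k → gamma (k + 1) (x i₀) = 0) →
          gamma n (opg x (X (i₀, d) * F)) = gamma (d + 1) (x i₀) * opg x G := by
  obtain ⟨R', hR', hr1, hr2⟩ := gamma_opg_wtGE2.{u, v, w} hKb _ w hw hR n hn
  obtain ⟨G, hG, hG2⟩ := div_core.{u, v, w} i₀ d R' (max n w) hR' (by
    intro N₁
    have h1 := hr2 (MvPolynomial (Var (Mof i₀ d N₁)) K) isSpecial_mv (isLambdaAlg_mv hKb)
      (xU (Mof i₀ d N₁) K)
    rw [← h1, opg_xU_X_mul _ i₀ d (Mof_self i₀ d N₁)]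
    apply egrp_dvd_shift_of
    intro s
    rw [theta_gamma, theta_unshift_egrp_mul, gamma_zero_right n hn])
  refine ⟨G, hG, ?_⟩
  intro A _ _ _ hA hAK x hx
  rw [hr1 A hA hAK x, hG2 A x hx]

/-- **division of the leading term** -/
theorem gamma_div_leading (hKb : IsBinomial K) (i₀ : ι) (d : ℕ) (F : Ops ι K) (m : ℕ) (hm : 1 ≤ m)
    (hR : WtGE (X (i₀, d) * F) m) :
    ∃ G : Ops ι K, WtGE G (m + 1 - (d + 1)) ∧
      ∀ (A : Type v) [CommRing A] [LambdaOps A] [Algebra K A], IsSpecial A → IsLambdaAlg K A →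
        ∀ x : ι → A, (∀ k, d + 1 ≤ k → gamma (k + 1) (x i₀) = 0) →
          gamma m (opg x (X (i₀, d) * F)) - cLead A m * opg x (X (i₀, d) * F) =
            gamma (d + 1) (x i₀) * opg x G := by
  obtain ⟨R', hR', hr1, hr2⟩ := gamma_opg_leading2.{u, v, w} hKb _ m hm hR
  obtain ⟨G, hG, hG2⟩ := div_core.{u, v, w} i₀ d R' (m + 1) hR' (by
    intro N₁
    have h1 := hr2 (MvPolynomial (Var (Mof i₀ d N₁)) K) isSpecial_mv (isLambdaAlg_mv hKb)
      (xU (Mof i₀ d N₁) K)
    rw [← h1, opg_xU_X_mul _ i₀ d (Mof_self i₀ d N₁)]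
    apply egrp_dvd_shift_of
    intro s
    rw [map_sub, map_mul, theta_gamma, theta_unshift_egrp_mul, gamma_zero_right m hm, mul_zero,
      sub_zero])
  refine ⟨G, hG, ?_⟩
  intro A _ _ _ hA hAK x hx
  rw [hr1 A hA hAK x, hG2 A x hx]

/-- **division of `λ^n`** -/
theorem lam_div (hKb : IsBinomial K) (i₀ : ι) (d : ℕ) (F : Ops ι K) (n : ℕ) (hn : 1 ≤ n) :
    ∃ G : Ops ι K,
      ∀ (A : Type v) [CommRing A] [LambdaOps A] [Algebra K A], IsSpecial A → IsLambdaAlg K A →
        ∀ x : ι → A, (∀ k, d + 1 ≤ k → gamma (k + 1) (x i₀) = 0) →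
          LambdaOps.lam n (opg x (X (i₀, d) * F)) = gamma (d + 1) (x i₀) * opg x G := by
  obtain ⟨R', hr1, hr2⟩ := closureLG.{u, v, w} hKb (X (i₀, d) * F) n
  obtain ⟨G, _, hG2⟩ := div_core.{u, v, w} i₀ d R' 0 (fun _ _ => Nat.zero_le _) (by
    intro N₁
    have h1 := hr2 (MvPolynomial (Var (Mof i₀ d N₁)) K) isSpecial_mv (isLambdaAlg_mv hKb)
      (xU (Mof i₀ d N₁) K)
    rw [← h1, opg_xU_X_mul _ i₀ d (Mof_self i₀ d N₁)]
    apply egrp_dvd_shift_of
    intro s
    rw [theta_lam, theta_unshift_egrp_mul, lam_zero_right n hn])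
  refine ⟨G, ?_⟩
  intro A _ _ _ hA hAK x hx
  rw [hr1 A hA hAK x, hG2 A x hx]

end Main

end Groth.Agent.H9.Lambda
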